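import Cfsg.Agent.H90.Transvection

/-!
A torus element acting with an arbitrary eigenvalue on the moved part of two transvections.
-/

set_option autoImplicit false
set_option linter.unusedSectionVars false

namespace Cfsg.Agent.Cores.FusFive

open Cfsg.Agent.H90

variable {p : ℕ} [hp : Fact p.Prime] {E : Type*} [CommGroup E] [Finite E]
  {A : Subgroup (MulAut E)} {u : MulAut E} {Z T : Subgroup E}

/-- For `l * m ≡ 1` some element of `A` fixes a complement of `T` in `Z`, acts by `l` on `T` and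
by `m` modulo `Z`. -/
theorem exists_torus (D : TransData p A u Z T) {l m : ℕ} (hl : 1 ≤ l) (hlp : l ≤ p) (hm : 1 ≤ m)
    (hlm : l * m ≡ 1 [MOD p]) :
    ∃ C : Subgroup E, C ≤ Z ∧ (∀ z ∈ Z, ∃ c ∈ C, ∃ a ∈ T, z = c * a) ∧
      ∃ t ∈ A, (∀ c ∈ C, t c = c) ∧ (∀ a ∈ T, t a = a ^ l) ∧ ∀ x, t x * (x ^ m)⁻¹ ∈ Z := by
  obtain ⟨γ, hγ, hγu⟩ := D.not_normal
  obtain ⟨a₁, ha₁, hb₁Z⟩ : ∃ a ∈ T, γ a ∉ Z := by
    by_contra h
    push Not at h
    have h' : ∀ z ∈ Z, γ z ∈ Z := fun z hz => D.key hγ h hz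
    have := D.conj_mem (A.inv_mem hγ) fun a ha => D.stab_inv h' (D.le ha)
    rw [inv_inv] at this
    exact hγu this
  have ha1 : a₁ ≠ 1 := fun e => hb₁Z (by rw [e, map_one]; exact Z.one_mem)
  have hgT : ∀ {a : E}, a ∈ T → ∃ i : ℕ, a₁ ^ i = a := fun ha => exists_pow_eq D.card ha₁ ha1 ha
  set v := γ * u * γ⁻¹ with hvdef
  clear_value v
  have hvA : v ∈ A := hvdef ▸ A.mul_mem (A.mul_mem hγ D.mem) (A.inv_mem hγ)
  let H : Subgroup E := Z.comap (γ⁻¹ : MulAut E).toMonoidHom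
  have hH : ∀ {x : E}, x ∈ H ↔ γ⁻¹ x ∈ Z := Iff.rfl
  have hHi : H.index = p := by
    rw [← D.index]
    exact Subgroup.index_comap_of_surjective _ (γ⁻¹ : MulAut E).surjective
  have hvfix : ∀ x ∈ H, v x = x := fun x hx => by
    rw [hvdef, MulAut.mul_apply, MulAut.mul_apply, D.u_fix _ (hH.1 hx), MulAut.apply_inv_self]
  obtain ⟨d, hd'⟩ : ∃ d, a₁⁻¹ * v a₁ = d := ⟨_, rfl⟩
  obtain ⟨e₀, he₀, hde₀⟩ : ∃ e ∈ T, γ e = d := ⟨(γ⁻¹ a₁)⁻¹ * u (γ⁻¹ a₁), D.diff _, by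
    rw [← hd', map_mul, map_inv, MulAut.apply_inv_self, hvdef]
    rfl⟩
  have ha₁H : a₁ ∉ H := by
    intro h
    refine hγu ?_
    have h' : ∀ a ∈ T, γ⁻¹ a ∈ Z := fun a ha => by
      obtain ⟨i, rfl⟩ := hgT ha
      exact H.pow_mem h i
    have := D.conj_mem (A.inv_mem hγ) h'
    rw [inv_inv, ← hvdef] at this
    exact this
  have hd1 : d ≠ 1 := by
    intro e
    refine ha₁H (hH.2 ((D.fix_iff _).1 ?_))
    have h : v a₁ = a₁ := (inv_mul_eq_one.1 (hd'.trans e)).symm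
    rw [hvdef, MulAut.mul_apply, MulAut.mul_apply] at h
    conv_rhs => rw [← h, MulAut.inv_apply_self]
  have hdp : d ^ p = 1 := by rw [← hde₀, ← map_pow, D.T_pow _ he₀, map_one]
  have hdH : d ∈ H := hH.2 (by rw [← hde₀, MulAut.inv_apply_self]; exact D.le he₀)
  have hdZ : d ∉ Z := fun h => by
    have hne : e₀ ≠ 1 := fun e => hd1 (by rw [← hde₀, e, map_one])
    obtain ⟨i, hi⟩ := exists_pow_eq D.card he₀ hne ha₁
    exact hb₁Z (by rw [← hi, map_pow, hde₀]; exact Z.pow_mem h i)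
  obtain ⟨e, he, he'⟩ : ∃ e, e ∈ T ∧ d⁻¹ * u d = e := ⟨_, D.diff d, rfl⟩
  have he1 : e ≠ 1 := fun h => hdZ ((D.fix_iff d).1 (inv_mul_eq_one.1 (he'.trans h)).symm)
  obtain ⟨i, hi⟩ := exists_pow_eq D.card he he1 ha₁
  set u' := u ^ i with hu'
  have hu'A : u' ∈ A := A.pow_mem D.mem i
  have hu'Z : ∀ z ∈ Z, u' z = z := fun z hz =>
    D.zpowers_fix (Subgroup.npow_mem_zpowers u i) hz
  have hu'd : u' d = d * a₁ := by
    rw [hu', pow_apply_of_fix u (D.u_fix _ (D.le (D.diff d))) i, he', hi]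
  have hva : v a₁ = a₁ * d := inv_mul_eq_iff_eq_mul.1 hd'
  have hun : ∀ n : ℕ, (u' ^ n) a₁ = a₁ ∧ (u' ^ n) d = d * a₁ ^ n ∧ ∀ z ∈ Z, (u' ^ n) z = z := by
    intro n
    induction n with
    | zero => simp
    | succ n ih =>
      refine ⟨?_, ?_, fun z hz => ?_⟩
      · rw [pow_succ', MulAut.mul_apply, ih.1, hu'Z _ (D.le ha₁)]
      · rw [pow_succ', MulAut.mul_apply, ih.2.1, map_mul, map_pow, hu'Z _ (D.le ha₁), hu'd,
          pow_succ', mul_assoc]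
      · rw [pow_succ', MulAut.mul_apply, ih.2.2 z hz, hu'Z z hz]
  have hvn : ∀ n : ℕ, (v ^ n) a₁ = a₁ * d ^ n ∧ (v ^ n) d = d ∧ ∀ h ∈ H, (v ^ n) h = h := by
    intro n
    induction n with
    | zero => simp
    | succ n ih =>
      refine ⟨?_, ?_, fun h hh => ?_⟩
      · rw [pow_succ', MulAut.mul_apply, ih.1, map_mul, map_pow, hvfix d hdH, hva, pow_succ',
          mul_assoc]
      · rw [pow_succ', MulAut.mul_apply, ih.2.1, hvfix d hdH]
      · rw [pow_succ', MulAut.mul_apply, ih.2.2 h hh, hvfix h hh]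
  set t := u' ^ (l - 1) * v * u' ^ (m - 1) * v ^ (p - l) with htdef
  clear_value t
  have htA : t ∈ A := htdef ▸ A.mul_mem (A.mul_mem (A.mul_mem (A.pow_mem hu'A _) hvA)
    (A.pow_mem hu'A _)) (A.pow_mem hvA _)
  have hap : a₁ ^ p = 1 := D.T_pow a₁ ha₁
  obtain ⟨k, hk⟩ : ∃ k, l * m = 1 + p * k :=
    ⟨l * m / p, by
      conv_lhs => rw [← Nat.mod_add_div (l * m) p]
      rw [show l * m % p = 1 from Eq.trans (hlm : l * m % p = 1 % p) (Nat.mod_eq_of_lt hp.out.one_lt)]⟩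
  have hml : (l - 1) * m + (m - 1) = p * k := by
    rw [Nat.sub_one_mul]
    have : m ≤ l * m := Nat.le_mul_of_pos_left m hl
    omega
  have htd : t d = d ^ m := by
    rw [htdef, MulAut.mul_apply, MulAut.mul_apply, MulAut.mul_apply, (hvn _).2.1, (hun _).2.1,
      map_mul v, map_pow v, hva, hvfix d hdH, map_mul (u' ^ (l - 1)), map_pow, map_mul (u' ^ (l - 1)),
      (hun (l - 1)).1, (hun (l - 1)).2.1]
    calc d * a₁ ^ (l - 1) * (a₁ * (d * a₁ ^ (l - 1))) ^ (m - 1)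
        = a₁ ^ ((l - 1) * m + (m - 1)) * d ^ m := by
          obtain ⟨m', rfl⟩ : ∃ m', m = m' + 1 := ⟨m - 1, by omega⟩
          simp only [Nat.add_sub_cancel, mul_pow, ← pow_mul]
          rw [mul_add_one, pow_succ' d m', pow_add, pow_add, mul_comm (l - 1) m']
          simp only [mul_assoc, mul_comm, mul_left_comm]
      _ = d ^ m := by rw [hml, pow_mul, hap, one_pow, one_mul]
  have hta : t a₁ = a₁ ^ l := by
    have h1 : t a₁ = (u' ^ (l - 1)) a₁ * (u' ^ (l - 1)) d * (t d) ^ (p - l) := by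
      rw [htdef, MulAut.mul_apply, MulAut.mul_apply, MulAut.mul_apply, (hvn _).1, map_mul,
        map_pow, map_mul v, map_pow v, (hun (m - 1)).1, hva, map_mul, map_mul, map_pow,
        MulAut.mul_apply, MulAut.mul_apply, MulAut.mul_apply, (hvn (p - l)).2.1]
    rw [h1, htd, (hun _).1, (hun _).2.1]
    have e2 : 1 + m * (p - l) = p * m - p * k := by
      rw [Nat.mul_sub, mul_comm p m, mul_comm m l, hk]
      have : l * m ≤ m * p := by rw [mul_comm l m]; exact Nat.mul_le_mul_left m hlp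
      omega
    calc a₁ * (d * a₁ ^ (l - 1)) * (d ^ m) ^ (p - l)
        = a₁ ^ (l - 1 + 1) * d ^ (1 + m * (p - l)) := by
          rw [pow_add, pow_add, pow_one, pow_one, ← pow_mul]
          ac_rfl
      _ = a₁ ^ l := by
          rw [e2, ← Nat.mul_sub, pow_mul, hdp, one_pow, mul_one, Nat.sub_add_cancel hl]
  have hCfix : ∀ c ∈ Z ⊓ H, t c = c := fun c hc => by
    rw [htdef, MulAut.mul_apply, MulAut.mul_apply, MulAut.mul_apply, (hvn _).2.2 c hc.2,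
      (hun _).2.2 c hc.1, hvfix c hc.2, (hun _).2.2 c hc.1]
  have hZdec : ∀ z ∈ Z, ∃ c ∈ Z ⊓ H, ∃ a ∈ T, z = c * a := by
    intro z hz
    obtain ⟨j, hj⟩ := exists_pow_div_mem hHi ha₁H z
    exact ⟨_, ⟨Z.mul_mem hz (Z.inv_mem (Z.pow_mem (D.le ha₁) j)), hj⟩, a₁ ^ j, T.pow_mem ha₁ j,
      (inv_mul_cancel_right z (a₁ ^ j)).symm⟩
  have htT : ∀ a ∈ T, t a = a ^ l := fun a ha => by
    obtain ⟨j, rfl⟩ := hgT ha
    rw [map_pow, hta, ← pow_mul, ← pow_mul, mul_comm]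
  have htZ : ∀ z ∈ Z, t z ∈ Z := fun z hz => by
    obtain ⟨c, hc, a, ha, rfl⟩ := hZdec z hz
    rw [map_mul, hCfix c hc, htT a ha]
    exact Z.mul_mem hc.1 (Z.pow_mem (D.le ha) l)
  refine ⟨Z ⊓ H, inf_le_left, hZdec, t, htA, hCfix, htT, fun x => ?_⟩
  obtain ⟨j, hj⟩ := exists_pow_div_mem D.index hdZ x
  have hx : x = x * (d ^ j)⁻¹ * d ^ j := (inv_mul_cancel_right x (d ^ j)).symm
  rw [hx, map_mul, map_pow, htd, mul_pow (x * (d ^ j)⁻¹), ← pow_mul, ← pow_mul, mul_comm j m,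
    mul_inv, show t (x * (d ^ j)⁻¹) * d ^ (m * j) *
      (((x * (d ^ j)⁻¹) ^ m)⁻¹ * (d ^ (m * j))⁻¹) = t (x * (d ^ j)⁻¹) * ((x * (d ^ j)⁻¹) ^ m)⁻¹ by
      rw [mul_comm (((x * (d ^ j)⁻¹) ^ m)⁻¹), mul_assoc, ← mul_assoc (d ^ (m * j)),
        mul_inv_cancel, one_mul]]
  exact Z.mul_mem (htZ _ hj) (Z.inv_mem (Z.pow_mem hj m))

end Cfsg.Agent.Cores.FusFive
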