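import Cfsg.Agent.Cores.FusFive.Tools
import Cfsg.Agent.Cores.FusFive.Torus

/-!
Abelian essential subgroups: small ones are elementary, and torus elements extend to the normalizer.
-/

set_option autoImplicit false
set_option linter.unusedSectionVars false
set_option linter.style.haveILetI false

namespace Cfsg.Agent.Cores.FusFive

open Cfsg Cfsg.FusionSystem Cfsg.Agent.FusionSys
open scoped commutatorElement

universe u

variable {Ω : Type u} [Group Ω] {p : ℕ} [hp : Fact p.Prime] {S : Subgroup Ω} [Finite S]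
  {F : FusionSystem S}

/-- The `n`-th powers in an abelian subgroup. -/
def powImg (E : Subgroup Ω) (hab : ∀ x ∈ E, ∀ y ∈ E, Commute x y) (n : ℕ) : Subgroup Ω where
  carrier := {y | ∃ x ∈ E, x ^ n = y}
  one_mem' := ⟨1, E.one_mem, one_pow n⟩
  mul_mem' := by
    rintro _ _ ⟨x, hx, rfl⟩ ⟨y, hy, rfl⟩
    exact ⟨x * y, E.mul_mem hx hy, (hab x hx y hy).mul_pow n⟩
  inv_mem' := by
    rintro _ ⟨x, hx, rfl⟩
    exact ⟨x⁻¹, E.inv_mem hx, inv_pow x n⟩

/-- The elements of an abelian subgroup killed by `n`. -/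
def powKer (E : Subgroup Ω) (hab : ∀ x ∈ E, ∀ y ∈ E, Commute x y) (n : ℕ) : Subgroup Ω where
  carrier := {x | x ∈ E ∧ x ^ n = 1}
  one_mem' := ⟨E.one_mem, one_pow n⟩
  mul_mem' := fun {x y} hx hy =>
    ⟨E.mul_mem hx.1 hy.1, by rw [(hab x hx.1 y hy.1).mul_pow, hx.2, hy.2, one_mul]⟩
  inv_mem' := fun {x} hx => ⟨E.inv_mem hx.1, by rw [inv_pow, hx.2, inv_one]⟩

variable {E : Subgroup Ω} {hab : ∀ x ∈ E, ∀ y ∈ E, Commute x y} {n : ℕ}

theorem powImg_le : powImg E hab n ≤ E := by
  rintro _ ⟨x, hx, rfl⟩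
  exact E.pow_mem hx n

theorem powKer_le : powKer E hab n ≤ E := fun _ hx => hx.1

theorem card_powKer_mul_powImg (hab : ∀ x ∈ E, ∀ y ∈ E, Commute x y) (n : ℕ) :
    Nat.card (powKer E hab n) * Nat.card (powImg E hab n) = Nat.card E := by
  let φ : E →* powImg E hab n := MonoidHom.mk' (fun x => ⟨(x : Ω) ^ n, x, x.2, rfl⟩) fun x y =>
    Subtype.ext ((hab x x.2 y y.2).mul_pow n)
  have hs : Function.Surjective φ := by
    rintro ⟨_, x, hx, rfl⟩
    exact ⟨⟨x, hx⟩, rfl⟩
  rw [Subgroup.card_eq_card_quotient_mul_card_subgroup φ.ker,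
    Nat.card_congr (QuotientGroup.quotientKerEquivOfSurjective φ hs).toEquiv, mul_comm]
  congr 1
  exact Nat.card_congr
    { toFun := fun x => ⟨⟨x, x.2.1⟩, MonoidHom.mem_ker.2 (Subtype.ext x.2.2)⟩
      invFun := fun x => ⟨((x : E) : Ω), x.1.2, congrArg Subtype.val (MonoidHom.mem_ker.1 x.2)⟩
      left_inv := fun x => rfl
      right_inv := fun x => rfl }

theorem powImg_inv (α : MulAut E) {H : Subgroup Ω} (hHE : H ≤ E)
    (habH : ∀ x ∈ H, ∀ y ∈ H, Commute x y) (h : Inv α H) : Inv α (powImg H habH n) := by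
  rintro _ ⟨x, hx, rfl⟩
  exact ⟨autMap α x, h x hx, (autMap_pow' α (hHE hx) n).symm⟩

theorem powKer_inv (α : MulAut E) : Inv α (powKer E hab n) := fun x hx =>
  ⟨autMap_mem α hx.1, by rw [← autMap_pow' α hx.1, hx.2, autMap_one']⟩

theorem le_card_powKer (hS : IsPGroup p S) (hES : E ≤ S) (hne : E ≠ ⊥)
    (hab : ∀ x ∈ E, ∀ y ∈ E, Commute x y) : p ≤ Nat.card (powKer E hab p) := by
  haveI := finite_of_le hES
  haveI : Nontrivial E := (Subgroup.nontrivial_iff_ne_bot E).mpr hne
  obtain ⟨m, hm0, hm⟩ := (hS.to_le hES).nontrivial_iff_card.mp inferInstance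
  obtain ⟨x, hx⟩ := exists_prime_orderOf_dvd_card' p (hm ▸ dvd_pow_self p (ne_of_gt hm0))
  rw [← Subgroup.orderOf_coe] at hx
  have hxK : (x : Ω) ∈ powKer E hab p := ⟨x.2, by rw [← hx]; exact pow_orderOf_eq_one _⟩
  calc p = Nat.card (Subgroup.zpowers (x : Ω)) := by rw [Nat.card_zpowers, hx]
    _ ≤ _ := by
      haveI := finite_of_le ((powKer_le (hab := hab) (n := p)).trans hES)
      exact Subgroup.card_le_of_le (Subgroup.zpowers_le.2 hxK)

/-- A four step chain starting at the trivial group. -/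
def chain4 (A B C E : Subgroup Ω) : ℕ → Subgroup Ω
  | 0 => ⊥
  | 1 => A
  | 2 => B
  | 3 => C
  | _ + 4 => E

theorem chain4_mono {A B C E : Subgroup Ω} (h1 : A ≤ B) (h2 : B ≤ C) (h3 : C ≤ E) :
    Monotone (chain4 A B C E) := monotone_nat_of_le_succ fun
  | 0 => bot_le
  | 1 => h1
  | 2 => h2
  | 3 => h3
  | _ + 4 => le_rfl

/-- Equal or a step of order `p`. -/
def Step (p : ℕ) (A B : Subgroup Ω) : Prop := B = A ∨ Nat.card B = p * Nat.card A

/-- No invariant chain of short steps in an essential subgroup. -/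
theorem false_of_chain4 (hS : IsPGroup p S) (hF : F.IsSaturated p) (hE : F.IsEssential p E)
    {A B C : Subgroup Ω} (h1 : A ≤ B) (h2 : B ≤ C) (h3 : C ≤ E)
    (s0 : Step p ⊥ A) (s1 : Step p A B) (s2 : Step p B C) (s3 : Step p C E)
    (iA : ∀ α ∈ F.autGroup E, Inv α A) (iB : ∀ α ∈ F.autGroup E, Inv α B)
    (iC : ∀ α ∈ F.autGroup E, Inv α C) : False := by
  refine false_of_steps hS hF hE (chain4 A B C E) (chain4_mono h1 h2 h3) rfl (N := 4) rfl
    (fun
      | 0 => bot_le
      | 1 => h1.trans (h2.trans h3)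
      | 2 => h2.trans h3
      | 3 => h3
      | _ + 4 => le_rfl) (fun
      | 0 => s0
      | 1 => s1
      | 2 => s2
      | 3 => s3
      | _ + 4 => Or.inl rfl) fun α hα => fun
      | 0 => fun y hy => by rw [Subgroup.mem_bot.1 hy, autMap_one']; exact one_mem _
      | 1 => iA α hα
      | 2 => iB α hα
      | 3 => iC α hα
      | _ + 4 => inv_self α

/-- An invariant chain of short steps, normalized by `N_S(P)`, lets every automorphism extend. -/
theorem extend_chain4 (hS : IsPGroup p S) (hF : F.IsSaturated p) {P : Subgroup Ω}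
    (hP : F.IsFullyNormalized P) {A B C : Subgroup Ω} (h1 : A ≤ B) (h2 : B ≤ C) (h3 : C ≤ P)
    (s0 : Step p ⊥ A) (s1 : Step p A B) (s2 : Step p B C) (s3 : Step p C P)
    (nA : Nml (normalizerIn S P) A) (nB : Nml (normalizerIn S P) B) (nC : Nml (normalizerIn S P) C)
    (iA : ∀ α ∈ F.autGroup P, Inv α A) (iB : ∀ α ∈ F.autGroup P, Inv α B)
    (iC : ∀ α ∈ F.autGroup P, Inv α C) {α : MulAut P} (hα : α ∈ F.autGroup P) :
    ∃ β ∈ F.autGroup (normalizerIn S P), ∀ x ∈ P, autMap β x = autMap α x := by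
  haveI := finite_of_le (normalizerIn_le : normalizerIn S P ≤ S)
  have hPN := le_normalizerIn_self hP.1
  have nP : Nml (normalizerIn S P) P := fun g hg x hx => conj_mem_of_mem_normalizerIn hg hx
  refine extend_of_chain hS hF hP (chain4 A B C P) (chain4_mono h1 h2 h3) rfl (N := 4) le_rfl
    (fun α hα => fun
      | 0 => fun y _ hy => by rw [Subgroup.mem_bot.1 hy, autMap_one']; exact one_mem _
      | 1 => fun y _ => iA α hα y
      | 2 => fun y _ => iB α hα y
      | 3 => fun y _ => iC α hα y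
      | _ + 4 => fun y _ => inv_self α y) ?_ hα
  have key : ∀ {X Y : Subgroup Ω}, X ≤ Y → Y ≤ P → Nml (normalizerIn S P) X →
      Nml (normalizerIn S P) Y → Step p X Y → ∀ g ∈ normalizerIn S P, ∀ y ∈ Y,
      y⁻¹ * (g * y * g⁻¹) ∈ X := by
    intro X Y hXY hYP nX nY hst g hg y hy
    rcases hst with e | hst
    · rw [e] at hy
      exact X.mul_mem (X.inv_mem hy) (nX g hg y hy)
    · exact conj_div_mem (hS.to_le normalizerIn_le) hXY (hYP.trans hPN) nX nY hst hg hy
  intro g hg k y _ hy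
  match k with
  | 0 => exact key bot_le (h1.trans (h2.trans h3)) nml_bot nA s0 g hg y hy
  | 1 => exact key h1 (h2.trans h3) nA nB s1 g hg y hy
  | 2 => exact key h2 h3 nB nC s2 g hg y hy
  | 3 => exact key h3 le_rfl nC nP s3 g hg y hy
  | _ + 4 => exact key le_rfl le_rfl nP nP (Or.inl rfl) g hg y hy

/-- An abelian essential subgroup of order at most `p ^ 3` is elementary. -/
theorem elementary_of_essential (hS : IsPGroup p S) (hF : F.IsSaturated p) (hE : F.IsEssential p E)
    (hab : ∀ x ∈ E, ∀ y ∈ E, Commute x y) {k : ℕ} (hk : k ≤ 3) (hc : Nat.card E = p ^ k) :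
    ∀ x ∈ E, x ^ p = 1 := by
  by_contra hne
  push Not at hne
  obtain ⟨x, hx, hxp⟩ := hne
  have hES := hE.1.1
  haveI := finite_of_le hES
  have hEne : E ≠ ⊥ := fun h => hxp (by
    rw [h, Subgroup.mem_bot] at hx
    rw [hx, one_pow])
  set R := powImg E hab p with hR
  set K := powKer E hab p with hK
  have hRE : R ≤ E := powImg_le
  have hKE : K ≤ E := powKer_le
  have habR : ∀ a ∈ R, ∀ b ∈ R, Commute a b := fun a ha b hb => hab a (hRE ha) b (hRE hb)
  have hRne : R ≠ ⊥ := fun h => hxp (Subgroup.mem_bot.1 (h ▸ ⟨x, hx, rfl⟩ : x ^ p ∈ (⊥ : Subgroup Ω)))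
  obtain ⟨r, hr⟩ := exists_card_eq hS (hRE.trans hES)
  obtain ⟨j, hj⟩ := exists_card_eq hS (hKE.trans hES)
  have hr0 : r ≠ 0 := fun h => hRne (Subgroup.card_eq_one.1 (by rw [hr, h, pow_zero]))
  have hj0 : j ≠ 0 := fun h => by
    have h' := le_card_powKer hS hES hEne hab
    rw [← hK, hj, h, pow_zero] at h'
    exact h'.not_gt hp.out.one_lt
  have hmul := card_powKer_mul_powImg hab p
  rw [← hR, ← hK, hr, hj, ← pow_add, hc] at hmul
  have hjr := Nat.pow_right_injective hp.out.two_le hmul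
  have iR : ∀ α ∈ F.autGroup E, Inv α R := fun α _ => powImg_inv α le_rfl hab (inv_self α)
  by_cases hr1 : r = 1
  · subst hr1
    have hRK : R ≤ K := fun y hy => ⟨hRE hy, by
      haveI := finite_of_le (hRE.trans hES)
      have h1 : (⟨y, hy⟩ : R) ^ p = 1 := by
        have h := pow_card_eq_one' (G := R) (x := ⟨y, hy⟩)
        rwa [hr, pow_one] at h
      exact congrArg Subtype.val h1⟩
    refine false_of_chain4 hS hF hE hRK hKE le_rfl (Or.inr (by simp [hr])) ?_ (Or.inr ?_) (Or.inl rfl)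
      iR (fun α _ => powKer_inv α) fun α _ => inv_self α
    · rcases (show j = 1 ∨ j = 2 by omega) with rfl | rfl
      · exact Or.inl (eq_of_card (hKE.trans hES) hRK (by rw [hj, hr])).symm
      · exact Or.inr (by rw [hj, hr]; ring)
    · rw [hc, hj, ← pow_succ']
      congr 1
      omega
  · have h2 : r = 2 ∧ j = 1 ∧ k = 3 := by omega
    obtain ⟨rfl, rfl, rfl⟩ := h2
    set R' := powImg R habR p with hR'
    have hmul' := card_powKer_mul_powImg habR p
    have h1 : Nat.card (powKer R habR p) = p := by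
      refine le_antisymm ?_ (le_card_powKer hS (hRE.trans hES) hRne habR)
      haveI := finite_of_le (hKE.trans hES)
      calc _ ≤ Nat.card K :=
            Subgroup.card_le_of_le (show powKer R habR p ≤ K from fun y hy => ⟨hRE hy.1, hy.2⟩)
        _ = p := by rw [hj, pow_one]
    have hR'c : Nat.card R' = p := by
      rw [h1, hr, pow_two] at hmul'
      exact Nat.eq_of_mul_eq_mul_left hp.out.pos hmul'
    exact false_of_chain4 hS hF hE (A := R') (B := R) (C := E) powImg_le hRE le_rfl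
      (Or.inr (by simp [hR'c])) (Or.inr (by rw [hr, hR'c]; ring)) (Or.inr (by rw [hc, hr]; ring))
      (Or.inl rfl) (fun α hα => powImg_inv α hRE habR (iR α hα)) iR fun α _ => inv_self α

/-- A torus element for an abelian essential subgroup of index `p` in its normalizer, on the
normalizer. -/
theorem torus_extend (hS : IsPGroup p S) (hF : F.IsSaturated p) (hE : F.IsEssential p E)
    (hab : ∀ x ∈ E, ∀ y ∈ E, Commute x y) {g : Ω} (hg : g ∈ normalizerIn S E) (hgE : g ∉ E)
    (hN : Nat.card (normalizerIn S E) = p * Nat.card E) {Y T : Subgroup Ω} (hTY : T ≤ Y) (hYE : Y ≤ E)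
    (hT : Nat.card T = p) (hY : Nat.card E = p * Nat.card Y)
    (hfix : ∀ x ∈ E, g * x * g⁻¹ = x ↔ x ∈ Y) (hdiff : ∀ x ∈ E, x⁻¹ * (g * x * g⁻¹) ∈ T)
    {l m : ℕ} (hl : 1 ≤ l) (hlp : l ≤ p) (hm : 1 ≤ m) (hlm : l * m ≡ 1 [MOD p]) :
    ∃ C : Subgroup Ω, C ≤ Y ∧ (∀ y ∈ Y, ∃ c ∈ C, ∃ a ∈ T, y = c * a) ∧
      ∃ β ∈ F.autGroup (normalizerIn S E), Inv β E ∧ (∀ c ∈ C, autMap β c = c) ∧
        (∀ a ∈ T, autMap β a = a ^ l) ∧ ∀ x ∈ E, autMap β x * (x ^ m)⁻¹ ∈ Y := by
  have hES := hE.1.1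
  have hNS : normalizerIn S E ≤ S := normalizerIn_le
  haveI := finite_of_le hES
  haveI := finite_of_le hNS
  haveI := finite_autGroup F hES
  haveI := finite_mulAut_of_le (S := S) hES
  letI : CommGroup ↥E :=
    { (inferInstance : Group ↥E) with mul_comm := fun a b => Subtype.ext (hab a a.2 b b.2) }
  have hC : centralizerIn S E = E :=
    le_antisymm (centralizerIn_le_of_isCentric hE.1)
      fun x hx => mem_centralizerIn.2 ⟨hES hx, fun y hy => hab y hy x hx⟩
  set u : MulAut ↥E := conjAut hg.2 with hu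
  have huA : u ∈ F.autGroup E := conjAut_mem_autGroup F hES hg
  have hQcard : Nat.card (autInducedBy S E) = p := by
    have h := card_normalizerIn S E
    rw [hN, hC] at h
    exact (Nat.eq_of_mul_eq_mul_right Nat.card_pos h).symm
  have hu1 : u ≠ 1 := fun h => hgE (hC.le (mem_centralizerIn.2 ⟨hg.1, fun y hy => by
    have h1 : g * y * g⁻¹ = y := by
      have := congrArg (fun a : MulAut ↥E => ((a ⟨y, hy⟩ : ↥E) : Ω)) h
      exact this
    exact (mul_inv_eq_iff_eq_mul.1 h1).symm⟩))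
  have huQ : u ∈ autInducedBy S E := mem_autInducedBy.2 ⟨g, hg.1, hg.2, rfl⟩
  have hQ : autInducedBy S E = Subgroup.zpowers u := by
    haveI : Finite (autInducedBy S E) := Finite.of_injective _ Subtype.val_injective
    refine le_antisymm (fun a ha => ?_) (Subgroup.zpowers_le.2 huQ)
    obtain ⟨i, hi⟩ : (⟨a, ha⟩ : autInducedBy S E) ∈ Submonoid.powers (⟨u, huQ⟩ : autInducedBy S E) :=
      mem_powers_of_prime_card hQcard fun h => hu1 (congrArg Subtype.val h)
    exact ⟨i, by simpa using congrArg Subtype.val hi⟩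
  have hIE : Inn ↥E = ⊥ := eq_bot_iff.2 (by
    rintro _ ⟨e, rfl⟩
    refine MulEquiv.ext fun y => ?_
    show e * y * e⁻¹ = y
    rw [mul_comm e y, mul_inv_cancel_right])
  have D : H90.TransData p (F.autGroup E) u (Y.subgroupOf E) (T.subgroupOf E) := by
    refine ⟨huA, fun x => ?_, fun x => hdiff x x.2, Subgroup.comap_mono hTY, ?_, ?_, ?_, ?_⟩
    · rw [Subgroup.mem_subgroupOf, ← hfix x x.2]
      exact Subtype.ext_iff
    · rw [Nat.card_congr (Subgroup.subgroupOfEquivOfLe (hTY.trans hYE)).toEquiv, hT]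
    · have h := Subgroup.card_mul_index (Y.subgroupOf E)
      rw [Nat.card_congr (Subgroup.subgroupOfEquivOfLe hYE).toEquiv, hY, mul_comm p] at h
      haveI := finite_of_le (hYE.trans hES)
      exact Nat.eq_of_mul_eq_mul_left Nat.card_pos h
    · intro P hPA hPp huP
      obtain ⟨-, R, hR⟩ := isFullyAutomized_of_isFullyNormalized hS hF hE.2.1
      obtain ⟨Q, hQle⟩ := (hPp.of_equiv (Subgroup.subgroupOfEquivOfLe hPA).symm).exists_le_sylow
      have h1 : Nat.card P ≤ Nat.card (Subgroup.zpowers u) := by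
        rw [← hQ, ← Nat.card_congr (Subgroup.subgroupOfEquivOfLe hPA).toEquiv,
          ← Nat.card_congr (Subgroup.subgroupOfEquivOfLe (autInducedBy_le_autGroup F hES)).toEquiv,
          ← hR]
        exact (Subgroup.card_le_of_le hQle).trans (Nat.card_congr (Sylow.equiv Q R).toEquiv).le
      exact (Subgroup.eq_of_le_of_card_ge (Subgroup.zpowers_le.2 huP) h1).ge
    · by_contra hn
      push Not at hn
      let U := (Subgroup.zpowers u).subgroupOf (F.autGroup E)
      have hUn : U.Normal := by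
        refine ⟨fun x hx γ => ?_⟩
        obtain ⟨i, hi'⟩ := hx
        refine Subgroup.mem_subgroupOf.2 ?_
        show (γ : MulAut ↥E) * (x : MulAut ↥E) * (γ : MulAut ↥E)⁻¹ ∈ _
        rw [show (x : MulAut ↥E) = u ^ i from hi'.symm, ← conj_zpow]
        exact Subgroup.zpow_mem _ (hn γ γ.2) i
      have hUle : U ≤ pCore p (F.autGroup E) := le_sSup
        ⟨hUn, ((isPGroup_autInducedBy hS E).to_le hQ.ge).of_equiv
          (Subgroup.subgroupOfEquivOfLe (Subgroup.zpowers_le.2 huA)).symm⟩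
      have hmem : u ∈ (pCore p (F.autGroup E)).map (F.autGroup E).subtype :=
        ⟨⟨u, huA⟩, hUle (Subgroup.mem_subgroupOf.2 (Subgroup.mem_zpowers u)), rfl⟩
      rw [(isRadical_of_isEssential hS hE).2, hIE, Subgroup.mem_bot] at hmem
      exact hu1 hmem
  obtain ⟨C, hCY, hdec, t, htA, htC, htT, htm⟩ := exists_torus D hl hlp hm hlm
  -- `t` normalizes the automorphisms induced by `S`
  have hcj : t * u * t⁻¹ ∈ Subgroup.zpowers u := by
    have hinv : ∀ a ∈ T.subgroupOf E, t a ∈ T.subgroupOf E := fun a ha => by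
      rw [htT a ha]; exact (T.subgroupOf E).pow_mem ha l
    obtain hsurj := Finite.surjective_of_injective
      (f := fun a : T.subgroupOf E => (⟨t a, hinv a a.2⟩ : T.subgroupOf E))
      fun a b hab' => Subtype.ext (t.injective (congrArg Subtype.val hab'))
    have h := D.conj_mem ((F.autGroup E).inv_mem htA) fun a ha => by
      obtain ⟨⟨b, hb⟩, e⟩ := hsurj ⟨a, ha⟩
      rw [← show t b = a from congrArg Subtype.val e, MulAut.inv_apply_self]
      exact D.le hb
    rwa [inv_inv] at h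
  obtain ⟨β, hβ, hβe⟩ := extend_of_conj hS hF hE.2.1 htA fun x hx => by
    have hx' : conjAut hx.2 ∈ Subgroup.zpowers u := hQ ▸ mem_autInducedBy.2 ⟨x, hx.1, hx.2, rfl⟩
    obtain ⟨i, hi⟩ := hx'
    rw [hQ, ← hi, ← conj_zpow]
    exact Subgroup.zpow_mem _ hcj i
  have hβt : ∀ {x : Ω} (hx : x ∈ E), autMap β x = ((t ⟨x, hx⟩ : ↥E) : Ω) := fun {x} hx => by
    rw [hβe x hx, autMap_apply t hx]
  refine ⟨C.map E.subtype, ?_, fun y hy => ?_, β, hβ, fun x hx => ?_, ?_, fun a ha => ?_, fun x hx => ?_⟩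
  · rintro _ ⟨c, hc, rfl⟩
    exact hCY hc
  · obtain ⟨c, hc, a, ha, e⟩ := hdec ⟨y, hYE hy⟩ hy
    exact ⟨c, ⟨c, hc, rfl⟩, a, ha, congrArg Subtype.val e⟩
  · rw [hβt hx]; exact SetLike.coe_mem _
  · rintro _ ⟨c, hc, rfl⟩
    rw [Subgroup.subtype_apply, hβt c.2]
    exact congrArg Subtype.val (htC c hc)
  · rw [hβt (hYE (hTY ha))]
    exact congrArg Subtype.val (htT ⟨a, hYE (hTY ha)⟩ ha)
  · rw [hβt hx]
    exact htm ⟨x, hx⟩

end Cfsg.Agent.Cores.FusFive
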