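import Cfsg.Agent.H90.Normal
import Cfsg.Agent.H90.Transvection
import Cfsg.Agent.FusionSys.Normal
import Cfsg.Agent.PGroups.Basic

/-!
General facts about essential subgroups: invariant chains with steps of order `p`, extension of
automorphisms to normalizers and classes of subgroups between two normal subgroups.
-/

set_option autoImplicit false
set_option linter.unusedSectionVars false
set_option linter.style.haveILetI false

namespace Cfsg.Agent.Cores.FusFive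

open Cfsg Cfsg.FusionSystem Cfsg.Agent.FusionSys
open scoped commutatorElement

universe u

variable {Ω : Type u} [Group Ω] {p : ℕ} [hp : Fact p.Prime]

/-- A `p`-group centralizes a normal section of order `p`. -/
theorem conj_div_mem {H : Subgroup Ω} [Finite H] (hH : IsPGroup p H) {A B : Subgroup Ω}
    (hAB : A ≤ B) (hBH : B ≤ H) (hAn : ∀ g ∈ H, ∀ a ∈ A, g * a * g⁻¹ ∈ A)
    (hBn : ∀ g ∈ H, ∀ b ∈ B, g * b * g⁻¹ ∈ B) (hc : Nat.card B = p * Nat.card A)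
    {g : Ω} (hg : g ∈ H) {b : Ω} (hb : b ∈ B) : b⁻¹ * (g * b * g⁻¹) ∈ A := by
  have hAH := hAB.trans hBH
  haveI hAN : (A.subgroupOf H).Normal := ⟨fun a ha g => hAn g g.2 a ha⟩
  haveI hBN : (B.subgroupOf H).Normal := ⟨fun a ha g => hBn g g.2 a ha⟩
  set q := QuotientGroup.mk' (A.subgroupOf H) with hq
  set Bq := (B.subgroupOf H).map q with hBq
  haveI : Bq.Normal := hBN.map q (QuotientGroup.mk'_surjective _)
  have hqg : IsPGroup p (↥H ⧸ A.subgroupOf H) := hH.to_quotient _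
  have hcard : Nat.card Bq = p := by
    have h1 : Nat.card Bq * Nat.card ↥(A.subgroupOf H) = Nat.card ↥(B.subgroupOf H) := by
      have h := Subgroup.card_mul_index ((A.subgroupOf H).subgroupOf (B.subgroupOf H))
      rw [Nat.card_congr (Subgroup.subgroupOfEquivOfLe
        (fun x hx => hAB hx : A.subgroupOf H ≤ B.subgroupOf H)).toEquiv] at h
      rw [hBq, ← Subgroup.relIndex_ker (B.subgroupOf H) q, hq, QuotientGroup.ker_mk', mul_comm]
      exact h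
    rw [Nat.card_congr (Subgroup.subgroupOfEquivOfLe hAH).toEquiv,
      Nat.card_congr (Subgroup.subgroupOfEquivOfLe hBH).toEquiv, hc] at h1
    haveI : Finite A := Finite.of_injective (Subgroup.inclusion hAH) (Subgroup.inclusion_injective hAH)
    exact Nat.eq_of_mul_eq_mul_right Nat.card_pos h1
  have hmem : q ⟨b, hBH hb⟩ ∈ Bq := ⟨_, hb, rfl⟩
  have hcen : q ⟨b, hBH hb⟩ ∈ Subgroup.center (↥H ⧸ A.subgroupOf H) := by
    have hle : Bq ≤ Subgroup.center _ := PGroups.le_center_of_card_eq hqg Bq hcard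
    exact hle hmem
  have h : (⟨b, hBH hb⟩⁻¹ * (⟨g, hg⟩ * ⟨b, hBH hb⟩ * ⟨g, hg⟩⁻¹) : ↥H) ∈ A.subgroupOf H := by
    rw [← QuotientGroup.eq_one_iff]
    show q _ = 1
    simp only [map_mul, map_inv]
    rw [Subgroup.mem_center_iff.1 hcen (q ⟨g, hg⟩), mul_inv_cancel_right, inv_mul_cancel]
  exact h

variable {S : Subgroup Ω} [Finite S] {F : FusionSystem S}

/-- An element of `N_S(E)` stabilizing an invariant chain of `E` lies in `E`. -/
theorem mem_of_chain (hS : IsPGroup p S) {E : Subgroup Ω} (hE : F.IsEssential p E)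
    (c : ℕ → Subgroup Ω) (hmono : Monotone c) (h0 : c 0 = ⊥) {N : ℕ} (hN : E ≤ c N)
    (hinv : ∀ α ∈ F.autGroup E, ∀ k, ∀ y ∈ E, y ∈ c k → autMap α y ∈ c k)
    {g : Ω} (hg : g ∈ normalizerIn S E)
    (hst : ∀ k, ∀ y ∈ E, y ∈ c (k + 1) → y⁻¹ * (g * y * g⁻¹) ∈ c k) : g ∈ E := by
  have hES := hE.1.1
  haveI := finite_autGroup F hES
  have hinv' : ∀ α ∈ F.autGroup E, ∀ (k : ℕ) (x : ↥E), (x : Ω) ∈ c k → ((α x : ↥E) : Ω) ∈ c k :=
    fun α hα k x hx => by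
      have := hinv α hα k x x.2 hx
      rwa [autMap_coe] at this
  let K := H90.chainStab F E c hmono hinv'
  have hKn : K.Normal := H90.chainStab_normal F E c hmono hinv'
  have hKp : IsPGroup p K := H90.chainStab_isPGroup hS F E hES c hmono hinv' h0 hN
  have hgA := conjAut_mem_autGroup F hES hg
  have hgK : (⟨_, hgA⟩ : F.autGroup E) ∈ K := fun k x hx => by
    show (x : Ω)⁻¹ * ((conjAut hg.2 x : ↥E) : Ω) ∈ c k
    exact hst k x x.2 hx
  have hmem : conjAut hg.2 ∈ Inn ↥E := by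
    rw [← (isRadical_of_isEssential hS hE).2]
    exact ⟨_, (le_sSup (show K ∈ {N : Subgroup (F.autGroup E) | N.Normal ∧ IsPGroup p N} from
      ⟨hKn, hKp⟩)) hgK, rfl⟩
  exact mem_of_conjAut_mem_inn (centralizerIn_le_of_isCentric hE.1) hES hg.1 hg.2 hmem

/-- An essential subgroup has no invariant chain with all steps of order at most `p`. -/
theorem false_of_steps (hS : IsPGroup p S) (hF : F.IsSaturated p) {E : Subgroup Ω}
    (hE : F.IsEssential p E) (c : ℕ → Subgroup Ω) (hmono : Monotone c) (h0 : c 0 = ⊥) {N : ℕ}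
    (hN : c N = E) (hle : ∀ k, c k ≤ E)
    (hcard : ∀ k, c (k + 1) = c k ∨ Nat.card (c (k + 1)) = p * Nat.card (c k))
    (hinv : ∀ α ∈ F.autGroup E, ∀ k, ∀ y ∈ c k, autMap α y ∈ c k) : False := by
  have hES := hE.1.1
  obtain ⟨g, hg, hgE⟩ := SetLike.exists_of_lt (FusionSys.lt_normalizerIn hS (lt_of_isEssential hS hF hE))
  refine hgE (mem_of_chain hS hE c hmono h0 hN.ge (fun α hα k y _ hy => hinv α hα k y hy) hg
    fun k y _ hy => ?_)
  rcases hcard k with h | h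
  · have hy' : y ∈ c k := h ▸ hy
    refine (c k).mul_mem ((c k).inv_mem hy') ?_
    have := hinv _ (conjAut_mem_autGroup F hES hg) k y hy'
    rwa [autMap_conjAut _ (hle k hy'), conjMap_apply] at this
  · have hnorm : ∀ j, ∀ h ∈ normalizerIn S E, ∀ a ∈ c j, h * a * h⁻¹ ∈ c j := fun j h hh a ha => by
      have := hinv _ (conjAut_mem_autGroup F hES hh) j a ha
      rwa [autMap_conjAut _ (hle j ha), conjMap_apply] at this
    haveI := finite_of_le (show normalizerIn S E ≤ S from normalizerIn_le)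
    exact conj_div_mem (hS.to_le normalizerIn_le) (hmono (Nat.le_succ k))
      ((hle _).trans (le_normalizerIn_self hES)) (hnorm k) (hnorm (k + 1)) h hg hy

/-- An automorphism transporting `Aut_S(P)` into itself extends to an automorphism of `N_S(P)`. -/
theorem extend_of_conj (hS : IsPGroup p S) (hF : F.IsSaturated p) {P : Subgroup Ω}
    (hP : F.IsFullyNormalized P) {α : MulAut P} (hα : α ∈ F.autGroup P)
    (h : ∀ g, ∀ hg : g ∈ normalizerIn S P, α * conjAut hg.2 * α⁻¹ ∈ autInducedBy S P) :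
    ∃ β ∈ F.autGroup (normalizerIn S P), ∀ x ∈ P, autMap β x = autMap α x := by
  have hPS := hP.1
  have hN : ∀ x ∈ normalizerIn S P, InExt S P (autMap α) x := fun x hx =>
    inExt_autMap hx.1 hx.2 (h x hx)
  obtain ⟨f, hf, he⟩ := receptive_extend (receptive_of_isFullyNormalized hS hF hP)
    (isIso_autMap hPS hα) hN
  have hf' : IsMap F (normalizerIn S P) f := hf.mono le_sup_left
  haveI := finite_of_le (show normalizerIn S P ≤ S from normalizerIn_le)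
  have hmaps : ∀ x ∈ normalizerIn S P, f x ∈ normalizerIn S P := fun x hx =>
    (isIso_autMap hPS hα).mem_normalizerIn_of_extends hf' (le_normalizerIn_self hPS)
      (fun y hy => he y hy) hx hx.2
  obtain ⟨β, hβ, hβe⟩ := (isIso_of_mapsTo hf' hmaps).exists_aut
  exact ⟨β, hβ, fun x hx => by rw [hβe x (le_normalizerIn_self hPS hx), he x hx]⟩

/-- If `N_S(P)` centralizes an invariant chain of `P`, every automorphism extends to `N_S(P)`. -/
theorem extend_of_chain (hS : IsPGroup p S) (hF : F.IsSaturated p) {P : Subgroup Ω}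
    (hP : F.IsFullyNormalized P)
    (c : ℕ → Subgroup Ω) (hmono : Monotone c) (h0 : c 0 = ⊥) {N : ℕ} (hN : P ≤ c N)
    (hinv : ∀ α ∈ F.autGroup P, ∀ k, ∀ y ∈ P, y ∈ c k → autMap α y ∈ c k)
    (hst : ∀ g ∈ normalizerIn S P, ∀ k, ∀ y ∈ P, y ∈ c (k + 1) → y⁻¹ * (g * y * g⁻¹) ∈ c k)
    {α : MulAut P} (hα : α ∈ F.autGroup P) :
    ∃ β ∈ F.autGroup (normalizerIn S P), ∀ x ∈ P, autMap β x = autMap α x := by
  have hPS := hP.1
  haveI := finite_autGroup F hPS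
  have hinv' : ∀ α ∈ F.autGroup P, ∀ (k : ℕ) (x : ↥P), (x : Ω) ∈ c k → ((α x : ↥P) : Ω) ∈ c k :=
    fun α hα k x hx => by
      have := hinv α hα k x x.2 hx
      rwa [autMap_coe] at this
  set K := H90.chainStab F P c hmono hinv' with hK
  haveI hKn : K.Normal := H90.chainStab_normal F P c hmono hinv'
  have hKp : IsPGroup p K := H90.chainStab_isPGroup hS F P hPS c hmono hinv' h0 hN
  obtain ⟨-, R, hR⟩ := isFullyAutomized_of_isFullyNormalized hS hF hP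
  have hRK : (R : Subgroup (F.autGroup P)) ≤ K := by
    rw [hR]
    intro a ha
    obtain ⟨g, hg, hn, he⟩ := mem_autInducedBy.1 (Subgroup.mem_subgroupOf.1 ha)
    intro k x hx
    have h1 : ((a : MulAut P) x : Ω) = g * x * g⁻¹ := by rw [he]; rfl
    rw [h1]
    exact hst g ⟨hg, hn⟩ k x x.2 hx
  have hKR : K = (R : Subgroup (F.autGroup P)) := R.is_maximal' hKp hRK
  refine extend_of_conj hS hF hP hα fun g hg => ?_
  have hgA := conjAut_mem_autGroup F hPS hg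
  have hgR : (⟨_, hgA⟩ : F.autGroup P) ∈ (R : Subgroup (F.autGroup P)) := by
    rw [hR, Subgroup.mem_subgroupOf, mem_autInducedBy]
    exact ⟨g, hg.1, hg.2, rfl⟩
  have h2 := hKn.conj_mem _ (hKR ▸ hgR) ⟨α, hα⟩
  rw [hKR, hR] at h2
  exact Subgroup.mem_subgroupOf.1 h2

/-- An automorphism of a larger subgroup cannot move a subgroup normal in `S` onto a conjugate of a
fully normalized subgroup that is not normal in `S`. -/
theorem not_maps_normal {E E₀ M : Subgroup Ω} (hE : F.IsFullyNormalized E)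
    (hEn : ¬ S ≤ Subgroup.normalizer (E : Set Ω)) (hE₀n : S ≤ Subgroup.normalizer (E₀ : Set Ω))
    (hM : M ≤ S) (hE₀M : E₀ ≤ M) {α : MulAut M} (hα : α ∈ F.autGroup M) {g : Ω} (hg : g ∈ S)
    (himg : autMap α '' (E₀ : Set Ω) = conjMap g '' (E : Set Ω)) : False := by
  have h1 : F.IsConj E₀ (imgSub (autMap α) E₀) :=
    (((mem_autGroup_iff hM).1 hα).mono hE₀M).isIso.isConj
  have h2 : F.IsConj E (imgSub (conjMap g) E) := (isMap_conj F hE.1 hg).isIso.isConj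
  have e : imgSub (autMap α) E₀ = imgSub (conjMap g) E := by
    rw [imgSub, imgSub, himg]
  have h3 := hE.2 E₀ (FusionSys.isConj_trans h2 (e ▸ FusionSys.isConj_symm h1))
  have h4 : normalizerIn S E₀ = S := inf_eq_left.2 hE₀n
  rw [h4] at h3
  exact hEn ((Subgroup.eq_of_le_of_card_ge (normalizerIn_le (P := E)) h3).ge.trans inf_le_right)

/-- Subgroups of the order of `E` between `Y` and `M = E₀ ⟨x⟩`: `E₀` or a conjugate of `E`. -/
theorem class_or (hS : IsPGroup p S) {Y E₀ E M : Subgroup Ω} {x : Ω} (hYE₀ : Y ≤ E₀) (hYE : Y ≤ E)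
    (hMS : M ≤ S) (hE₀M : E₀ ≤ M) (hxE : x ∈ E) (hxM : x ∈ M) (hxE₀ : x ∉ E₀)
    (hc₀ : Nat.card E₀ = p * Nat.card Y) (hcE : Nat.card E = p * Nat.card Y)
    (hcM : Nat.card M = p * Nat.card E₀)
    (hYn : ∀ g ∈ S, ∀ y ∈ Y, g * y * g⁻¹ ∈ Y) (hE₀n : ∀ g ∈ S, ∀ y ∈ E₀, g * y * g⁻¹ ∈ E₀)
    {s : Ω} (hs : s ∈ S) (hsx : x⁻¹ * (s * x * s⁻¹) ∈ E₀) (hsx' : x⁻¹ * (s * x * s⁻¹) ∉ Y)
    (X : Subgroup Ω) (hYX : Y ≤ X) (hXM : X ≤ M) (hcX : Nat.card X = p * Nat.card Y) :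
    X = E₀ ∨ ∃ g ∈ S, (X : Set Ω) = conjMap g '' (E : Set Ω) := by
  haveI := finite_of_le hMS
  haveI := finite_of_le (hE₀M.trans hMS)
  haveI := finite_of_le (hYE₀.trans (hE₀M.trans hMS))
  haveI := finite_of_le (hXM.trans hMS)
  by_cases hXE : X ≤ E₀
  · exact Or.inl (Subgroup.eq_of_le_of_card_ge hXE (by rw [hcX, hc₀]))
  right
  obtain ⟨w, hwX, hwE⟩ := SetLike.not_le_iff_exists.1 hXE
  set c := x⁻¹ * (s * x * s⁻¹) with hcdef
  -- work in the quotient of `M` by `Y`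
  haveI hYN : (Y.subgroupOf M).Normal := ⟨fun y hy g => hYn g (hMS g.2) y hy⟩
  set q := QuotientGroup.mk' (Y.subgroupOf M) with hq
  have hq1 : ∀ {m : ↥M}, q m = 1 ↔ (m : Ω) ∈ Y := fun {m} => by
    rw [hq, QuotientGroup.mk'_apply, QuotientGroup.eq_one_iff]; rfl
  -- `w` is `x ^ j` times an element of `E₀`
  obtain ⟨e, he, j, hwe, hj⟩ : ∃ e ∈ E₀, ∃ j : ℕ, w = x ^ j * e ∧ ¬ p ∣ j := by
    haveI : (E₀.subgroupOf M).Normal := ⟨fun y hy g => hE₀n g (hMS g.2) y hy⟩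
    have hqc : Nat.card (↥M ⧸ E₀.subgroupOf M) = p := by
      have h := Subgroup.card_eq_card_quotient_mul_card_subgroup (E₀.subgroupOf M)
      rw [Nat.card_congr (Subgroup.subgroupOfEquivOfLe hE₀M).toEquiv, hcM] at h
      exact (Nat.eq_of_mul_eq_mul_right Nat.card_pos h).symm
    have hne : (QuotientGroup.mk' (E₀.subgroupOf M)) ⟨x, hxM⟩ ≠ 1 := fun h =>
      hxE₀ ((QuotientGroup.eq_one_iff _).1 h : (⟨x, hxM⟩ : ↥M) ∈ E₀.subgroupOf M)
    obtain ⟨j, hj⟩ : (QuotientGroup.mk' (E₀.subgroupOf M)) ⟨w, hXM hwX⟩ ∈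
        Submonoid.powers ((QuotientGroup.mk' (E₀.subgroupOf M)) ⟨x, hxM⟩) :=
      mem_powers_of_prime_card hqc hne
    have hmem : (x ^ j)⁻¹ * w ∈ E₀ := by
      have h : ((⟨x, hxM⟩ : ↥M) ^ j)⁻¹ * ⟨w, hXM hwX⟩ ∈ E₀.subgroupOf M := by
        rw [← QuotientGroup.eq_one_iff]
        show QuotientGroup.mk' (E₀.subgroupOf M) _ = 1
        rw [map_mul, map_inv, map_pow, ← hj, inv_mul_cancel]
      exact h
    refine ⟨_, hmem, j, (mul_inv_cancel_left _ _).symm, fun hd => hwE ?_⟩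
    obtain ⟨t, rfl⟩ := hd
    have h : (⟨w, hXM hwX⟩ : ↥M) ∈ E₀.subgroupOf M := by
      rw [← QuotientGroup.eq_one_iff]
      show QuotientGroup.mk' (E₀.subgroupOf M) _ = 1
      simp only at hj
      rw [← hj, pow_mul, ← hqc, pow_card_eq_one', one_pow]
    exact h
  -- the image of `E₀` is central of order `p`, generated by the image of `c`
  have hcE₀ : c ∈ E₀ := hsx
  set C₀ := (E₀.subgroupOf M).map q with hC₀
  have hC₀card : Nat.card C₀ = p := by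
    have h := Subgroup.card_mul_index ((Y.subgroupOf M).subgroupOf (E₀.subgroupOf M))
    rw [Nat.card_congr (Subgroup.subgroupOfEquivOfLe
        (fun z hz => hYE₀ hz : Y.subgroupOf M ≤ E₀.subgroupOf M)).toEquiv,
      Nat.card_congr (Subgroup.subgroupOfEquivOfLe hE₀M).toEquiv,
      Nat.card_congr (Subgroup.subgroupOfEquivOfLe (hYE₀.trans hE₀M)).toEquiv, hc₀] at h
    rw [hC₀, ← Subgroup.relIndex_ker (E₀.subgroupOf M) q, hq, QuotientGroup.ker_mk']
    exact Nat.eq_of_mul_eq_mul_left Nat.card_pos (h.trans (mul_comm _ _))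
  have hcq : q ⟨c, hE₀M hcE₀⟩ ∈ C₀ := ⟨_, hcE₀, rfl⟩
  have hcq1 : q ⟨c, hE₀M hcE₀⟩ ≠ 1 := fun h => hsx' (hq1.1 h)
  have hcent : ∀ a : ↥M, (a : Ω) ∈ E₀ → ∀ g : ↥M, q g * q a = q a * q g := by
    intro a ha g
    have := conj_div_mem (hS.to_le hMS) hYE₀ hE₀M (fun g hg => hYn g (hMS hg))
      (fun g hg => hE₀n g (hMS hg)) hc₀ g.2 ha
    have h : q (a⁻¹ * (g * a * g⁻¹)) = 1 := hq1.2 this
    simp only [map_mul, map_inv] at h
    rw [inv_mul_eq_one, eq_mul_inv_iff_mul_eq] at h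
    exact h.symm
  -- conjugates of `x` by powers of `s`
  have hrep : ∀ t : ℕ, ∃ h : s ^ t * x * (s ^ t)⁻¹ ∈ M,
      q ⟨s ^ t * x * (s ^ t)⁻¹, h⟩ = q ⟨x, hxM⟩ * q ⟨c, hE₀M hcE₀⟩ ^ t := by
    intro t
    induction t with
    | zero => exact ⟨by simpa using hxM, by simp⟩
    | succ t ih =>
      obtain ⟨h, he⟩ := ih
      obtain ⟨r, hr, hre⟩ : ∃ r, r ∈ E₀ ∧ s ^ t * x * (s ^ t)⁻¹ = x * r := by
        refine ⟨x⁻¹ * (s ^ t * x * (s ^ t)⁻¹), ?_, (mul_inv_cancel_left _ _).symm⟩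
        have h2 : q (⟨x, hxM⟩⁻¹ * ⟨s ^ t * x * (s ^ t)⁻¹, h⟩) ∈ C₀ := by
          rw [map_mul, map_inv, he, inv_mul_cancel_left]
          exact C₀.pow_mem hcq t
        obtain ⟨a, ha, hae⟩ := h2
        have h3 : ((⟨x, hxM⟩⁻¹ * ⟨s ^ t * x * (s ^ t)⁻¹, h⟩ * a⁻¹ : ↥M) : Ω) ∈ Y := hq1.1 (by
          rw [map_mul q _ a⁻¹, map_inv q a, hae, mul_inv_cancel])
        have := E₀.mul_mem (hYE₀ h3) (show (a : Ω) ∈ E₀ from ha)
        simpa using this
      have e1 : s ^ (t + 1) * x * (s ^ (t + 1))⁻¹ = x * c * (s * r * s⁻¹) := by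
        rw [pow_succ', mul_inv_rev, show s * s ^ t * x * ((s ^ t)⁻¹ * s⁻¹)
          = s * (s ^ t * x * (s ^ t)⁻¹) * s⁻¹ by group, hre, hcdef]
        group
      have hsr : s * r * s⁻¹ ∈ E₀ := hE₀n s hs r hr
      refine ⟨e1 ▸ M.mul_mem (M.mul_mem hxM (hE₀M hcE₀)) (hE₀M hsr), ?_⟩
      have h4 : q ⟨s * r * s⁻¹, hE₀M hsr⟩ = q ⟨r, hE₀M hr⟩ := by
        have := conj_div_mem hS hYE₀ (hE₀M.trans hMS) hYn hE₀n hc₀ hs hr
        have h5 : q (⟨r, hE₀M hr⟩⁻¹ * ⟨s * r * s⁻¹, hE₀M hsr⟩) = 1 := hq1.2 this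
        rwa [map_mul, map_inv, inv_mul_eq_one, eq_comm] at h5
      have h6 : q ⟨r, hE₀M hr⟩ = q ⟨c, hE₀M hcE₀⟩ ^ t := by
        have : (⟨s ^ t * x * (s ^ t)⁻¹, h⟩ : ↥M) = ⟨x, hxM⟩ * ⟨r, hE₀M hr⟩ := Subtype.ext hre
        rw [this, map_mul] at he
        exact mul_left_cancel he
      rw [show (⟨s ^ (t + 1) * x * (s ^ (t + 1))⁻¹, _⟩ : ↥M)
        = ⟨x, hxM⟩ * ⟨c, hE₀M hcE₀⟩ * ⟨s * r * s⁻¹, hE₀M hsr⟩ from Subtype.ext e1,
        map_mul, map_mul, h4, h6, pow_succ', mul_assoc]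
  -- `E = Y ⟨x⟩`
  haveI hEfin : Finite E := Nat.finite_of_card_ne_zero (by
    rw [hcE]; exact Nat.mul_ne_zero hp.out.ne_zero Nat.card_pos.ne')
  have hsup : Y ⊔ Subgroup.zpowers x ≤ E := sup_le hYE (Subgroup.zpowers_le.2 hxE)
  have hEeq : E = Y ⊔ Subgroup.zpowers x := by
    refine (Subgroup.eq_of_le_of_card_ge hsup ?_).symm
    haveI : Finite ↥(Y ⊔ Subgroup.zpowers x) :=
      Finite.of_injective (Subgroup.inclusion hsup) (Subgroup.inclusion_injective _)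
    have hlt : Y < Y ⊔ Subgroup.zpowers x := lt_of_le_of_ne le_sup_left fun h =>
      hxE₀ (hYE₀ (h.ge (Subgroup.mem_sup_right (Subgroup.mem_zpowers x))))
    obtain ⟨r, hr⟩ := Subgroup.card_dvd_of_le hlt.le
    have hlt' : Nat.card Y < Nat.card ↥(Y ⊔ Subgroup.zpowers x) := by
      by_contra hle
      exact hlt.ne (Subgroup.eq_of_le_of_card_ge hlt.le (not_lt.1 hle))
    have hd : Nat.card ↥(Y ⊔ Subgroup.zpowers x) ∣ Nat.card E := Subgroup.card_dvd_of_le hsup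
    rw [hr, hcE, mul_comm p] at hd
    rcases (Nat.dvd_prime hp.out).1 (Nat.dvd_of_mul_dvd_mul_left Nat.card_pos hd) with h1 | h1
    · rw [hr, h1, mul_one] at hlt'; exact absurd hlt' (lt_irrefl _)
    · rw [hcE, hr, h1, mul_comm]
  have hEM : E ≤ M := hEeq ▸ sup_le (hYE₀.trans hE₀M) (Subgroup.zpowers_le.2 hxM)
  have hxp : q ⟨x, hxM⟩ ^ p = 1 := by
    set Eq' := (E.subgroupOf M).map q with hEq'
    have hEcard : Nat.card Eq' = p := by
      have h := Subgroup.card_mul_index ((Y.subgroupOf M).subgroupOf (E.subgroupOf M))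
      rw [Nat.card_congr (Subgroup.subgroupOfEquivOfLe
          (fun z hz => hYE hz : Y.subgroupOf M ≤ E.subgroupOf M)).toEquiv,
        Nat.card_congr (Subgroup.subgroupOfEquivOfLe hEM).toEquiv,
        Nat.card_congr (Subgroup.subgroupOfEquivOfLe (hYE₀.trans hE₀M)).toEquiv, hcE] at h
      rw [hEq', ← Subgroup.relIndex_ker (E.subgroupOf M) q, hq, QuotientGroup.ker_mk']
      exact Nat.eq_of_mul_eq_mul_left Nat.card_pos (h.trans (mul_comm _ _))
    have : (⟨q ⟨x, hxM⟩, ⟨_, hxE, rfl⟩⟩ : Eq') ^ p = 1 := by rw [← hEcard]; exact pow_card_eq_one'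
    exact congrArg Subtype.val this
  -- choose the power
  obtain ⟨i, hi⟩ : q ⟨e, hE₀M he⟩ ∈ Submonoid.powers (q ⟨c, hE₀M hcE₀⟩) := by
    obtain ⟨n, hn⟩ : (⟨_, ⟨⟨e, hE₀M he⟩, he, rfl⟩⟩ : C₀) ∈ Submonoid.powers (⟨_, hcq⟩ : C₀) :=
      mem_powers_of_prime_card hC₀card fun h => hcq1 (congrArg Subtype.val h)
    exact ⟨n, congrArg Subtype.val hn⟩
  obtain ⟨j', hj'⟩ : ∃ j', j * j' ≡ 1 [MOD p] := by
    refine ⟨((j : ZMod p)⁻¹).val, (ZMod.natCast_eq_natCast_iff _ _ _).1 ?_⟩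
    have : (j : ZMod p) ≠ 0 := by rwa [Ne, ZMod.natCast_eq_zero_iff]
    push_cast
    rw [ZMod.natCast_zmod_val, mul_inv_cancel₀ this]
  obtain ⟨hyM, hy⟩ := hrep (i * j')
  refine ⟨s ^ (i * j'), S.pow_mem hs _, ?_⟩
  set g := s ^ (i * j')
  have hgS : g ∈ S := S.pow_mem hs _
  have hgx : g * x * g⁻¹ ∈ X := by
    have hwq : q ⟨w, hXM hwX⟩ = q ⟨x, hxM⟩ ^ j * q ⟨e, hE₀M he⟩ := by
      rw [← map_pow, ← map_mul]
      exact congrArg q (Subtype.ext hwe)
    have e2 : q ⟨g * x * g⁻¹, hyM⟩ = q ⟨w, hXM hwX⟩ ^ j' := by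
      have hcomm : Commute (q ⟨x, hxM⟩) (q ⟨c, hE₀M hcE₀⟩) := hcent _ hcE₀ _
      rw [hy, hwq, ← hi, ((hcomm.pow_left j).pow_right i).mul_pow, ← pow_mul, ← pow_mul]
      congr 1
      rw [pow_eq_pow_mod (j * j') hxp,
        show j * j' % p = 1 from Eq.trans hj' (Nat.mod_eq_of_lt hp.out.one_lt), pow_one]
    have h7 : q (⟨g * x * g⁻¹, hyM⟩ * ((⟨w, hXM hwX⟩ : ↥M) ^ j')⁻¹) = 1 := by
      rw [map_mul, map_inv, map_pow, e2, mul_inv_cancel]
    have := X.mul_mem (hYX (hq1.1 h7)) (X.pow_mem hwX j')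
    simpa [mul_assoc] using this
  have hES : ∀ z ∈ E, g * z * g⁻¹ ∈ X := by
    intro z hz
    rw [hEeq] at hz
    have hle : Y ⊔ Subgroup.zpowers x ≤ X.comap (MulAut.conj g).toMonoidHom :=
      sup_le (fun y hy' => hYX (hYn g hgS y hy')) (Subgroup.zpowers_le.2 hgx)
    exact hle hz
  symm
  refine Set.eq_of_subset_of_ncard_le (by rintro _ ⟨z, hz, rfl⟩; exact hES z hz) ?_ (Set.toFinite _)
  rw [Set.ncard_image_of_injective _ (fun a b hab => by simpa [conjMap] using hab)]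
  change Nat.card X ≤ Nat.card E
  rw [hcX, hcE]

end Cfsg.Agent.Cores.FusFive
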