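import Mathlib
import Cfsg.Agent.PGroups.Commutator

/-!
Exponent bookkeeping for automorphisms of small `p`-groups along commutators.
-/

set_option autoImplicit false
set_option linter.unusedSectionVars false

namespace Cfsg.Agent.Cores.FusFive

open scoped commutatorElement

variable {G : Type*} [Group G]

/-- A commutator of perturbed powers. -/
theorem comm_perturb (N : Subgroup G) [N.Normal] {x y w w' : G} (a b : ℕ)
    (hc : ∀ g, ⁅⁅x, y⁆, g⁆ ∈ N) (h1 : ⁅w, y⁆ ∈ N) (h2 : ⁅w, w'⁆ ∈ N) (h3 : ⁅x, w'⁆ ∈ N) :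
    ∃ n ∈ N, ⁅x ^ a * w, y ^ b * w'⁆ = ⁅x, y⁆ ^ (a * b) * n := by
  set q := QuotientGroup.mk' N
  have hq : ∀ {g : G}, g ∈ N → q g = 1 := fun h => (QuotientGroup.eq_one_iff _).2 h
  have hcen : ⁅q x, q y⁆ ∈ Subgroup.center (G ⧸ N) := by
    rw [← map_commutatorElement, Subgroup.mem_center_iff]
    intro g
    obtain ⟨g, rfl⟩ := QuotientGroup.mk'_surjective N g
    have h := hq (hc g)
    rw [map_commutatorElement, commutatorElement_eq_one_iff_commute] at h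
    exact h.eq.symm
  have c1 : Commute (q w) (q y) := by
    rw [← commutatorElement_eq_one_iff_commute, ← map_commutatorElement, hq h1]
  have c2 : Commute (q w) (q w') := by
    rw [← commutatorElement_eq_one_iff_commute, ← map_commutatorElement, hq h2]
  have c3 : Commute (q x) (q w') := by
    rw [← commutatorElement_eq_one_iff_commute, ← map_commutatorElement, hq h3]
  refine ⟨(⁅x, y⁆ ^ (a * b))⁻¹ * ⁅x ^ a * w, y ^ b * w'⁆,
    (QuotientGroup.eq_one_iff _).1 ?_, (mul_inv_cancel_left _ _).symm⟩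
  show q ((⁅x, y⁆ ^ (a * b))⁻¹ * ⁅x ^ a * w, y ^ b * w'⁆) = 1
  rw [map_mul, map_inv, map_pow, map_commutatorElement, map_commutatorElement, inv_mul_eq_one,
    map_mul, map_mul, map_pow, map_pow]
  have e1 : ⁅q x ^ a * q w, q y ^ b * q w'⁆ = ⁅q x ^ a, q y ^ b * q w'⁆ := by
    have h : Commute (q w) (q y ^ b * q w') := (c1.pow_right b).mul_right c2
    simp only [commutatorElement_def, mul_inv_rev]
    rw [mul_assoc (q x ^ a) (q w) (q y ^ b * q w'), h.eq]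
    simp only [mul_assoc, mul_inv_cancel_left]
  have e2 : ⁅q x ^ a, q y ^ b * q w'⁆ = ⁅q x ^ a, q y ^ b⁆ := by
    have h : Commute (q w') ((q x ^ a)⁻¹) := ((c3.pow_left a).inv_left).symm
    simp only [commutatorElement_def, mul_inv_rev]
    rw [mul_assoc (q x ^ a * (q y ^ b * q w')) (q x ^ a)⁻¹, ← mul_assoc (q x ^ a) (q y ^ b) (q w'),
      mul_assoc (q x ^ a * q y ^ b) (q w'), ← mul_assoc (q w') (q x ^ a)⁻¹, h.eq]
    simp only [mul_assoc, mul_inv_cancel_left]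
  have hc' : ⁅q x ^ a, q y⁆ ∈ Subgroup.center (G ⧸ N) := by
    rw [PGroups.commutatorElement_pow_left_of_mem_center hcen]
    exact Subgroup.pow_mem _ hcen a
  rw [e1, e2, PGroups.commutatorElement_pow_right_of_mem_center hc',
    PGroups.commutatorElement_pow_left_of_mem_center hcen, ← pow_mul]

/-- `comm_perturb` with trivial normal subgroup. -/
theorem comm_perturb_eq {x y w w' : G} (a b : ℕ)
    (hc : ∀ g, Commute ⁅x, y⁆ g) (h1 : Commute w y) (h2 : Commute w w') (h3 : Commute x w') :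
    ⁅x ^ a * w, y ^ b * w'⁆ = ⁅x, y⁆ ^ (a * b) := by
  obtain ⟨n, hn, e⟩ := comm_perturb (⊥ : Subgroup G) a b (x := x) (y := y) (w := w) (w' := w')
    (fun g => Subgroup.mem_bot.2 (commutatorElement_eq_one_iff_commute.2 (hc g)))
    (Subgroup.mem_bot.2 (commutatorElement_eq_one_iff_commute.2 h1))
    (Subgroup.mem_bot.2 (commutatorElement_eq_one_iff_commute.2 h2))
    (Subgroup.mem_bot.2 (commutatorElement_eq_one_iff_commute.2 h3))
  rw [e, Subgroup.mem_bot.1 hn, mul_one]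

variable {p : ℕ} [hp : Fact p.Prime]

theorem modEq_of_pow_eq {z : G} (hz : orderOf z = p) {i j : ℕ} (h : z ^ i = z ^ j) : i ≡ j [MOD p] := by
  rw [pow_eq_pow_iff_modEq, hz] at h
  exact h

theorem castEq {i j : ℕ} (h : i ≡ j [MOD p]) : (i : ZMod p) = j := (ZMod.natCast_eq_natCast_iff _ _ _).2 h

/-- The identity for a group of maximal class of order `p ^ 5` with nonabelian two-step
centraliser. -/
theorem maxClass_identity (N2 N3 N4 : Subgroup G) [N2.Normal] [N3.Normal] [N4.Normal]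
    (hN2 : ∀ w ∈ N2, ∀ g : G, ⁅w, g⁆ ∈ N3) (hN3 : ∀ w ∈ N3, ∀ g : G, ⁅w, g⁆ ∈ N4)
    (hN4 : ∀ w ∈ N4, ∀ g : G, Commute w g) (hab : ∀ w ∈ N2, ∀ w' ∈ N2, Commute w w')
    (h32 : N3 ≤ N2) (h43 : N4 ≤ N3)
    {v u : G} (hc : ⁅v, u⁆ ∈ N2) (hd : ⁅v, ⁅v, u⁆⁆ ∈ N3) (hz : ⁅v, ⁅v, ⁅v, u⁆⁆⁆ ∈ N4)
    (hz1 : orderOf ⁅v, ⁅v, ⁅v, u⁆⁆⁆ = p) (hu3 : ∀ w ∈ N3, Commute u w) {k : ℕ} (hk : ¬ p ∣ k)
    (huc : ⁅u, ⁅v, u⁆⁆ = ⁅v, ⁅v, ⁅v, u⁆⁆⁆ ^ k) (β : MulAut G) {a b i ζ : ℕ} {w w' : G}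
    (hw : w ∈ N2) (hw' : w' ∈ N2) (hv : β v = v ^ a * (u ^ i * w)) (hu : β u = u ^ b * w')
    (ha : ¬ p ∣ a) (hb : ¬ p ∣ b)
    (hζ : β ⁅v, ⁅v, ⁅v, u⁆⁆⁆ = ⁅v, ⁅v, ⁅v, u⁆⁆⁆ ^ ζ) :
    (ζ : ZMod p) = (a : ZMod p) ^ 5 ∧ (b : ZMod p) = (a : ZMod p) ^ 2 := by
  set c := ⁅v, u⁆ with hcdef
  set d := ⁅v, c⁆ with hddef
  set z := ⁅v, d⁆ with hzdef
  have hWc : ∀ {j : ℕ} {e e' : G}, e ∈ N2 → e' ∈ N2 →
      ⁅u ^ j * e, c⁆ ∈ N4 := by
    intro j e e' he _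
    have h1 : ⁅u, c⁆ ∈ N4 := huc ▸ N4.pow_mem hz k
    have hcomm : Commute e c := hab e he c hc
    have e0 : ⁅u ^ j * e, c⁆ = ⁅u ^ j, c⁆ := by
      simp only [commutatorElement_def, mul_inv_rev]
      rw [mul_assoc (u ^ j) e c, hcomm.eq]
      simp only [mul_assoc, mul_inv_cancel_left]
    rw [e0]
    have hz4 : ⁅u, c⁆ ∈ Subgroup.center G :=
      Subgroup.mem_center_iff.2 fun g => ((hN4 _ h1 g).eq).symm
    rw [PGroups.commutatorElement_pow_left_of_mem_center hz4]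
    exact N4.pow_mem h1 j
  have hcomm_mul : ∀ {x y g : G}, Commute x g → Commute y g → Commute (x * y) g :=
    fun h h' => h.mul_left h'
  -- `c`
  obtain ⟨c', hc', hec⟩ : ∃ c' ∈ N3, β c = c ^ (a * b) * c' := by
    rw [hcdef, map_commutatorElement, hv, hu]
    refine comm_perturb N3 a b (fun g => hN2 _ hc g) ?_ ?_ ?_
    · have : ⁅u ^ i * w, u⁆ = u ^ i * ⁅w, u⁆ * (u ^ i)⁻¹ := by
        simp only [commutatorElement_def, mul_inv_rev]
        have : Commute (u ^ i) u := (Commute.refl u).pow_left i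
        rw [show u ^ i * (w * u * w⁻¹ * u⁻¹) * (u ^ i)⁻¹
          = u ^ i * w * u * w⁻¹ * (u⁻¹ * (u ^ i)⁻¹) by group,
          show u⁻¹ * (u ^ i)⁻¹ = (u ^ i)⁻¹ * u⁻¹ from (this.inv_inv.symm).eq]
        group
      rw [this]
      exact ‹N3.Normal›.conj_mem _ (hN2 w hw u) _
    · have : ⁅u ^ i * w, w'⁆ = u ^ i * ⁅w, w'⁆ * (u ^ i)⁻¹ * ⁅u ^ i, w'⁆ := by
        simp only [commutatorElement_def, mul_inv_rev]
        group
      rw [this, commutatorElement_eq_one_iff_commute.2 (hab w hw w' hw'), mul_one, mul_inv_cancel,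
        one_mul, ← commutatorElement_inv]
      exact N3.inv_mem (hN2 w' hw' _)
    · rw [← commutatorElement_inv]
      exact N3.inv_mem (hN2 w' hw' _)
  -- `d`
  obtain ⟨d', hd', hed⟩ : ∃ d' ∈ N4, β d = d ^ (a * (a * b)) * d' := by
    rw [hddef, map_commutatorElement, hv, hec]
    refine comm_perturb N4 a (a * b) (fun g => hN3 _ hd g) (hWc hw hw) ?_ ?_
    · rw [commutatorElement_eq_one_iff_commute.2
        (hcomm_mul ((hu3 c' hc').pow_left i) (hab w hw c' (h32 hc')))]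
      exact one_mem _
    · rw [← commutatorElement_inv]
      exact N4.inv_mem (hN3 c' hc' _)
  have hez : β z = z ^ (a * (a * (a * b))) := by
    rw [hzdef, map_commutatorElement, hv, hed]
    exact comm_perturb_eq a _ (fun g => hN4 _ hz g)
      (hcomm_mul ((hu3 d hd).pow_left i) (hab w hw d (h32 hd))) (hN4 d' hd' _).symm
      (hN4 d' hd' _).symm
  have heu : β ⁅u, c⁆ = ⁅u, c⁆ ^ (b * (a * b)) := by
    rw [map_commutatorElement, hu, hec]
    exact comm_perturb_eq b _ (fun g => hN4 _ (huc ▸ N4.pow_mem hz k) g) (hab w' hw' c hc)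
      (hab w' hw' c' (h32 hc')) (hu3 c' hc')
  have e1 : (ζ : ZMod p) = a * (a * (a * b)) := by
    have := castEq (modEq_of_pow_eq hz1 (hζ.symm.trans hez))
    push_cast at this
    exact this
  have e2 : (k : ZMod p) * ζ = k * (b * (a * b)) := by
    have h : z ^ (ζ * k) = z ^ (k * (b * (a * b))) := by
      rw [pow_mul, ← hζ, ← map_pow, ← huc, heu, huc, ← pow_mul]
    have := castEq (modEq_of_pow_eq hz1 h)
    push_cast at this
    rwa [mul_comm (ζ : ZMod p)] at this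
  have hk' : (k : ZMod p) ≠ 0 := by rwa [Ne, ZMod.natCast_eq_zero_iff]
  have ha' : (a : ZMod p) ≠ 0 := by rwa [Ne, ZMod.natCast_eq_zero_iff]
  have hb' : (b : ZMod p) ≠ 0 := by rwa [Ne, ZMod.natCast_eq_zero_iff]
  have e3 : (b : ZMod p) = (a : ZMod p) ^ 2 := by
    have h := mul_left_cancel₀ hk' e2
    rw [e1] at h
    have h' : (b : ZMod p) * a * ((a : ZMod p) ^ 2 - b) = 0 := by linear_combination h
    rcases mul_eq_zero.1 h' with h'' | h''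
    · exact absurd h'' (mul_ne_zero hb' ha')
    · exact (sub_eq_zero.1 h'').symm
  exact ⟨by rw [e1, e3]; ring, e3⟩

/-- The first consequence of an automorphism of order two in the transvection configuration. -/
theorem config_step (T Y : Subgroup G) [T.Normal] [Y.Normal] (hTY : T ≤ Y)
    (hY : ∀ w ∈ Y, ∀ g : G, ⁅w, g⁆ ∈ T) (hT : ∀ w ∈ T, ∀ g : G, Commute w g)
    {x s : G} (hcY : ∀ g : G, ⁅⁅x, s⁆, g⁆ ∈ Y) (hxc : ⁅x, ⁅x, s⁆⁆ ∈ T)
    (hz : orderOf ⁅x, ⁅x, s⁆⁆ = p) (hxY : ∀ w ∈ Y, Commute x w) (hcc : ∀ w ∈ Y, Commute ⁅x, s⁆ w)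
    (hYY : ∀ w ∈ Y, ∀ w' ∈ Y, Commute w w')
    (β : MulAut G) {m : G} {μ σ lam : ℕ} {y : G} (hy : y ∈ Y) (hm1 : ⁅x, m⁆ ∈ Y)
    (hm2 : ⁅⁅x, s⁆, m⁆ ∈ T)
    (hx : β x = x ^ μ * y) (hs : β s = s ^ σ * m) (hzl : β ⁅x, ⁅x, s⁆⁆ = ⁅x, ⁅x, s⁆⁆ ^ lam) :
    (lam : ZMod p) = μ * (μ * σ) ∧
      ∃ t ∈ T, β ⁅⁅x, s⁆, s⁆ = ⁅⁅x, s⁆, s⁆ ^ (μ * σ * σ) * t := by
  set c := ⁅x, s⁆ with hcdef
  obtain ⟨y', hy', hec⟩ : ∃ y' ∈ Y, β c = c ^ (μ * σ) * y' := by
    rw [hcdef, map_commutatorElement, hx, hs]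
    exact comm_perturb Y μ σ hcY (hTY (hY y hy s)) (hTY (hY y hy m)) hm1
  refine ⟨?_, ?_⟩
  · have : β ⁅x, c⁆ = ⁅x, c⁆ ^ (μ * (μ * σ)) := by
      rw [map_commutatorElement, hx, hec]
      exact comm_perturb_eq μ _ (fun g => hT _ hxc g) (hcc y hy).symm (hYY y hy y' hy') (hxY y' hy')
    have := castEq (modEq_of_pow_eq hz (hzl.symm.trans this))
    push_cast at this
    exact this
  · rw [map_commutatorElement, hec, hs]
    exact comm_perturb T (μ * σ) σ (fun g => hY _ (hcY s) g) (hY y' hy' s) (hY y' hy' m) hm2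

/-- The identity in the transvection configuration with centre of order `p`. -/
theorem config_identity (T : Subgroup G) [T.Normal] (E₀ : Subgroup G)
    (hE : ∀ w ∈ E₀, ∀ g : G, ⁅w, g⁆ ∈ T) (hT : ∀ w ∈ T, ∀ g : G, Commute w g)
    (hab : ∀ w ∈ E₀, ∀ w' ∈ E₀, Commute w w')
    {x s f : G} (hc : ⁅x, s⁆ ∈ E₀) (hcs : Commute ⁅x, s⁆ s) (hf : f ∈ E₀)
    {k : ℕ} (hk : ¬ p ∣ k) (hfs : ⁅f, s⁆ = ⁅x, ⁅x, s⁆⁆ ^ k) (hz : orderOf ⁅x, ⁅x, s⁆⁆ = p)
    (β : MulAut G) {a b i σ j : ℕ} {e e' e'' : G} (he : e ∈ E₀) (he' : e' ∈ E₀) (he'' : e'' ∈ T)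
    (hσ : ¬ p ∣ σ)
    (hx : β x = x ^ a * (s ^ i * e)) (hs : β s = s ^ σ * e')
    (hfe : β f = f ^ b * (⁅x, s⁆ ^ j * e'')) :
    (b : ZMod p) = (a : ZMod p) ^ 2 ∧
      ∀ ζ : ℕ, β ⁅x, ⁅x, s⁆⁆ = ⁅x, ⁅x, s⁆⁆ ^ ζ → (ζ : ZMod p) = (b : ZMod p) * σ := by
  set c := ⁅x, s⁆ with hcdef
  have hxc : ⁅x, c⁆ ∈ T := by rw [← commutatorElement_inv]; exact T.inv_mem (hE c hc x)
  set z := ⁅x, c⁆ with hzdef
  have hcen : ∀ {g h : G}, ⁅g, h⁆ ∈ T → ∀ g', Commute ⁅g, h⁆ g' := fun hh g' => hT _ hh g'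
  obtain ⟨t, ht, hec⟩ : ∃ t ∈ T, β c = c ^ (a * σ) * t := by
    rw [hcdef, map_commutatorElement, hx, hs]
    refine comm_perturb T a σ (fun g => hE _ hc g) ?_ ?_ ?_
    · have hw : ⁅s ^ i * e, s⁆ = s ^ i * ⁅e, s⁆ * (s ^ i)⁻¹ * ⁅s ^ i, s⁆ := by
        simp only [commutatorElement_def, mul_inv_rev]
        group
      rw [hw, commutatorElement_eq_one_iff_commute.2 ((Commute.refl s).pow_left i), mul_one]
      exact ‹T.Normal›.conj_mem _ (hE e he s) _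
    · rw [← commutatorElement_inv]; exact T.inv_mem (hE e' he' _)
    · rw [← commutatorElement_inv]; exact T.inv_mem (hE e' he' _)
  have hez : β z = z ^ (a * (a * σ)) := by
    rw [hzdef, map_commutatorElement, hx, hec]
    exact comm_perturb_eq a _ (hcen hxc)
      (((hcs.symm).pow_left i).mul_left (hab e he c hc)) (hT t ht _).symm (hT t ht _).symm
  have hef : β ⁅f, s⁆ = ⁅f, s⁆ ^ (b * σ) := by
    rw [map_commutatorElement, hfe, hs]
    refine comm_perturb_eq b σ (hcen (hE f hf s)) ((hcs.pow_left j).mul_left (hT e'' he'' s)) ?_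
      (hab f hf e' he')
    exact ((hab c hc e' he').pow_left j).mul_left (hT e'' he'' e')
  have e2 : (k : ZMod p) * (a * (a * σ)) = k * (b * σ) := by
    have h : z ^ (k * (a * (a * σ))) = z ^ (k * (b * σ)) := by
      rw [pow_mul', ← hez, ← map_pow, ← hfs, hef, hfs, ← pow_mul]
    have := castEq (modEq_of_pow_eq hz h)
    push_cast at this
    exact this
  have hk' : (k : ZMod p) ≠ 0 := by rwa [Ne, ZMod.natCast_eq_zero_iff]
  have hσ' : (σ : ZMod p) ≠ 0 := by rwa [Ne, ZMod.natCast_eq_zero_iff]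
  have e3 := mul_left_cancel₀ hk' e2
  rw [← mul_assoc] at e3
  have hb : (b : ZMod p) = (a : ZMod p) ^ 2 := by
    rw [pow_two]; exact (mul_right_cancel₀ hσ' e3).symm
  refine ⟨hb, fun ζ hζ => ?_⟩
  have := castEq (modEq_of_pow_eq hz (hζ.symm.trans hez))
  push_cast at this
  rw [this, hb]; ring

end Cfsg.Agent.Cores.FusFive
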