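import Cfsg.Agent.Cores.FusFive.Abelian
import Cfsg.Agent.Cores.FusFive.Group

/-!
An abelian essential subgroup of order `p ^ 3` that is not normal in a group of order `p ^ 5`.
-/

set_option autoImplicit false
set_option linter.unusedSectionVars false
set_option linter.style.haveILetI false

namespace Cfsg.Agent.Cores.FusFive

open Cfsg Cfsg.FusionSystem Cfsg.Agent.FusionSys
open scoped commutatorElement

universe u

variable {Ω : Type u} [Group Ω] {p : ℕ} [hp : Fact p.Prime] {S : Subgroup Ω} [Finite S]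
  {F : FusionSystem S}

/-- No abelian subgroup of order `p ^ 4`. -/
def NoAb (p : ℕ) (S : Subgroup Ω) : Prop :=
  ∀ A, A ≤ S → Nat.card A = p ^ 4 → ¬ ∀ a ∈ A, ∀ b ∈ A, Commute a b

theorem inv_Zs {α : MulAut S} : Inv α (Zs S) := (inv_self α).centralizer le_rfl le_rfl

theorem two_mul_half (hp2 : p ≠ 2) : 2 * ((p + 1) / 2) = p + 1 := by
  obtain ⟨h, hh⟩ := hp.out.odd_of_ne_two hp2
  omega

theorem two_mul_half_mod (hp2 : p ≠ 2) : 2 * ((p + 1) / 2) ≡ 1 [MOD p] := by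
  rw [two_mul_half hp2]
  exact Nat.modEq_iff_dvd' (Nat.le_add_left 1 p) |>.2 (by simp) |>.symm

/-- What the configuration yields. -/
theorem config_data (hS : IsPGroup p S) (hF : F.IsSaturated p) (hp2 : p ≠ 2)
    (hcard : Nat.card S = p ^ 5) (hno : NoAb p S) {E : Subgroup Ω} (hE : F.IsEssential p E)
    (hab : ∀ x ∈ E, ∀ y ∈ E, Commute x y) (hEc : Nat.card E = p ^ 3) (hEn : ¬ Nml S E) :
    p = 3 ∧ Nat.card (Zs S) = p ∧
      (∃ f ∈ S, ∃ D : Subgroup Ω, f ∉ D ∧ D ≤ S ∧ (∀ a ∈ S, ∀ b ∈ S, ⁅a, b⁆ ∈ D) ∧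
        ∀ β ∈ F.autGroup S, f⁻¹ * autMap β f ∈ D) ∧
      ∀ a ∈ S, ∀ t ∈ S, ⁅⁅a, t⁆, t⁆ ∈ Zs S := by
  have hp1 := hp.out.one_lt
  have hES := hE.1.1
  have hEc' := centralizerIn_le_of_isCentric hE.1
  haveI := finite_of_le hES
  -- the normalizer `M`
  set M := normalizerIn S E with hMdef
  have hMS : M ≤ S := normalizerIn_le
  have hEM : E ≤ M := le_normalizerIn_self hES
  have hEltM : E < M := FusionSys.lt_normalizerIn hS (lt_of_isEssential hS hF hE)
  have hMne : M ≠ S := fun e => hEn fun g hg x hx =>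
    conj_mem_of_mem_normalizerIn (show g ∈ M from e.symm ▸ hg) hx
  have hMc : Nat.card M = p ^ 4 := by
    obtain ⟨i, hi⟩ := exists_card_eq hS hMS
    have h1 := mul_card_le hS hMS hEltM
    have h2 := mul_card_le hS le_rfl (lt_of_le_of_ne hMS hMne)
    rw [hEc, hi, ← pow_succ'] at h1
    rw [hcard, hi, ← pow_succ'] at h2
    have h1' := (Nat.pow_le_pow_iff_right hp1).1 h1
    have h2' := (Nat.pow_le_pow_iff_right hp1).1 h2
    rw [hi, show i = 4 by omega]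
  have hSM : Nat.card S = p * Nat.card M := by rw [hcard, hMc, ← pow_succ']
  have hME : Nat.card M = p * Nat.card E := by rw [hMc, hEc, ← pow_succ']
  have hMn : Nml S M := nml_of_card hS hMS hSM
  haveI := finite_of_le hMS
  have hSMp : IsPGroup p M := hS.to_le hMS
  have hEnM : Nml M E := fun g hg x hx => conj_mem_of_mem_normalizerIn hg hx
  -- its centre `Y`
  set Y := centralizerIn M M with hYdef
  have hYn : Nml S Y := hMn.centralizer hMn
  have hYM : Y ≤ M := centralizerIn_le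
  have hYc : ∀ y ∈ Y, ∀ m ∈ M, Commute y m := fun y hy m hm => ((mem_centralizerIn.1 hy).2 m hm).symm
  have hYE : Y ≤ E := fun y hy =>
    hEc' (mem_centralizerIn.2 ⟨hMS (hYM hy), fun e he => (hYc y hy e (hEM he)).symm.eq⟩)
  have hZY : Zs S ≤ Y := fun z hz => mem_centralizerIn.2
    ⟨hEM (hEc' (mem_centralizerIn.2 ⟨Zs_le hz, fun e he => (mem_Zs.1 hz).2 e (hES he)⟩)),
      fun m hm => (mem_Zs.1 hz).2 m (hMS hm)⟩
  obtain ⟨g, hgM, hgE⟩ := SetLike.exists_of_lt hEltM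
  have hMgen : E ⊔ Subgroup.zpowers g = M := eq_sup_zpowers hS hMS hEM hME hgM hgE
  have hgY : ∀ e ∈ E, Commute g e → e ∈ Y := fun e he hge => by
    refine mem_centralizerIn.2 ⟨hEM he, fun m hm => ?_⟩
    have hle : E ⊔ Subgroup.zpowers g ≤ Subgroup.centralizer {e} := sup_le
      (fun a ha => Subgroup.mem_centralizer_singleton_iff.2 (hab a ha e he).eq)
      (Subgroup.zpowers_le.2 (Subgroup.mem_centralizer_singleton_iff.2 hge.eq))
    exact Subgroup.mem_centralizer_singleton_iff.1 (hle (hMgen.ge hm))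
  have hfix : ∀ e ∈ E, g * e * g⁻¹ = e ↔ e ∈ Y := fun e he =>
    ⟨fun h => hgY e he (mul_inv_eq_iff_eq_mul.1 h),
      fun h => mul_inv_eq_iff_eq_mul.2 (hYc e h g hgM).symm.eq⟩
  -- the derived subgroup of `M` lies in `Y`
  set T := ⁅M, M⁆ with hTdef
  have hTn : Nml S T := hMn.commutator hMn
  have hTE : T ≤ E := Subgroup.commutator_le.2 fun a ha b hb =>
    (comm_mem_of_step (S := M) hSMp hEM le_rfl hEnM nml_self hME ha hb).1
  have hTY : T ≤ Y := by
    intro d hd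
    by_contra hdY
    have hgK : g ∉ centralizerIn S T := fun h =>
      hdY (hgY d (hTE hd) (((mem_centralizerIn.1 h).2 d hd).symm))
    have hKn : Nml S (centralizerIn S T ⊓ M) := (nml_self.centralizer hTn).inf hMn
    have hEK : E ≤ centralizerIn S T ⊓ M := le_inf
      (fun e he => mem_centralizerIn.2 ⟨hES he, fun a ha => (hab a (hTE ha) e he).eq⟩) hEM
    have hlt : centralizerIn S T ⊓ M < M := lt_of_le_of_ne inf_le_right fun e => hgK (e.ge hgM).1
    have hle := mul_card_le hS hMS hlt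
    rw [hME] at hle
    exact hEn ((eq_of_card (inf_le_right.trans hMS) hEK
      (Nat.le_of_mul_le_mul_left hle hp.out.pos)).symm ▸ hKn)
  -- orders of `Y` and `T`
  have hYne : Y ≠ E := fun e => hgE (hEc' (mem_centralizerIn.2
    ⟨hMS hgM, fun a ha => (hYc a (e.ge ha) g hgM).eq⟩))
  have hYp2 : Nat.card Y = p ^ 2 := by
    obtain ⟨i, hi⟩ := exists_card_eq hS (hYE.trans hES)
    have h1 := mul_card_le hS hES (lt_of_le_of_ne hYE hYne)
    rw [hEc, hi, ← pow_succ'] at h1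
    have h1' := (Nat.pow_le_pow_iff_right hp1).1 h1
    have h2 := card_le_mul_centralizer (K := E) (Z := Y) (w := g) hES (hYE.trans hES)
      (fun e he => hTY (Subgroup.commutator_mem_commutator (hEM he) hgM))
      (fun c hc e he => (hYc c hc e (hEM he)).symm)
      fun c hc d hd => hYc c hc d (hYM hd)
    have h3 : E ⊓ Subgroup.centralizer {g} ≤ Y := fun e he =>
      hgY e he.1 (Subgroup.mem_centralizer_singleton_iff.1 he.2).symm
    haveI := finite_of_le (hYE.trans hES)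
    have h4 := h2.trans (Nat.mul_le_mul_left _ (Subgroup.card_le_of_le h3))
    rw [hEc, hi, ← pow_add] at h4
    have h4' := (Nat.pow_le_pow_iff_right hp1).1 h4
    rw [hi, show i = 2 by omega]
  have hEY : Nat.card E = p * Nat.card Y := by rw [hEc, hYp2, ← pow_succ']
  obtain ⟨x, hxE, hxY⟩ := SetLike.exists_of_lt (lt_of_le_of_ne hYE hYne)
  have hxM := hEM hxE
  have hxS := hES hxE
  have hEgen : Y ⊔ Subgroup.zpowers x = E := eq_sup_zpowers hS hES hYE hEY hxE hxY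
  set z₀ := ⁅x, g⁆ with hz₀
  have hz₀T : z₀ ∈ T := Subgroup.commutator_mem_commutator hxM hgM
  have hTgen : T = Subgroup.zpowers z₀ := by
    refine le_antisymm ?_ (Subgroup.zpowers_le.2 hz₀T)
    have hN : Nml M (Subgroup.zpowers z₀) := fun m hm a ha => by
      rw [((hYc a (hTY ((Subgroup.zpowers_le.2 hz₀T) ha)) m hm)).symm.eq, mul_inv_cancel_right]
      exact ha
    have key : ∀ w, (∀ y ∈ Y, Commute w y) → ⁅w, x⁆ ∈ Subgroup.zpowers z₀ →
        ⁅w, g⁆ ∈ Subgroup.zpowers z₀ → ∀ m ∈ M, ⁅w, m⁆ ∈ Subgroup.zpowers z₀ := by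
      intro w hwY hwx hwg m hm
      have hle : Y ⊔ Subgroup.zpowers x ⊔ Subgroup.zpowers g ≤ commMod M hN w :=
        sup_le (sup_le (fun y hy => mem_commMod.2 ⟨hYM hy, by
          rw [commutatorElement_eq_one_iff_commute.2 (hwY y hy)]
          exact one_mem _⟩) (Subgroup.zpowers_le.2 ⟨hxM, hwx⟩)) (Subgroup.zpowers_le.2 ⟨hgM, hwg⟩)
      rw [hEgen, hMgen] at hle
      exact (hle hm).2
    have hx' := key x (fun y hy => (hYc y hy x hxM).symm) (by simp)
      (Subgroup.mem_zpowers z₀)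
    have hg' := key g (fun y hy => (hYc y hy g hgM).symm) (by
      rw [← commutatorElement_inv]; exact inv_mem (Subgroup.mem_zpowers z₀)) (by simp)
    refine Subgroup.commutator_le.2 fun a ha b hb => ?_
    refine key a (fun y hy => (hYc y hy a ha).symm) ?_ ?_ b hb
    · rw [← commutatorElement_inv]; exact inv_mem (hx' a ha)
    · rw [← commutatorElement_inv]; exact inv_mem (hg' a ha)
  have hz₀1 : z₀ ≠ 1 := fun h => hxY (hgY x hxE (commutatorElement_eq_one_iff_commute.1 h).symm)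
  have hTc : Nat.card T = p := by
    rw [hTgen, Nat.card_zpowers]
    refine orderOf_eq_prime ?_ hz₀1
    rw [hz₀, ← comm_pow_left ((hYc _ (hTY hz₀T) x hxM).symm), commutatorElement_eq_one_iff_commute]
    exact hYc _ (pow_mem_of_step hYE hES
      (fun m hm a ha => hYn m (hES hm) a ha) hEY hxE) g hgM
  have hTZ : T ≤ Zs S := le_Zs_of_card hS hTn (hTE.trans hES) hTc
  have hTY' : Nat.card Y = p * Nat.card T := by rw [hYp2, hTc, pow_two]
  have hTord : ∀ {a : Ω}, a ∈ T → a ≠ 1 → orderOf a = p := fun {a} ha ha1 => by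
    haveI := finite_of_le (hTE.trans hES)
    refine orderOf_eq_prime ?_ ha1
    have h : (⟨a, ha⟩ : T) ^ p = 1 := by rw [← hTc]; exact pow_card_eq_one'
    exact congrArg Subtype.val h
  -- the normal subgroup `E₀`
  have hYltM : Y < M := lt_of_le_of_ne hYM fun e => hxY (e.ge hxM)
  obtain ⟨E₀, hE₀n, hYE₀, hE₀M, hE₀c⟩ := exists_step hS hYn hMn hMS hYltM
  have hE₀c3 : Nat.card E₀ = p ^ 3 := by rw [hE₀c, hYp2, ← pow_succ']
  have hE₀S : E₀ ≤ S := hE₀M.trans hMS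
  have hME₀ : Nat.card M = p * Nat.card E₀ := by rw [hMc, hE₀c3, ← pow_succ']
  have hE₀ab : ∀ a ∈ E₀, ∀ b ∈ E₀, Commute a b :=
    comm_of_central_step hS hE₀S hYE₀ hE₀c fun a ha b hb => hYc a ha b (hE₀M hb)
  have hE₀ne : E₀ ≠ E := fun e => hEn (e ▸ hE₀n)
  have hxE₀ : x ∉ E₀ := fun h => hE₀ne (eq_of_card hE₀S
    (hEgen ▸ sup_le hYE₀ (Subgroup.zpowers_le.2 h)) (by rw [hE₀c3, hEc])).symm
  have hM₀gen : E₀ ⊔ Subgroup.zpowers x = M := eq_sup_zpowers hS hMS hE₀M hME₀ hxM hxE₀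
  obtain ⟨s₀, hs₀, hs₀M⟩ := SetLike.exists_of_lt (lt_of_le_of_ne hMS hMne)
  have hconjE : ∀ s ∈ S, s * x * s⁻¹ ∈ E → s ∈ M := fun s hs h => by
    refine ⟨hs, mem_normalizer_of_maps fun y hy => ?_⟩
    have hle : Y ⊔ Subgroup.zpowers x ≤ E.comap (MulAut.conj s).toMonoidHom :=
      sup_le (fun a ha => hYE (hYn s hs a ha)) (Subgroup.zpowers_le.2 h)
    exact hle (hEgen.ge hy)
  have hcmem : ∀ s ∈ S, ⁅x, s⁆ ∈ E₀ := fun s hs =>
    (comm_mem_of_step hS hE₀M hMS hE₀n hMn hME₀ hxM hs).1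
  have hcE : ∀ s ∈ S, s ∉ M → ⁅x, s⁆ ∉ E := fun s hs hsM h => hsM (hconjE s hs (by
    have := E.mul_mem (E.inv_mem h) hxE
    rwa [show ⁅x, s⁆⁻¹ * x = s * x * s⁻¹ by simp only [commutatorElement_def]; group] at this))
  -- automorphisms of `M` extend to `S`
  have hNM : normalizerIn S M = S := normalizerIn_of_nml hMS hMn
  have hMfn := isFullyNormalized_of_nml F hMS hMn
  have iY : ∀ α ∈ F.autGroup M, Inv α Y := fun α _ => (inv_self α).centralizer hMS le_rfl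
  have iE₀ : ∀ α ∈ F.autGroup M, Inv α E₀ := by
    intro α hα
    have hm := ((mem_autGroup_iff hMS).1 hα).mono hE₀M
    have hXM : imgSub (autMap α) E₀ ≤ M := fun y hy => by
      obtain ⟨w, hw, rfl⟩ := hm.mem_imgSub.1 hy
      exact autMap_mem α (hE₀M hw)
    have hYX : Y ≤ imgSub (autMap α) E₀ := fun y hy => by
      obtain ⟨w, hw, rfl⟩ := (iY α hα).exists_preimage hMS hYM hy
      exact hm.mem_imgSub.2 ⟨w, hYE₀ hw, rfl⟩
    have hsx' : x⁻¹ * (s₀ * x * s₀⁻¹) ∉ Y := fun h => hs₀M (hconjE s₀ hs₀ (by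
      have := E.mul_mem hxE (hYE h)
      rwa [mul_inv_cancel_left] at this))
    rcases class_or hS hYE₀ hYE hMS hE₀M hxE hxM hxE₀ hE₀c hEY hME₀ hYn hE₀n hs₀
        (conj_div_mem hS hE₀M hMS hE₀n hMn hME₀ hs₀ hxM) hsx' (imgSub (autMap α) E₀) hYX hXM
        (by rw [← hm.isIso.card_eq, hE₀c]) with h | ⟨k, hk, h⟩
    · intro w hw
      rw [← h]
      exact hm.mem_imgSub.2 ⟨w, hw, rfl⟩
    · exact (not_maps_normal hE.2.1 (fun hle => hEn fun a ha w hw =>
        (Subgroup.mem_normalizer_iff.1 (hle ha) w).1 hw) (hE₀n.le_normalizer hE₀S) hMS hE₀M hα hk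
        (by rw [← hm.coe_imgSub]; exact h)).elim
  have hlift : ∀ α ∈ F.autGroup M, ∃ β ∈ F.autGroup S, ∀ y ∈ M, autMap β y = autMap α y := by
    intro α hα
    have hres : ∀ {X : Subgroup Ω}, Nml S X → Nml (normalizerIn S M) X := fun h => hNM.symm ▸ h
    obtain ⟨β, hβ, hβe⟩ := extend_chain4 hS hF hMfn hTY hYE₀ hE₀M (Or.inr (by simp [hTc]))
      (Or.inr hTY') (Or.inr hE₀c) (Or.inr hME₀) (hres hTn) (hres hYn) (hres hE₀n)
      (fun α _ => (inv_self α).commutator le_rfl le_rfl (inv_self α)) iY iE₀ hα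
    obtain ⟨β', hβ', he⟩ := aut_cast hNM hβ
    exact ⟨β', hβ', fun y hy => (he y).trans (hβe y hy)⟩
  -- torus elements on `S`
  have htorus : ∀ l m : ℕ, 1 ≤ l → l ≤ p → 1 ≤ m → l * m ≡ 1 [MOD p] →
      ∃ C : Subgroup Ω, C ≤ Y ∧ (∀ y ∈ Y, ∃ c ∈ C, ∃ a ∈ T, y = c * a) ∧
        ∃ β ∈ F.autGroup S, Inv β M ∧ Inv β E₀ ∧ (∀ c ∈ C, autMap β c = c) ∧
          (∀ a ∈ T, autMap β a = a ^ l) ∧ ∃ y ∈ Y, autMap β x = x ^ m * y := by
    intro l m hl hlp hm hlm
    obtain ⟨C, hCY, hdec, β₀, hβ₀, -, hC, hT', hx'⟩ := torus_extend hS hF hE hab hgM hgE hME hTY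
      hYE hTc hEY hfix (fun e he => by
        rw [show e⁻¹ * (g * e * g⁻¹) = ⁅e⁻¹, g⁆ by simp only [commutatorElement_def]; group]
        exact Subgroup.commutator_mem_commutator (M.inv_mem (hEM he)) hgM) hl hlp hm hlm
    obtain ⟨β, hβ, he⟩ := hlift β₀ hβ₀
    refine ⟨C, hCY, hdec, β, hβ, fun y hy => he y hy ▸ autMap_mem _ hy,
      fun y hy => he y (hE₀M hy) ▸ iE₀ β₀ hβ₀ y hy,
      fun c hc => (he c (hYM (hCY hc))).trans (hC c hc),
      fun a ha => (he a (hEM (hTE ha))).trans (hT' a ha),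
      autMap β₀ x * (x ^ m)⁻¹, hx' x hxE, ?_⟩
    rw [he x hxM, (hYc _ (hx' x hxE) _ (M.pow_mem hxM m)).symm.eq, inv_mul_cancel_right]
  have hσ : ∀ β ∈ F.autGroup S, Inv β M → ∀ s ∈ S, s ∉ M →
      ∃ σ, ¬ p ∣ σ ∧ ∃ m' ∈ M, autMap β s = s ^ σ * m' := by
    intro β hβ hi s hs hsM
    obtain ⟨i, hip, m', hm', e⟩ := exists_pow_mul hMS le_rfl hMn hSM hs hsM (autMap_mem β hs)
    refine ⟨i, fun hd => ?_, m', hm', e⟩
    rw [Nat.eq_zero_of_dvd_of_lt hd hip, pow_zero, one_mul] at e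
    obtain ⟨w, hw, hwe⟩ := hi.exists_preimage le_rfl hMS hm'
    exact hsM (autMap_inj β hs (hMS hw) (e.trans hwe.symm) ▸ hw)
  -- facts about `x`, `c = ⁅x, s⁆` and `⁅x, c⁆`
  have hxc : ∀ s ∈ S, s ∉ M → ⁅x, ⁅x, s⁆⁆ ∈ T ∧ ⁅x, ⁅x, s⁆⁆ ≠ 1 := by
    intro s hs hsM
    refine ⟨Subgroup.commutator_mem_commutator hxM (hE₀M (hcmem s hs)), fun h => hcE s hs hsM ?_⟩
    refine hEc' (mem_centralizerIn.2 ⟨hE₀S (hcmem s hs), fun e he => ?_⟩)
    have hle : Y ⊔ Subgroup.zpowers x ≤ Subgroup.centralizer {⁅x, s⁆} := sup_le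
      (fun y hy => Subgroup.mem_centralizer_singleton_iff.2
        (hYc y hy _ (hE₀M (hcmem s hs))).eq)
      (Subgroup.zpowers_le.2 (Subgroup.mem_centralizer_singleton_iff.2
        (commutatorElement_eq_one_iff_commute.1 h).eq))
    exact Subgroup.mem_centralizer_singleton_iff.1 (hle (hEgen.ge he))
  -- the torus of order two
  set T' : Subgroup S := T.subgroupOf S with hT'def
  set Y' : Subgroup S := Y.subgroupOf S with hY'def
  haveI : T'.Normal := ⟨fun a ha k => hTn k k.2 a ha⟩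
  haveI : Y'.Normal := ⟨fun a ha k => hYn k k.2 a ha⟩
  have hcs : ∀ s ∈ S, s ∉ M → ⁅⁅x, s⁆, s⁆ ∈ T := by
    intro s hs hsM
    have hp3 : 3 ≤ p := by have := hp.out.two_le; omega
    have hlm : (p - 1) * (p - 1) ≡ 1 [MOD p] := by
      rw [← ZMod.natCast_eq_natCast_iff]
      push_cast [Nat.cast_sub hp.out.one_le]
      rw [ZMod.natCast_self]; ring
    obtain ⟨C, hCY, hdec, β, hβ, iM, -, hC, hTl, y, hy, hβx⟩ :=
      htorus (p - 1) (p - 1) (by omega) (Nat.sub_le p 1) (by omega) hlm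
    obtain ⟨σ, -, m', hm', hβs⟩ := hσ β hβ iM s hs hsM
    have hcS : ⁅x, s⁆ ∈ S := hE₀S (hcmem s hs)
    have hval : ∀ w : S, ((β w : S) : Ω) = autMap β w := fun w => (autMap_coe β w).symm
    obtain ⟨hlam, t, ht, hβcs⟩ := config_step T' Y' (p := p) (Subgroup.comap_mono hTY)
      (fun w hw k => (comm_mem_of_step hS hTY (hYE.trans hES) hTn hYn hTY' hw k.2).1)
      (fun w hw k => Subtype.ext (comm_Zs (hTZ hw) k.2).eq)
      (x := ⟨x, hxS⟩) (s := ⟨s, hs⟩)
      (fun k => (comm_mem_of_step hS hYE₀ hE₀S hYn hE₀n hE₀c (hcmem s hs) k.2).1)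
      (hxc s hs hsM).1 (by
        rw [← Subgroup.orderOf_coe]
        exact hTord (hxc s hs hsM).1 (hxc s hs hsM).2)
      (fun w hw => Subtype.ext (hab x hxE _ (hYE hw)).eq)
      (fun w hw => Subtype.ext (hE₀ab _ (hcmem s hs) _ (hYE₀ hw)).eq)
      (fun w hw w' hw' => Subtype.ext (hab _ (hYE hw) _ (hYE hw')).eq)
      β (m := ⟨m', hMS hm'⟩) (μ := p - 1) (σ := σ) (lam := p - 1) (y := ⟨y, hYE.trans hES hy⟩) hy
      (hTY (Subgroup.commutator_mem_commutator hxM hm'))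
      (Subgroup.commutator_mem_commutator (hE₀M (hcmem s hs)) hm')
      (Subtype.ext ((hval _).trans hβx)) (Subtype.ext ((hval _).trans hβs))
      (Subtype.ext ((hval _).trans (hTl _ (hxc s hs hsM).1)))
    set w := ⁅⁅x, s⁆, s⁆ with hw
    have hwY : w ∈ Y := (comm_mem_of_step hS hYE₀ hE₀S hYn hE₀n hE₀c (hcmem s hs) hs).1
    set N := (p - 1) * σ * σ with hN
    have hβw : autMap β w = w ^ N * t := by
      rw [hw]
      have h := congrArg (fun a : S => (a : Ω)) hβcs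
      simp only [hval] at h
      exact h
    -- `β` is the identity on `Y` modulo `T`
    obtain ⟨c₁, hc₁, a, ha, hwe⟩ := hdec w hwY
    have hid : w⁻¹ * autMap β w ∈ T := by
      rw [hwe, autMap_mul' β ((hYE.trans hES) (hCY hc₁)) ((hTE.trans hES) ha), hC c₁ hc₁, hTl a ha,
        mul_inv_rev, show a⁻¹ * c₁⁻¹ * (c₁ * a ^ (p - 1)) = a⁻¹ * a ^ (p - 1) by group]
      exact T.mul_mem (T.inv_mem ha) (T.pow_mem ha _)
    have h1 : w⁻¹ * w ^ N ∈ T := by
      have := T.mul_mem hid (T.inv_mem ht)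
      rwa [hβw, mul_assoc, Subgroup.subtype_apply, mul_inv_cancel_right] at this
    have hdiv : p ∣ N + 1 := by
      rw [← ZMod.natCast_eq_zero_iff]
      have e : ((p - 1 : ℕ) : ZMod p) = -1 := by
        rw [Nat.cast_sub hp.out.one_le, Nat.cast_one, ZMod.natCast_self, zero_sub]
      rw [e] at hlam
      have hσ1 : (σ : ZMod p) = -1 := by linear_combination -hlam
      rw [hN]
      push_cast
      rw [e, hσ1]; ring
    obtain ⟨q, hq⟩ := hdiv
    have hwp : w ^ p ∈ T := pow_mem_of_step hTY (hYE.trans hES)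
      (fun k hk a ha => hTn k (hES (hYE hk)) a ha) hTY' hwY
    have h2 : w ^ 2 ∈ T := by
      have h3 : (w ^ p) ^ q ∈ T := T.pow_mem hwp q
      rw [← pow_mul, ← hq] at h3
      have := T.mul_mem (T.inv_mem h1) h3
      rwa [mul_inv_rev, inv_inv, pow_succ' w N, mul_assoc, ← mul_assoc w w,
        ← pow_two, ((Commute.refl w).pow_pow 2 N).eq, inv_mul_cancel_left] at this
    have h4 := T.mul_mem (T.pow_mem h2 ((p + 1) / 2)) (T.inv_mem hwp)
    rwa [← pow_mul, two_mul_half hp2, pow_succ', mul_inv_cancel_right] at h4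
  have hSgen : ∀ {s : Ω}, s ∈ S → s ∉ M → M ⊔ Subgroup.zpowers s = S := fun hs hsM =>
    eq_sup_zpowers hS le_rfl hMS hSM hs hsM
  have hE₀T : ∀ e ∈ E₀, ∀ k ∈ S, ⁅e, k⁆ ∈ T := by
    have hc₀ : ⁅x, s₀⁆ ∉ Y := fun h => hcE s₀ hs₀ hs₀M (hYE h)
    have hgen₀ := eq_sup_zpowers hS hE₀S hYE₀ hE₀c (hcmem s₀ hs₀) hc₀
    intro e he k hk
    have hle : Y ⊔ Subgroup.zpowers ⁅x, s₀⁆ ≤ commMod S hTn k := by
      refine sup_le (fun y hy => mem_commMod.2 ⟨(hYE.trans hES) hy,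
        (comm_mem_of_step hS hTY (hYE.trans hES) hTn hYn hTY' hy hk).2⟩)
        (Subgroup.zpowers_le.2 (mem_commMod.2 ⟨hE₀S (hcmem s₀ hs₀), ?_⟩))
      have hle' : M ⊔ Subgroup.zpowers s₀ ≤ commMod S hTn ⁅x, s₀⁆ := sup_le
        (fun m hm => mem_commMod.2
          ⟨hMS hm, Subgroup.commutator_mem_commutator (hE₀M (hcmem s₀ hs₀)) hm⟩)
        (Subgroup.zpowers_le.2 (mem_commMod.2 ⟨hs₀, hcs s₀ hs₀ hs₀M⟩))
      rw [← commutatorElement_inv]
      exact T.inv_mem (hle' ((hSgen hs₀ hs₀M).ge hk)).2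
    have h := (hle (hgen₀.ge he)).2
    rw [← commutatorElement_inv]
    exact T.inv_mem h
  -- the centre has order `p`
  have hZT : Zs S = T := by
    refine le_antisymm ?_ hTZ
    by_contra hne
    have hZp2 : Zs S = Y := by
      refine eq_of_card (hYE.trans hES) hZY ?_
      rw [hTY']
      exact mul_card_le hS Zs_le (lt_of_le_not_ge hTZ hne)
    set c := ⁅x, s₀⁆ with hc
    have hcE₀ := hcmem s₀ hs₀
    set K := S ⊓ Subgroup.centralizer {c} with hK
    have hEK : E₀ ≤ K := fun e he => ⟨hE₀S he,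
      Subgroup.mem_centralizer_singleton_iff.2 (hE₀ab e he c hcE₀).eq⟩
    have h2 := card_le_mul_centralizer (K := S) (Z := T) (w := c) le_rfl (hTE.trans hES)
      (fun k hk => by rw [← commutatorElement_inv]; exact T.inv_mem (hE₀T c hcE₀ k hk))
      (fun a ha k hk => (comm_Zs (hTZ ha) hk).symm)
      fun a ha b hb => comm_Zs (hTZ ha) ((hTE.trans hES) hb)
    rw [hTc, ← hK] at h2
    have hKne : K ≠ S := fun e => hcE s₀ hs₀ hs₀M (hYE (hZp2.le (mem_Zs.2 ⟨hE₀S hcE₀,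
      fun k hk => Subgroup.mem_centralizer_singleton_iff.1 (e.ge hk).2⟩)))
    have h3 := mul_card_le hS le_rfl (lt_of_le_of_ne inf_le_left hKne)
    have hKc : Nat.card K = p ^ 4 := by
      have h4 : p * Nat.card K = p * p ^ 4 := by
        rw [← pow_succ', ← hcard]; exact le_antisymm h3 h2
      exact Nat.eq_of_mul_eq_mul_left hp.out.pos h4
    have hgen₀ := eq_sup_zpowers hS hE₀S hYE₀ hE₀c hcE₀ fun h => hcE s₀ hs₀ hs₀M (hYE h)
    refine hno K inf_le_left hKc (comm_of_central_step hS inf_le_left hEK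
      (by rw [hKc, hE₀c3, ← pow_succ']) fun e he k hk => ?_)
    have hle : Y ⊔ Subgroup.zpowers c ≤ Subgroup.centralizer {k} := sup_le
      (fun y hy => Subgroup.mem_centralizer_singleton_iff.2 (comm_Zs (hZp2.ge hy) hk.1).eq)
      (Subgroup.zpowers_le.2 (Subgroup.mem_centralizer_singleton_iff.2
        (Subgroup.mem_centralizer_singleton_iff.1 hk.2).symm))
    exact Subgroup.mem_centralizer_singleton_iff.1 (hle (hgen₀.ge he))
  -- choose `s` commuting with `c`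
  set c := ⁅x, s₀⁆ with hcdef
  have hcE₀ : c ∈ E₀ := hcmem s₀ hs₀
  have hcS : c ∈ S := hE₀S hcE₀
  have hcY : c ∉ Y := fun h => hcE s₀ hs₀ hs₀M (hYE h)
  set z := ⁅x, c⁆ with hzdef
  have hzT : z ∈ T := (hxc s₀ hs₀ hs₀M).1
  have hz1 : z ≠ 1 := (hxc s₀ hs₀ hs₀M).2
  have hzord : orderOf z = p := hTord hzT hz1
  have hTz : ∀ a ∈ T, ∃ i : ℕ, z ^ i = a := by
    intro a ha
    haveI := finite_of_le (hTE.trans hES)
    obtain ⟨i, hi⟩ : (⟨a, ha⟩ : T) ∈ Submonoid.powers (⟨z, hzT⟩ : T) :=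
      mem_powers_of_prime_card hTc fun h => hz1 (congrArg Subtype.val h)
    exact ⟨i, congrArg Subtype.val hi⟩
  obtain ⟨k₀, hk₀⟩ := hTz _ (hcs s₀ hs₀ hs₀M)
  set s := s₀ * x ^ k₀ with hsdef
  have hs : s ∈ S := S.mul_mem hs₀ (S.pow_mem hxS k₀)
  have hsM : s ∉ M := fun h => hs₀M (by
    have := M.mul_mem h (M.inv_mem (M.pow_mem hxM k₀))
    rwa [hsdef, mul_inv_cancel_right] at this)
  have hxsc : ⁅x, s⁆ = c := by
    rw [hcdef, hsdef, show ⁅x, s₀ * x ^ k₀⁆ = ⁅x, s₀⁆ * (s₀ * ⁅x, x ^ k₀⁆ * s₀⁻¹) by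
      simp only [commutatorElement_def]; group,
      commutatorElement_eq_one_iff_commute.2 ((Commute.refl x).pow_right k₀), mul_one,
      mul_inv_cancel, mul_one]
  have hcen : ∀ {a}, a ∈ T → ∀ {k}, k ∈ S → Commute a k := fun ha _ hk => comm_Zs (hTZ ha) hk
  have hcsc : Commute c s := by
    rw [← commutatorElement_eq_one_iff_commute, hsdef,
      show ⁅c, s₀ * x ^ k₀⁆ = ⁅c, s₀⁆ * (s₀ * ⁅c, x ^ k₀⁆ * s₀⁻¹) by
        simp only [commutatorElement_def]; group, ← hk₀,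
      comm_pow_right (hcen (by rw [← commutatorElement_inv]; exact T.inv_mem hzT) hxS).symm,
      ← commutatorElement_inv x c, ← hzdef, inv_pow,
      (hcen (T.inv_mem (T.pow_mem hzT k₀)) hs₀).symm.eq, mul_inv_cancel_right, mul_inv_cancel]
  clear_value s
  -- `p = 3`
  obtain ⟨C₂, hC₂Y, hdec₂, β₂, hβ₂, iM₂, iE₂, hC₂, hT₂, y₂, hy₂, hβ₂x⟩ :=
    htorus 2 ((p + 1) / 2) (by omega) hp.out.two_le (by have := two_mul_half hp2; omega)
      (two_mul_half_mod hp2)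
  obtain ⟨f, hfC, hfT⟩ : ∃ f ∈ C₂, f ∉ T := by
    by_contra h
    push Not at h
    have hYT : Y ≤ T := fun y hy => by
      obtain ⟨a, ha, b, hb, rfl⟩ := hdec₂ y hy
      exact T.mul_mem (h a ha) hb
    haveI := finite_of_le (hTE.trans hES)
    have := Subgroup.card_le_of_le hYT
    rw [hYp2, hTc] at this
    nlinarith
  have hfY := hC₂Y hfC
  have hfE₀ := hYE₀ hfY
  have hfS := hE₀S hfE₀
  obtain ⟨k, hk⟩ := hTz _ (hE₀T f hfE₀ s hs)
  have hkp : ¬ p ∣ k := by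
    rintro ⟨q, rfl⟩
    rw [pow_mul, ← hzord, pow_orderOf_eq_one, one_pow] at hk
    refine hfT (hZT.le (mem_Zs.2 ⟨hfS, fun w hw => ?_⟩))
    have hle : M ⊔ Subgroup.zpowers s ≤ Subgroup.centralizer {f} := sup_le
      (fun m hm => Subgroup.mem_centralizer_singleton_iff.2 (hYc f hfY m hm).symm.eq)
      (Subgroup.zpowers_le.2 (Subgroup.mem_centralizer_singleton_iff.2
        (commutatorElement_eq_one_iff_commute.1 hk.symm).symm.eq))
    exact Subgroup.mem_centralizer_singleton_iff.1 (hle ((hSgen hs hsM).ge hw))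
  haveI : (E₀.subgroupOf S).Normal := ⟨fun a ha w => hE₀n w w.2 a ha⟩
  -- the identity, for automorphisms in the normal form
  have hident : ∀ β ∈ F.autGroup S, ∀ a b i σ j : ℕ, ∀ e ∈ E₀, ∀ e' ∈ E₀, ∀ e'' ∈ T, ¬ p ∣ σ →
      autMap β x = x ^ a * (s ^ i * e) → autMap β s = s ^ σ * e' →
      autMap β f = f ^ b * (c ^ j * e'') → (b : ZMod p) = (a : ZMod p) ^ 2 := by
    intro β _ a b i σ j e he e' he' e'' he'' hσp hx hs' hf
    have hc0 : ⁅(⟨x, hxS⟩ : S), (⟨s, hs⟩ : S)⁆ = ⟨c, hcS⟩ := Subtype.ext hxsc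
    refine (config_identity (p := p) T' (E₀.subgroupOf S) (fun w hw k => hE₀T w hw k k.2)
      (fun w hw k => Subtype.ext (hcen hw k.2).eq) (fun w hw w' hw' => Subtype.ext (hE₀ab w hw w' hw').eq)
      (x := ⟨x, hxS⟩) (s := ⟨s, hs⟩) (f := ⟨f, hfS⟩) (by rw [hc0]; exact hcE₀)
      (by rw [hc0]; exact Subtype.ext hcsc.eq) hfE₀ hkp ?_ ?_ β (a := a) (b := b) (i := i) (σ := σ)
      (j := j) (e := ⟨e, hE₀S he⟩) (e' := ⟨e', hE₀S he'⟩)
      (e'' := ⟨e'', (hTE.trans hES) he''⟩) he he' he'' hσp ?_ ?_ ?_).1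
    · rw [hc0]; exact Subtype.ext hk.symm
    · rw [hc0, ← Subgroup.orderOf_coe]; exact hzord
    · exact Subtype.ext ((autMap_coe β _).symm.trans hx)
    · exact Subtype.ext ((autMap_coe β _).symm.trans hs')
    · rw [hc0]; exact Subtype.ext ((autMap_coe β _).symm.trans hf)
  have hE₀gen : Y ⊔ Subgroup.zpowers c = E₀ := eq_sup_zpowers hS hE₀S hYE₀ hE₀c hcE₀ hcY
  -- `c ^ p` is central
  have hcp : ∀ k ∈ S, Commute (c ^ p) k := by
    have hcpY : c ^ p ∈ Y := pow_mem_of_step hYE₀ hE₀S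
      (fun k hk a ha => hYn k (hE₀S hk) a ha) hE₀c hcE₀
    intro w hw
    have hle : M ⊔ Subgroup.zpowers s ≤ Subgroup.centralizer {c ^ p} := sup_le
      (fun m hm => Subgroup.mem_centralizer_singleton_iff.2 (hYc _ hcpY m hm).symm.eq)
      (Subgroup.zpowers_le.2 (Subgroup.mem_centralizer_singleton_iff.2 (hcsc.pow_left p).symm.eq))
    exact ((Subgroup.mem_centralizer_singleton_iff.1 (hle ((hSgen hs hsM).ge hw)) :
      w * c ^ p = c ^ p * w)).symm
  have hcroot : ∀ {j : ℕ}, ¬ p ∣ j → ∀ {w}, w ∈ S → Commute (c ^ j) w → Commute c w := by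
    intro j hj w hw h
    obtain ⟨q, -, q', hq⟩ : ∃ q, 0 ≤ q ∧ ∃ q', j * q = 1 + p * q' := by
      have hne : (j : ZMod p) ≠ 0 := by rwa [Ne, ZMod.natCast_eq_zero_iff]
      refine ⟨((j : ZMod p)⁻¹).val, Nat.zero_le _, (j * ((j : ZMod p)⁻¹).val) / p, ?_⟩
      have h1 : (j * ((j : ZMod p)⁻¹).val) % p = 1 := by
        have : ((j * ((j : ZMod p)⁻¹).val : ℕ) : ZMod p) = ((1 : ℕ) : ZMod p) := by
          push_cast [ZMod.natCast_zmod_val]
          exact mul_inv_cancel₀ hne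
        exact Eq.trans ((ZMod.natCast_eq_natCast_iff _ _ _).1 this) (Nat.mod_eq_of_lt hp1)
      conv_lhs => rw [← Nat.mod_add_div (j * ((j : ZMod p)⁻¹).val) p, h1]
    have h2 := h.pow_left q
    rw [← pow_mul, hq, pow_add, pow_one, pow_mul] at h2
    have h3 := h2.mul_left ((hcp w hw).pow_left q').inv_left
    rwa [mul_inv_cancel_right] at h3
  have hCMc : ∀ m ∈ M, Commute c m → m ∈ E₀ := fun m hm hcm => by
    by_contra hmE
    have hle : E₀ ⊔ Subgroup.zpowers m ≤ Subgroup.centralizer {c} := sup_le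
      (fun e he => Subgroup.mem_centralizer_singleton_iff.2 (hE₀ab e he c hcE₀).eq)
      (Subgroup.zpowers_le.2 (Subgroup.mem_centralizer_singleton_iff.2 hcm.symm.eq))
    exact hz1 (commutatorElement_eq_one_iff_commute.2 (Subgroup.mem_centralizer_singleton_iff.1
      (hle ((eq_sup_zpowers hS hMS hE₀M hME₀ hm hmE).ge hxM))))
  have hp3 : p = 3 := by
    obtain ⟨σ, hσp, m', hm', hβs⟩ := hσ β₂ hβ₂ iM₂ s hs hsM
    set m := (p + 1) / 2 with hm
    have hmp : ¬ p ∣ m := fun hd => by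
      have h := two_mul_half hp2
      rw [← hm] at h
      have h1 : p ∣ p + 1 := h ▸ hd.mul_left 2
      exact hp.out.one_lt.ne' (Nat.dvd_one.1 ((Nat.dvd_add_right dvd_rfl).1 h1))
    -- `β c` is `c ^ (m σ)` modulo `T`
    have hm'E : m' ∈ E₀ := by
      haveI := hTn
      obtain ⟨t, ht, hec⟩ := comm_perturb T' (x := (⟨x, hxS⟩ : S)) (y := ⟨s, hs⟩)
        (w := ⟨y₂, hYE.trans hES hy₂⟩) (w' := ⟨m', hMS hm'⟩) m σ
        (fun k => by
          have : ⁅(⟨x, hxS⟩ : S), (⟨s, hs⟩ : S)⁆ = ⟨c, hcS⟩ := Subtype.ext hxsc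
          rw [this]
          exact hE₀T c hcE₀ k k.2)
        ((comm_mem_of_step hS hTY (hYE.trans hES) hTn hYn hTY' hy₂ hs).1)
        (Subgroup.commutator_mem_commutator (hYM hy₂) hm')
        (Subgroup.commutator_mem_commutator hxM hm')
      have hec' : autMap β₂ c = c ^ (m * σ) * t := by
        rw [← hxsc, autMap_comm β₂ hxS hs, hβ₂x, hβs]
        exact congrArg Subtype.val hec
      have h1 := autMap_commute β₂ hcS hs hcsc
      rw [hec', hβs] at h1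
      have hsm' : s ^ σ * m' ∈ S := S.mul_mem (S.pow_mem hs σ) (hMS hm')
      have h2 := h1.mul_left (hcen (a := (t : Ω)⁻¹) (T.inv_mem ht) hsm')
      rw [mul_inv_cancel_right] at h2
      have h3 := hcroot (fun hd => ((hp.out.dvd_mul).1 hd).elim hmp hσp) hsm' h2
      have h4 := ((hcsc.pow_right σ).inv_right).mul_right h3
      rw [inv_mul_cancel_left] at h4
      exact hCMc m' hm' h4
    have h := hident β₂ hβ₂ m 1 0 σ 0 y₂ (hYE₀ hy₂) m' hm'E 1 T.one_mem hσp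
      (by rw [hβ₂x, pow_zero, one_mul]) hβs (by rw [hC₂ f hfC]; simp)
    have h2 : ((2 * m : ℕ) : ZMod p) = 1 := by
      rw [hm, two_mul_half hp2]; push_cast; rw [ZMod.natCast_self, zero_add]
    push_cast at h h2
    have h3 : ((3 : ℕ) : ZMod p) = 0 := by
      push_cast
      linear_combination (4 : ZMod p) * h + (2 * (m : ZMod p) + 1) * h2
    exact (Nat.prime_dvd_prime_iff_eq hp.out Nat.prime_three).1 ((ZMod.natCast_eq_zero_iff _ _).1 h3)
  -- the derived subgroup and `C_S(c)`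
  have hx_s : ∀ {w}, w ∈ S → ∀ N : Subgroup Ω, E₀ ⊔ Subgroup.zpowers x ⊔ Subgroup.zpowers s ≤ N → w ∈ N :=
    fun hw N h => h (by rw [hM₀gen]; exact (hSgen hs hsM).ge hw)
  set D := T ⊔ Subgroup.zpowers c with hDdef
  have hDE₀ : D ≤ E₀ := sup_le (hTY.trans hYE₀) (Subgroup.zpowers_le.2 hcE₀)
  have hDn : Nml S D := fun k hk d hd => by
    have := D.mul_mem (D.inv_mem (Subgroup.mem_sup_left (hE₀T d (hDE₀ hd) k hk) : _ ∈ D)) hd
    rwa [show ⁅d, k⁆⁻¹ * d = k * d * k⁻¹ by simp only [commutatorElement_def]; group] at this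
  have hder : ∀ a ∈ S, ∀ b ∈ S, ⁅a, b⁆ ∈ D := by
    have hE₀D : ∀ e ∈ E₀, ∀ b ∈ S, ⁅e, b⁆ ∈ D := fun e he b hb =>
      Subgroup.mem_sup_left (hE₀T e he b hb)
    have hE₀D' : ∀ e ∈ E₀, ∀ b ∈ S, ⁅b, e⁆ ∈ D := fun e he b hb => by
      rw [← commutatorElement_inv]; exact D.inv_mem (hE₀D e he b hb)
    have key : ∀ w ∈ S, ⁅w, x⁆ ∈ D → ⁅w, s⁆ ∈ D → ∀ b ∈ S, ⁅w, b⁆ ∈ D := fun w hw h1 h2 b hb =>
      (hx_s hb (commMod S hDn w) (sup_le (sup_le
        (fun e he => ⟨hE₀S he, hE₀D' e he w hw⟩) (Subgroup.zpowers_le.2 ⟨hxS, h1⟩))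
        (Subgroup.zpowers_le.2 ⟨hs, h2⟩))).2
    have hkx := key x hxS (by simp) (by rw [hxsc]; exact Subgroup.mem_sup_right (Subgroup.mem_zpowers c))
    have hks := key s hs (by
      rw [← commutatorElement_inv, hxsc]
      exact D.inv_mem (Subgroup.mem_sup_right (Subgroup.mem_zpowers c))) (by simp)
    intro a ha b hb
    refine key a ha ?_ ?_ b hb
    · rw [← commutatorElement_inv]; exact D.inv_mem (hkx a ha)
    · rw [← commutatorElement_inv]; exact D.inv_mem (hks a ha)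
  set K := S ⊓ Subgroup.centralizer {c} with hKdef
  have hKmem : ∀ {w}, w ∈ K ↔ w ∈ S ∧ Commute c w := fun {w} => by
    rw [hKdef, Subgroup.mem_inf, Subgroup.mem_centralizer_singleton_iff]
    exact ⟨fun h => ⟨h.1, h.2.symm⟩, fun h => ⟨h.1, h.2.symm.eq⟩⟩
  have hE₀K : E₀ ≤ K := fun e he => hKmem.2 ⟨hE₀S he, hE₀ab c hcE₀ e he⟩
  have hxK : x ∉ K := fun h => hz1 (commutatorElement_eq_one_iff_commute.2 (hKmem.1 h).2.symm)
  have hsK : s ∈ K := hKmem.2 ⟨hs, hcsc⟩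
  have hKS : K ≤ S := inf_le_left
  have hKgen : E₀ ⊔ Subgroup.zpowers s = K ∧ Nat.card K = p ^ 4 := by
    have hle : E₀ ⊔ Subgroup.zpowers s ≤ K := sup_le hE₀K (Subgroup.zpowers_le.2 hsK)
    have h1 := mul_card_le hS (hle.trans hKS) (lt_of_le_of_ne le_sup_left fun e =>
      hsM (hE₀M (e.ge (Subgroup.mem_sup_right (Subgroup.mem_zpowers s)))))
    have h2 := mul_card_le hS le_rfl (lt_of_le_of_ne hKS fun e => hxK (e.ge hxS))
    rw [hcard, show p ^ 5 = p * p ^ 4 by ring] at h2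
    have h3 := Nat.le_of_mul_le_mul_left h2 hp.out.pos
    rw [hE₀c3, ← pow_succ'] at h1
    haveI := finite_of_le hKS
    exact ⟨eq_of_card hKS hle (h3.trans h1), le_antisymm h3 (h1.trans (Subgroup.card_le_of_le hle))⟩
  have hKn : Nml S K := nml_of_card hS hKS (by rw [hKgen.2, hcard, ← pow_succ'])
  have hKE₀ : Nat.card K = p * Nat.card E₀ := by rw [hKgen.2, hE₀c3, ← pow_succ']
  have hsE₀ : s ∉ E₀ := fun h => hsM (hE₀M h)
  -- `E₀` is the second centre
  have hE₀char : ∀ w ∈ S, (∀ k ∈ S, ⁅w, k⁆ ∈ T) → w ∈ E₀ := by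
    intro w hw h
    by_contra hwE
    have hxw : ⁅x, w⁆ ∈ T := by rw [← commutatorElement_inv]; exact T.inv_mem (h x hxS)
    have hle : M ≤ commMod S hTn x := hM₀gen ▸ sup_le
      (fun e he => ⟨hE₀S he, by rw [← commutatorElement_inv]; exact T.inv_mem (hE₀T e he x hxS)⟩)
      (Subgroup.zpowers_le.2 ⟨hxS, by simp⟩)
    by_cases hwM : w ∈ M
    · have hMle : M ≤ {a : Ω | ∀ k ∈ S, ⁅a, k⁆ ∈ T} := by
        intro a ha k hk
        have hsub : E₀ ⊔ Subgroup.zpowers w ≤ commMod S hTn k := sup_le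
          (fun e he => ⟨hE₀S he, by rw [← commutatorElement_inv]; exact T.inv_mem (hE₀T e he k hk)⟩)
          (Subgroup.zpowers_le.2 ⟨hw, by rw [← commutatorElement_inv]; exact T.inv_mem (h k hk)⟩)
        rw [← commutatorElement_inv]
        exact T.inv_mem (hsub ((eq_sup_zpowers hS hMS hE₀M hME₀ hwM hwE).ge ha)).2
      exact hcY (hTY (hxsc ▸ hMle hxM s hs))
    · have hle' : M ⊔ Subgroup.zpowers w ≤ commMod S hTn x :=
        sup_le hle (Subgroup.zpowers_le.2 ⟨hw, hxw⟩)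
      exact hcY (hTY (hxsc ▸ (hle' ((hSgen hw hwM).ge hs)).2))
  have hDc : Nat.card D = p * Nat.card T := by
    refine card_sup_zpowers hS hTn (hTE.trans hES) hcS ?_ fun h => hcY (hTY h)
    rw [← hxsc, ← comm_pow_right (by rw [hxsc]; exact hcsc.symm) p]
    have hspM : s ^ p ∈ M := pow_mem_of_step hMS le_rfl hMn hSM hs
    have hspE : s ^ p ∈ E₀ := hCMc _ hspM (hcsc.pow_right p)
    rw [← commutatorElement_inv]
    exact T.inv_mem (hE₀T _ hspE x hxS)
  have hfD : f ∉ D := by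
    intro h
    obtain ⟨i, hip, t, ht, hfe⟩ := exists_pow_mul le_sup_left (hDE₀.trans hE₀S)
      (fun k hk a ha => hTn k ((hDE₀.trans hE₀S) hk) a ha) hDc
      (Subgroup.mem_sup_right (Subgroup.mem_zpowers c)) (fun h => hcY (hTY h)) h
    have hciY : c ^ i ∈ Y := by
      have := Y.mul_mem hfY (Y.inv_mem (hTY ht))
      rwa [hfe, mul_inv_cancel_right] at this
    rcases Nat.eq_zero_or_pos i with rfl | hipos
    · rw [pow_zero, one_mul] at hfe
      exact hfT (hfe ▸ ht)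
    · have hicop : Nat.Coprime p i := hp.out.coprime_iff_not_dvd.2
        fun hd => (Nat.le_of_dvd hipos hd).not_gt hip
      have hc1 : c = (c ^ p) ^ (Nat.gcdA p i) * (c ^ i) ^ (Nat.gcdB p i) := by
        rw [← zpow_natCast c p, ← zpow_natCast c i, ← zpow_mul, ← zpow_mul, ← zpow_add,
          ← Nat.gcd_eq_gcd_ab, hicop, Nat.cast_one, zpow_one]
      exact hcY (hc1 ▸ Y.mul_mem (Y.zpow_mem (pow_mem_of_step hYE₀ hE₀S
        (fun k hk a ha => hYn k (hE₀S hk) a ha) hE₀c hcE₀) _) (Y.zpow_mem hciY _))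
  have hfD' : Nat.card E₀ = p * Nat.card D := by rw [hE₀c3, hDc, hTc]; ring
  refine ⟨hp3, hZT ▸ hTc, ⟨f, hfS, D, hfD, hDE₀.trans hE₀S, hder, fun β hβ => ?_⟩,
    fun a ha t ht => hTZ (hE₀T _ (hDE₀ (hder a ha t ht)) t ht)⟩
  have iT : Inv β T := hZT ▸ inv_Zs
  have iE₀' : Inv β E₀ := fun w hw => hE₀char _ (autMap_mem β (hE₀S hw)) fun k hk => by
    obtain ⟨k', hk', rfl⟩ := (inv_self β).exists_preimage le_rfl le_rfl hk
    rw [← autMap_comm β (hE₀S hw) hk']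
    exact iT _ (hE₀T w hw k' hk')
  have hβK : ∀ w ∈ K, autMap β w ∈ K := by
    intro w hw
    have hβc : autMap β c ∈ D := by
      rw [← hxsc, autMap_comm β hxS hs]
      exact hder _ (autMap_mem β hxS) _ (autMap_mem β hs)
    obtain ⟨j, hjp, t, ht, hje⟩ := exists_pow_mul le_sup_left (hDE₀.trans hE₀S)
      (fun k hk a ha => hTn k ((hDE₀.trans hE₀S) hk) a ha) hDc
      (Subgroup.mem_sup_right (Subgroup.mem_zpowers c)) (fun h => hcY (hTY h)) hβc
    have hj0 : ¬ p ∣ j := fun hd => by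
      rw [Nat.eq_zero_of_dvd_of_lt hd hjp, pow_zero, one_mul] at hje
      obtain ⟨w', hw', hwe⟩ := iT.exists_preimage le_rfl (hTE.trans hES) ht
      exact hcY (hTY (autMap_inj β hcS ((hTE.trans hES) hw') (hje.trans hwe.symm) ▸ hw'))
    have hwS := hKS hw
    have h1 := autMap_commute β hcS hwS (hKmem.1 hw).2
    rw [hje] at h1
    have h2 := h1.mul_left (hcen (T.inv_mem ht) (autMap_mem β hwS))
    rw [mul_inv_cancel_right] at h2
    exact hKmem.2 ⟨autMap_mem β hwS, hcroot hj0 (autMap_mem β hwS) h2⟩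
  obtain ⟨σ, hσp', e', he', hβs⟩ := exists_pow_mul hE₀K hKS
    (fun k hk a ha => hE₀n k (hKS hk) a ha) hKE₀ hsK hsE₀ (hβK s hsK)
  have hσ0 : ¬ p ∣ σ := fun hd => by
    rw [Nat.eq_zero_of_dvd_of_lt hd hσp', pow_zero, one_mul] at hβs
    obtain ⟨w', hw', hwe⟩ := iE₀'.exists_preimage le_rfl hE₀S he'
    exact hsE₀ (autMap_inj β hs (hE₀S hw') (hβs.trans hwe.symm) ▸ hw')
  obtain ⟨a, hap, k', hk', hβx⟩ := exists_pow_mul hKS le_rfl hKn
    (by rw [hcard, hKgen.2, ← pow_succ']) hxS hxK (autMap_mem β hxS)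
  obtain ⟨i, -, e, he, hk'e⟩ := exists_pow_mul hE₀K hKS
    (fun k hk a ha => hE₀n k (hKS hk) a ha) hKE₀ hsK hsE₀ hk'
  have ha0 : a ≠ 0 := fun h0 => by
    rw [h0, pow_zero, one_mul] at hβx
    have hle : E₀ ⊔ Subgroup.zpowers x ⊔ Subgroup.zpowers s ≤ pullAut β K := sup_le (sup_le
      (fun w hw => mem_pullAut.2 ⟨hE₀S hw, hE₀K (iE₀' w hw)⟩)
      (Subgroup.zpowers_le.2 (mem_pullAut.2 ⟨hxS, hβx ▸ hk'⟩)))
      (Subgroup.zpowers_le.2 (mem_pullAut.2 ⟨hs, hβK s hsK⟩))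
    obtain ⟨w, hw, rfl⟩ := (inv_self β).exists_preimage le_rfl le_rfl hxS
    exact hxK (mem_pullAut.1 (hx_s hw _ hle)).2
  obtain ⟨b, -, d, hd, hβf⟩ := exists_pow_mul hDE₀ hE₀S
    (fun k hk a ha => hDn k (hE₀S hk) a ha) hfD' hfE₀ hfD (iE₀' f hfE₀)
  obtain ⟨j, -, t, ht, hde⟩ := exists_pow_mul le_sup_left (hDE₀.trans hE₀S)
    (fun k hk a ha => hTn k ((hDE₀.trans hE₀S) hk) a ha) hDc
    (Subgroup.mem_sup_right (Subgroup.mem_zpowers c)) (fun h => hcY (hTY h)) hd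
  have h := hident β hβ a b i σ j e he e' he' t ht hσ0 (by rw [hβx, hk'e]) hβs (by rw [hβf, hde])
  subst hp3
  have hb : b % 3 = 1 := by
    have hae : a = 1 ∨ a = 2 := by omega
    have h' : ((b : ℕ) : ZMod 3) = ((1 : ℕ) : ZMod 3) := by
      rw [h, ← Nat.cast_pow]
      rcases hae with rfl | rfl <;> exact (ZMod.natCast_eq_natCast_iff _ _ _).2 (by decide)
    exact Eq.trans ((ZMod.natCast_eq_natCast_iff _ _ _).1 h') (by norm_num)
  rw [hβf, ← Nat.mod_add_div b 3, hb, pow_add, pow_one, pow_mul, mul_assoc, inv_mul_cancel_left]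
  exact D.mul_mem (D.pow_mem (Subgroup.mem_sup_left (pow_mem_of_step hTY (hYE.trans hES)
    (fun k hk a ha => hTn k (hES (hYE hk)) a ha) hTY' hfY)) _) hd

end Cfsg.Agent.Cores.FusFive
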