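import Cfsg.Agent.Cores.FusFive.Tools
import Cfsg.Agent.H59.YoshidaFusion

/-!
An element fixed by all automorphisms modulo the derived group keeps the focal subgroup of the top
proper; two properties of the Sylow `3`-subgroups of the symmetric group of degree `9`.
-/

set_option autoImplicit false
set_option linter.unusedSectionVars false
set_option linter.style.haveILetI false

namespace Cfsg.Agent.Cores.FusFive

open Cfsg Cfsg.FusionSystem Cfsg.Agent.FusionSys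
open scoped commutatorElement

universe u

variable {Ω : Type u} [Group Ω] {p : ℕ} [hp : Fact p.Prime] {S : Subgroup Ω} [Finite S]
  {F : FusionSystem S}

/-- `[S, Aut_F(S)]` is proper if some element outside `D ≥ S'` is fixed modulo `D`. -/
theorem topFocal_proper (hS : IsPGroup p S) (hF : F.IsSaturated p) {f : Ω} (hf : f ∈ S)
    {D : Subgroup Ω} (hfD : f ∉ D) (hDS : D ≤ S) (hder : ∀ a ∈ S, ∀ b ∈ S, ⁅a, b⁆ ∈ D)
    (hfix : ∀ β ∈ F.autGroup S, f⁻¹ * autMap β f ∈ D) : ¬ S ≤ H59.topFocal F := by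
  classical
  haveI := finite_autGroup F (le_refl S)
  set N : Subgroup S := D.subgroupOf S with hN
  have hNn : N.Normal := Subgroup.Normal.of_commutator_le _ (by
    rw [commutator_def]
    exact Subgroup.commutator_le.2 fun a _ b _ => hder a a.2 b b.2)
  haveI := hNn
  have hcq : ∀ a b : ↥S ⧸ N, a * b = b * a := by
    intro a b
    obtain ⟨a, rfl⟩ := QuotientGroup.mk'_surjective N a
    obtain ⟨b, rfl⟩ := QuotientGroup.mk'_surjective N b
    rw [← commutatorElement_eq_one_iff_mul_comm, ← map_commutatorElement]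
    exact (QuotientGroup.eq_one_iff _).2 (hder a a.2 b b.2)
  letI : CommGroup (↥S ⧸ N) := { (inferInstance : Group (↥S ⧸ N)) with mul_comm := hcq }
  set G := F.autGroup S
  set T : Subgroup G := (autInducedBy S S).subgroupOf G with hT
  have hidx : ¬ p ∣ T.index :=
    ((isFullyAutomized_iff hS).1 (isFullyAutomized_of_isFullyNormalized hS hF (isFullyNormalized_S F))).2
  letI : Fintype (G ⧸ T) := Fintype.ofFinite _
  set mk := QuotientGroup.mk' N
  have hinn : ∀ i ∈ T, ∀ w : S, mk (((i : G) : MulAut S) w) = mk w := by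
    intro i hi w
    obtain ⟨g, hg, hgn, he⟩ := mem_autInducedBy.1 (Subgroup.mem_subgroupOf.1 hi)
    rw [eq_comm, QuotientGroup.mk'_apply, QuotientGroup.mk'_apply, QuotientGroup.eq]
    show (w : Ω)⁻¹ * (((i : G) : MulAut S) w : Ω) ∈ D
    rw [he, show (w : Ω)⁻¹ * (conjAut hgn w : Ω) = ⁅(w : Ω)⁻¹, g⁆ by
      rw [coe_conjAut, commutatorElement_def]; group]
    exact hder _ (S.inv_mem w.2) _ hg
  let θ : ↥S →* ↥S ⧸ N := ∏ q : G ⧸ T, mk.comp ((q.out : MulAut S)⁻¹).toMonoidHom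
  have hθ : ∀ w, θ w = ∏ q : G ⧸ T, mk (((q.out : MulAut S)⁻¹) w) := fun w =>
    MonoidHom.finsetProd_apply _ _ _
  have hinv : ∀ γ : G, ∀ w : S, θ ((γ : MulAut S) w) = θ w := by
    intro γ w
    rw [hθ, hθ]
    refine Fintype.prod_equiv (MulAction.toPerm (γ⁻¹ : G)) _ _ fun q => ?_
    have hmem : ((γ⁻¹ • q).out : G)⁻¹ * (γ⁻¹ * q.out) ∈ T := by
      rw [← QuotientGroup.eq, QuotientGroup.out_eq']
      conv_lhs => rw [← q.out_eq']
      rfl
    set i := ((γ⁻¹ • q).out : G)⁻¹ * (γ⁻¹ * q.out) with hi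
    have h1 : ((q.out : MulAut S)⁻¹) ((γ : MulAut S) w) =
        ((i⁻¹ : G) : MulAut S) ((((γ⁻¹ • q).out : G) : MulAut S)⁻¹ w) := by
      rw [← MulAut.mul_apply, ← MulAut.mul_apply]
      refine congrArg (fun a : MulAut S => a w) ?_
      rw [hi]
      push_cast
      group
    rw [h1, hinn _ (T.inv_mem hmem)]
    rfl
  intro hle
  have hfθ : θ ⟨f, hf⟩ = mk ⟨f, hf⟩ ^ T.index := by
    rw [hθ, Finset.prod_congr rfl fun q _ => ?_, Finset.prod_const, Finset.card_univ,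
      Subgroup.index_eq_card, Nat.card_eq_fintype_card]
    rw [eq_comm, QuotientGroup.mk'_apply, QuotientGroup.mk'_apply, QuotientGroup.eq]
    show f⁻¹ * ((((q.out : G) : MulAut S)⁻¹ ⟨f, hf⟩ : S) : Ω) ∈ D
    have := hfix _ (G.inv_mem (q.out : G).2)
    rwa [autMap_apply _ hf] at this
  have hker : H59.topFocal F ≤ θ.ker.map S.subtype := by
    refine (Subgroup.closure_le _).2 ?_
    rintro _ ⟨φ, hφ, w, rfl⟩
    let a : G := ⟨_, H90.toAut_mem F hφ (F.le_of_mem hφ).2⟩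
    refine ⟨w⁻¹ * ((a : MulAut S) w), ?_, ?_⟩
    · show θ _ = 1
      rw [map_mul, map_inv, hinv, inv_mul_cancel]
    · show (w : Ω)⁻¹ * (((a : MulAut S) w : S) : Ω) = _
      rw [H90.toAut_coe]
  obtain ⟨w, hw, hwf⟩ := hker (hle hf)
  rw [show w = ⟨f, hf⟩ from Subtype.ext hwf] at hw
  have h1 : mk ⟨f, hf⟩ ^ T.index = 1 := hfθ ▸ hw
  obtain ⟨n, hn⟩ := hS ⟨f, hf⟩
  have hcop : Nat.Coprime (p ^ n) T.index := (hp.out.coprime_iff_not_dvd.2 hidx).pow_left n
  have ho : orderOf (mk ⟨f, hf⟩) = 1 := Nat.eq_one_of_dvd_coprimes hcop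
    (orderOf_dvd_of_pow_eq_one (by rw [← map_pow, hn, map_one])) (orderOf_dvd_of_pow_eq_one h1)
  exact hfD ((QuotientGroup.eq_one_iff _).1 (orderOf_eq_one_iff.1 ho) : _ ∈ N)

/-- Explicit elements of the symmetric group of degree `9`. -/
theorem perm_facts : ∃ a b c t : Equiv.Perm (Fin (3 ^ 2)), a * b = b * a ∧ a * c = c * a ∧
    b * c = c * b ∧ a ^ 3 = 1 ∧ b ^ 3 = 1 ∧ c ^ 3 = 1 ∧ t ^ 3 = 1 ∧ t * a * t⁻¹ = b ∧
    t * b * t⁻¹ = c ∧ t * c * t⁻¹ = a ∧ a * a * b * b ≠ c ∧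
    ∀ i j k : Fin 3, (((a ^ (i : ℕ) * b ^ (j : ℕ) * c ^ (k : ℕ)) 0 : Fin (3 ^ 2)) : ℕ) = i ∧
      (((a ^ (i : ℕ) * b ^ (j : ℕ) * c ^ (k : ℕ)) 3 : Fin (3 ^ 2)) : ℕ) = 3 + j ∧
      (((a ^ (i : ℕ) * b ^ (j : ℕ) * c ^ (k : ℕ)) 6 : Fin (3 ^ 2)) : ℕ) = 6 + k := by
  let a : Equiv.Perm (Fin (3 ^ 2)) := Equiv.swap 0 1 * Equiv.swap 1 2
  let b : Equiv.Perm (Fin (3 ^ 2)) := Equiv.swap 3 4 * Equiv.swap 4 5
  let c : Equiv.Perm (Fin (3 ^ 2)) := Equiv.swap 6 7 * Equiv.swap 7 8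
  let t : Equiv.Perm (Fin (3 ^ 2)) := Equiv.swap 0 3 * Equiv.swap 3 6 * (Equiv.swap 1 4 * Equiv.swap 4 7)
    * (Equiv.swap 2 5 * Equiv.swap 5 8)
  refine ⟨a, b, c, t, ?_, ?_, ?_, ?_, ?_, ?_, ?_, ?_, ?_, ?_, ?_, ?_⟩
  all_goals decide

/-- Two properties of a Sylow `3`-subgroup of the symmetric group of degree `9`. -/
theorem sylow_nine (P : Sylow 3 (Equiv.Perm (Fin (3 ^ 2)))) :
    (∃ a t : ↥(P : Subgroup (Equiv.Perm (Fin (3 ^ 2)))), ⁅⁅a, t⁆, t⁆ ≠ 1) ∧
      ∃ B : Subgroup ↥(P : Subgroup (Equiv.Perm (Fin (3 ^ 2)))), Nat.card B = 3 ^ 3 ∧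
        (∀ a ∈ B, ∀ b ∈ B, ⁅a, b⁆ = 1) ∧ ∀ b ∈ B, b ^ 3 = 1 := by
  haveI : Fact (Nat.Prime 3) := ⟨Nat.prime_three⟩
  obtain ⟨a, b, c, t, hab, hac, hbc, ha3, hb3, hc3, ht3, hta, htb, htc, hne, hdec⟩ := perm_facts
  have hclass : ⁅⁅a, t⁆, t⁆ ≠ 1 := by
    intro h
    have e1 : ⁅a, t⁆ = a * b⁻¹ := by rw [← hta, commutatorElement_def]; group
    have e2 : ⁅⁅a, t⁆, t⁆ = a * b⁻¹ * (t * b * t⁻¹) * (t * a * t⁻¹)⁻¹ := by
      rw [e1, commutatorElement_def]; group
    rw [h, htb, hta, eq_comm] at e2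
    refine hne ?_
    have e3 : c = b * a⁻¹ * b := by
      calc c = b * a⁻¹ * (a * b⁻¹ * c * b⁻¹) * b := by group
        _ = b * a⁻¹ * b := by rw [e2, mul_one]
    have ha' : a⁻¹ = a * a := inv_eq_of_mul_eq_one_right (by rw [← ha3]; simp [pow_succ, mul_assoc])
    rw [e3, ha', ((show Commute a b from hab).symm.mul_right (show Commute a b from hab).symm).eq]
  let gens : Set (Equiv.Perm (Fin (3 ^ 2))) := {a, b, c}
  let A := Subgroup.closure gens
  have haA : a ∈ A := Subgroup.subset_closure (Or.inl rfl)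
  have hbA : b ∈ A := Subgroup.subset_closure (Or.inr (Or.inl rfl))
  have hcA : c ∈ A := Subgroup.subset_closure (Or.inr (Or.inr rfl))
  have hcomm : ∀ x ∈ A, ∀ y ∈ A, Commute x y := by
    have h1 : A ≤ Subgroup.centralizer gens := (Subgroup.closure_le _).2 (by
      intro x hx y hy
      rcases hx with rfl | rfl | rfl <;> rcases hy with rfl | rfl | rfl <;>
        first | rfl | assumption | exact hab.symm | exact hac.symm | exact hbc.symm)
    intro x hx y hy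
    have h2 : A ≤ Subgroup.centralizer {x} := (Subgroup.closure_le _).2 fun g hg =>
      Subgroup.mem_centralizer_singleton_iff.2 (h1 hx g hg)
    exact (Subgroup.mem_centralizer_singleton_iff.1 (h2 hy)).symm
  have hexp : ∀ x ∈ A, x ^ 3 = 1 := fun x hx => by
    induction hx using Subgroup.closure_induction with
    | mem x hx => rcases hx with rfl | rfl | rfl <;> assumption
    | one => exact one_pow 3
    | mul x y hx hy ihx ihy => rw [(hcomm x hx y hy).mul_pow, ihx, ihy, one_mul]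
    | inv x _ ih => rw [inv_pow, ih, inv_one]
  have hAp : IsPGroup 3 A := fun x => ⟨1, Subtype.ext (hexp x x.2)⟩
  have htp : IsPGroup 3 (Subgroup.zpowers t) := by
    rintro ⟨_, i, rfl⟩
    refine ⟨1, Subtype.ext ?_⟩
    show (t ^ i) ^ (3 ^ 1) = 1
    rw [← zpow_natCast, ← zpow_mul, mul_comm, zpow_mul, zpow_natCast, pow_one, ht3, one_zpow]
  have htn : Subgroup.zpowers t ≤ Subgroup.normalizer (A : Set (Equiv.Perm (Fin (3 ^ 2)))) := by
    refine Subgroup.zpowers_le.2 (mem_normalizer_of_maps fun y hy => ?_)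
    have hle : A ≤ A.comap (MulAut.conj t).toMonoidHom := (Subgroup.closure_le _).2 (by
      intro x hx
      show t * x * t⁻¹ ∈ A
      rcases hx with e | e | e
      · rw [e, hta]; exact hbA
      · rw [e, htb]; exact hcA
      · rw [Set.mem_singleton_iff.1 e, htc]; exact haA)
    exact hle hy
  obtain ⟨Q, hQ⟩ := (htp.to_sup_of_normal_right' hAp htn).exists_le_sylow
  obtain ⟨g, hg⟩ := MulAction.exists_smul_eq (Equiv.Perm (Fin (3 ^ 2))) Q P
  set e := MulAut.conj g with he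
  have heP : ∀ x ∈ Subgroup.zpowers t ⊔ A, e x ∈ (P : Subgroup (Equiv.Perm (Fin (3 ^ 2)))) := by
    intro x hx
    rw [← hg]
    exact Subgroup.mem_map_of_mem e.toMonoidHom (hQ hx)
  refine ⟨⟨⟨e a, heP a (Subgroup.mem_sup_right haA)⟩,
    ⟨e t, heP t (Subgroup.mem_sup_left (Subgroup.mem_zpowers t))⟩, fun h => hclass ?_⟩, ?_⟩
  · refine e.injective ?_
    rw [map_one, map_commutatorElement, map_commutatorElement]
    exact congrArg Subtype.val h
  refine ⟨(A.map e.toMonoidHom).subgroupOf _, ?_, ?_, ?_⟩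
  · have hle : A.map e.toMonoidHom ≤ (P : Subgroup (Equiv.Perm (Fin (3 ^ 2)))) := by
      rintro _ ⟨x, hx, rfl⟩
      exact heP x (Subgroup.mem_sup_right hx)
    rw [Nat.card_congr (Subgroup.subgroupOfEquivOfLe hle).toEquiv,
      Subgroup.card_map_of_injective e.injective]
    refine le_antisymm ?_ ?_
    · obtain ⟨n, hn⟩ := IsPGroup.iff_card.1 hAp
      have hlt : A < Subgroup.zpowers t ⊔ A := by
        refine lt_of_le_of_ne le_sup_right fun h => hclass ?_
        have htA : t ∈ A := h.ge (Subgroup.mem_sup_left (Subgroup.mem_zpowers t))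
        rw [commutatorElement_eq_one_iff_commute.2 (hcomm a haA t htA), commutatorElement_one_left]
      have h81 : Nat.card ↥(Subgroup.zpowers t ⊔ A) ≤ 3 ^ 4 := by
        refine (Subgroup.card_le_of_le hQ).trans (le_of_eq ?_)
        exact H59.card_sylow_perm_sq Q
      have hlt' : Nat.card A < Nat.card ↥(Subgroup.zpowers t ⊔ A) := by
        by_contra hge
        exact hlt.ne (Subgroup.eq_of_le_of_card_ge hlt.le (not_lt.1 hge))
      rw [hn] at hlt' ⊢
      exact Nat.pow_le_pow_right (by norm_num) (Nat.lt_succ_iff.1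
        ((Nat.pow_lt_pow_iff_right (by norm_num : 1 < 3)).1 (hlt'.trans_le h81)))
    · let dec : A → Fin (3 ^ 2) × Fin (3 ^ 2) × Fin (3 ^ 2) := fun x =>
        ((x : Equiv.Perm (Fin (3 ^ 2))) 0, (x : Equiv.Perm (Fin (3 ^ 2))) 3,
          (x : Equiv.Perm (Fin (3 ^ 2))) 6)
      let enc : Fin 3 × Fin 3 × Fin 3 → A := fun i =>
        ⟨a ^ (i.1 : ℕ) * b ^ (i.2.1 : ℕ) * c ^ (i.2.2 : ℕ),
          A.mul_mem (A.mul_mem (A.pow_mem haA _) (A.pow_mem hbA _)) (A.pow_mem hcA _)⟩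
      have hde : ∀ i, (((dec (enc i)).1 : ℕ), ((dec (enc i)).2.1 : ℕ), ((dec (enc i)).2.2 : ℕ)) =
          ((i.1 : ℕ), 3 + (i.2.1 : ℕ), 6 + (i.2.2 : ℕ)) := fun i => by
        obtain ⟨h1, h2, h3⟩ := hdec i.1 i.2.1 i.2.2
        exact Prod.ext h1 (Prod.ext h2 h3)
      have hinj : Function.Injective enc := fun i j h => by
        have h' := (hde i).symm.trans ((congrArg
          (fun x => (((dec x).1 : ℕ), ((dec x).2.1 : ℕ), ((dec x).2.2 : ℕ))) h).trans (hde j))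
        simp only [Prod.mk.injEq, Nat.add_left_cancel_iff] at h'
        exact Prod.ext (Fin.ext h'.1) (Prod.ext (Fin.ext h'.2.1) (Fin.ext h'.2.2))
      have := Nat.card_le_card_of_injective enc hinj
      simpa using this
  · rintro x ⟨x', hx', hxe⟩ y ⟨y', hy', hye⟩
    rw [commutatorElement_eq_one_iff_commute]
    refine Subtype.ext ?_
    show (x : Equiv.Perm (Fin (3 ^ 2))) * y = y * x
    rw [show (x : Equiv.Perm (Fin (3 ^ 2))) = e x' from hxe.symm,
      show (y : Equiv.Perm (Fin (3 ^ 2))) = e y' from hye.symm, ← map_mul, ← map_mul,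
      (hcomm x' hx' y' hy').eq]
  · rintro x ⟨x', hx', hxe⟩
    refine Subtype.ext ?_
    rw [SubmonoidClass.coe_pow, show (x : Equiv.Perm (Fin (3 ^ 2))) = e x' from hxe.symm, ← map_pow,
      hexp x' hx', map_one]
    rfl

end Cfsg.Agent.Cores.FusFive
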