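import Cfsg.Agent.Cores.FusFive.Config
import Cfsg.Agent.S5238

/-!
An elementary abelian essential subgroup of order `p ^ 2` in a group of order `p ^ 5`.
-/

set_option autoImplicit false
set_option linter.unusedSectionVars false
set_option linter.style.haveILetI false

namespace Cfsg.Agent.Cores.FusFive

open Cfsg Cfsg.FusionSystem Cfsg.Agent.FusionSys
open scoped commutatorElement

universe u

variable {Ω : Type u} [Group Ω] {p : ℕ} [hp : Fact p.Prime] {S : Subgroup Ω} [Finite S]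
  {F : FusionSystem S}

/-- The lower central series of a group of maximal class of order `p ^ 5`. -/
theorem lcs_cards (hS : IsPGroup p S) (hcard : Nat.card S = p ^ 5)
    (h3 : Subgroup.lowerCentralSeries S 3 ≠ ⊥) :
    ∃ L₁ L₂ L₃ : Subgroup Ω, ⁅S, S⁆ = L₁ ∧ ⁅L₁, S⁆ = L₂ ∧ ⁅L₂, S⁆ = L₃ ∧
      L₃ ≤ L₂ ∧ L₂ ≤ L₁ ∧ L₁ ≤ S ∧ Nml S L₁ ∧ Nml S L₂ ∧ Nml S L₃ ∧
      Nat.card L₁ = p ^ 3 ∧ Nat.card L₂ = p ^ 2 ∧ Nat.card L₃ = p ∧ L₃ ≤ Zs S ∧
      ∀ N, N ≤ S → Nml S N → p ^ 3 ≤ Nat.card N → L₁ ≤ N := by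
  set L := Subgroup.lowerCentralSeries S with hL
  have hLn : ∀ i, Nml S (L i) := by
    intro i
    induction i with
    | zero => exact nml_self
    | succ i ih => exact ih.commutator nml_self
  have hLS : ∀ i, L i ≤ S := fun i => Subgroup.lowerCentralSeries_le_self S i
  have hmono : ∀ i, L (i + 1) ≤ L i := fun i =>
    Subgroup.lowerCentralSeries_antitone S (Nat.le_succ i)
  obtain ⟨N₀, hN₀⟩ : ∃ n, L n = ⊥ := by
    haveI : Group.IsNilpotent S := hS.isNilpotent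
    exact (Subgroup.isNilpotent_iff_lowerCentralSeries S).1 inferInstance
  have hlt : ∀ i, L i ≠ ⊥ → L (i + 1) < L i := fun i hi => lt_of_le_of_ne (hmono i) fun e => hi (by
    have : ∀ j, L (i + j) = L i := by
      intro j
      induction j with
      | zero => rfl
      | succ j ih =>
        show ⁅L (i + j), S⁆ = L i
        rw [ih]; exact e
    rw [← this N₀, eq_bot_iff, ← hN₀]
    exact Subgroup.lowerCentralSeries_antitone S (Nat.le_add_left N₀ i))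
  have hne : ∀ i ≤ 3, L i ≠ ⊥ := fun i hi h =>
    h3 (le_bot_iff.1 (h ▸ Subgroup.lowerCentralSeries_antitone S hi))
  have hder : ∀ N, N ≤ S → Nml S N → p ^ 3 ≤ Nat.card N → L 1 ≤ N := by
    intro N hN hNn hNc
    haveI : (N.subgroupOf S).Normal := ⟨fun a ha g => hNn g g.2 a ha⟩
    obtain ⟨i, hi⟩ := exists_card_eq hS hN
    rw [hi] at hNc
    have hi3 := (Nat.pow_le_pow_iff_right hp.out.one_lt).1 hNc
    have hd : (N.subgroupOf S).index ∣ p ^ 2 := by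
      obtain ⟨j, hj⟩ := hS.index (N.subgroupOf S)
      have h := Subgroup.card_mul_index (N.subgroupOf S)
      rw [Nat.card_congr (Subgroup.subgroupOfEquivOfLe hN).toEquiv, hi, hj, hcard, ← pow_add] at h
      have := Nat.pow_right_injective hp.out.two_le h
      exact hj ▸ pow_dvd_pow p (by omega)
    have hc := PGroups.commutator_le_of_index_dvd_sq (p := p) _ hd
    exact Subgroup.commutator_le.2 fun a ha b hb => hc
      (Subgroup.commutator_mem_commutator (Subgroup.mem_top (⟨a, ha⟩ : S))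
        (Subgroup.mem_top (⟨b, hb⟩ : S)))
  have h1le : Nat.card (L 1) ≤ p ^ 3 := by
    obtain ⟨N, hNn, -, hNc⟩ := PGroups.exists_normal_card_le hS ⊤ 3 (by
      rw [Subgroup.card_top, hcard]; exact Nat.pow_le_pow_right hp.out.pos (by omega))
    have hmap : Nat.card (N.map S.subtype) = p ^ 3 := by
      rw [Subgroup.card_map_of_injective S.subtype_injective, hNc]
    have hle := hder (N.map S.subtype) (Subgroup.map_subtype_le N) (fun g hg x hx => by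
      obtain ⟨y, hy, rfl⟩ := hx
      exact ⟨⟨g, hg⟩ * y * ⟨g, hg⟩⁻¹, hNn.conj_mem y hy ⟨g, hg⟩, rfl⟩) hmap.ge
    haveI := finite_of_le (Subgroup.map_subtype_le N : N.map S.subtype ≤ S)
    exact (Subgroup.card_le_of_le hle).trans hmap.le
  have s1 := mul_card_le hS (hLS 1) (hlt 1 (hne 1 (by omega)))
  have s2 := mul_card_le hS (hLS 2) (hlt 2 (hne 2 (by omega)))
  have s3 : p ≤ Nat.card (L 3) := by
    have := mul_card_le hS (hLS 3) (bot_lt_iff_ne_bot.2 (hne 3 le_rfl))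
    rwa [Subgroup.card_bot, mul_one] at this
  have h2le : Nat.card (L 2) ≤ p ^ 2 :=
    Nat.le_of_mul_le_mul_left ((s1.trans h1le).trans (le_of_eq (pow_succ' p 2))) hp.out.pos
  have h3le : Nat.card (L 3) ≤ p :=
    Nat.le_of_mul_le_mul_left ((s2.trans h2le).trans (le_of_eq (pow_two p))) hp.out.pos
  have h3c : Nat.card (L 3) = p := le_antisymm h3le s3
  have h2c : Nat.card (L 2) = p ^ 2 := le_antisymm h2le (by
    rw [pow_two]; nth_rewrite 2 [← h3c]; exact s2)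
  have h1c : Nat.card (L 1) = p ^ 3 := le_antisymm h1le (by
    rw [pow_succ', ← h2c]; exact s1)
  exact ⟨L 1, L 2, L 3, rfl, rfl, rfl, hmono 2, hmono 1, hLS 1, hLn 1, hLn 2, hLn 3, h1c, h2c, h3c,
    le_Zs_of_card hS (hLn 3) (hLS 3) h3c, hder⟩

/-- What the pearl yields. -/
theorem pearl_data (hS : IsPGroup p S) (hF : F.IsSaturated p) (hp2 : p ≠ 2) (hp7 : p ≠ 7)
    (hcard : Nat.card S = p ^ 5) (hno : NoAb p S) (hZ : Nat.card (Zs S) = p) {E : Subgroup Ω}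
    (hE : F.IsEssential p E) (hab : ∀ x ∈ E, ∀ y ∈ E, Commute x y) (hexp : ∀ x ∈ E, x ^ p = 1)
    (hEc : Nat.card E = p ^ 2) :
    p = 3 ∧ (∃ f ∈ S, ∃ D : Subgroup Ω, f ∉ D ∧ D ≤ S ∧ (∀ a ∈ S, ∀ b ∈ S, ⁅a, b⁆ ∈ D) ∧
        ∀ β ∈ F.autGroup S, f⁻¹ * autMap β f ∈ D) ∧
      ¬ ∃ B, B ≤ S ∧ Nat.card B = p ^ 4 ∧ (∀ a ∈ B, ∀ b ∈ B, ⁅a, b⁆ ∈ Zs S) ∧
        ∀ b ∈ B, b ^ p ∈ Zs S := by
  have hp1 := hp.out.one_lt
  have hES := hE.1.1
  have hEc' := centralizerIn_le_of_isCentric hE.1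
  haveI := finite_of_le hES
  have hmax := (Cfsg.Agent.S5238.result p hS F hF hp2 E hE (Or.inl ⟨hEc, fun x hx =>
    ⟨hexp x hx, ⟨⟨fun a b => Subtype.ext (hab a a.2 b b.2)⟩⟩⟩⟩)).1 5 hcard (by omega)
  obtain ⟨L₁, L₂, L₃, eL₁, eL₂, eL₃, h32, h21, hL₁S, hL₁n, hL₂n, -, hL₁c, hL₂c, hL₃c, hL₃Z, hder⟩ :=
    lcs_cards hS hcard hmax
  have hZL₃ : L₃ = Zs S := eq_of_card Zs_le hL₃Z (by rw [hZ, hL₃c])
  rw [hZL₃] at h32 eL₃
  clear hL₃Z hL₃c hZL₃
  have hL₂S := h21.trans hL₁S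
  have hcen : ∀ {a}, a ∈ Zs S → ∀ {k}, k ∈ S → Commute a k := fun ha _ hk => comm_Zs ha hk
  have hS1 : ∀ {a b}, a ∈ S → b ∈ S → ⁅a, b⁆ ∈ L₁ := fun ha hb =>
    eL₁ ▸ Subgroup.commutator_mem_commutator ha hb
  have h12 : ∀ {a b}, a ∈ L₁ → b ∈ S → ⁅a, b⁆ ∈ L₂ ∧ ⁅b, a⁆ ∈ L₂ := fun {a b} ha hb => by
    have h := eL₂ ▸ Subgroup.commutator_mem_commutator ha hb
    exact ⟨h, commutatorElement_inv a b ▸ L₂.inv_mem h⟩
  have h2Z : ∀ {a b}, a ∈ L₂ → b ∈ S → ⁅a, b⁆ ∈ Zs S ∧ ⁅b, a⁆ ∈ Zs S := fun {a b} ha hb => by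
    have h := eL₃ ▸ Subgroup.commutator_mem_commutator ha hb
    exact ⟨h, commutatorElement_inv a b ▸ (Zs S).inv_mem h⟩
  have hL₂c' : Nat.card L₂ = p * Nat.card (Zs S) := by rw [hL₂c, hZ, pow_two]
  have hL₁c' : Nat.card L₁ = p * Nat.card L₂ := by rw [hL₁c, hL₂c, ← pow_succ']
  have hEcZ : Nat.card E = p * Nat.card (Zs S) := by rw [hEc, hZ, pow_two]
  have hZE : Zs S ≤ E := fun z hz => hEc' (mem_centralizerIn.2
    ⟨Zs_le hz, fun y hy => (mem_Zs.1 hz).2 y (hES hy)⟩)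
  obtain ⟨v, hvE, hvZ⟩ : ∃ v ∈ E, v ∉ Zs S := by
    by_contra h
    push Not at h
    have e : E = Zs S := le_antisymm h hZE
    rw [e, hZ] at hEc
    nlinarith
  have hvS := hES hvE
  have hvp : v ^ p = 1 := hexp v hvE
  have hEgen : Zs S ⊔ Subgroup.zpowers v = E := eq_sup_zpowers hS hES hZE hEcZ hvE hvZ
  have hCE : ∀ w ∈ S, Commute w v → w ∈ E := fun w hw h => hEc' (mem_centralizerIn.2 ⟨hw, fun y hy => by
    have hle : Zs S ⊔ Subgroup.zpowers v ≤ Subgroup.centralizer {w} := sup_le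
      (fun a ha => Subgroup.mem_centralizer_singleton_iff.2 (hcen ha hw).eq)
      (Subgroup.zpowers_le.2 (Subgroup.mem_centralizer_singleton_iff.2 h.symm.eq))
    exact Subgroup.mem_centralizer_singleton_iff.1 (hle (hEgen.ge hy))⟩)
  -- `Γ = C_S(L₂)`
  set Γ := centralizerIn S L₂ with hΓdef
  have hΓS : Γ ≤ S := centralizerIn_le
  have hΓn : Nml S Γ := nml_self.centralizer hL₂n
  have hΓmem : ∀ {w}, w ∈ Γ → ∀ {l}, l ∈ L₂ → Commute w l := fun hw _ hl =>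
    (((mem_centralizerIn.1 hw).2 _ hl) : _).symm
  obtain ⟨d₀, hd₀, hd₀Z⟩ : ∃ d ∈ L₂, d ∉ Zs S := by
    by_contra h
    push Not at h
    haveI := finite_of_le (Zs_le (S := S))
    have := Subgroup.card_le_of_le (show L₂ ≤ Zs S from h)
    rw [hL₂c, hZ] at this
    nlinarith
  have hΓge : p ^ 4 ≤ Nat.card Γ := by
    have h := card_le_mul_centralizer (K := S) (Z := Zs S) (w := d₀) le_rfl Zs_le
      (fun k hk => (h2Z hd₀ hk).2) (fun a ha k hk => (hcen ha hk).symm)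
      fun a ha b hb => hcen ha (Zs_le hb)
    have hle : S ⊓ Subgroup.centralizer {d₀} ≤ Γ := fun k hk => by
      refine mem_centralizerIn.2 ⟨hk.1, fun l hl => ?_⟩
      have hle : Zs S ⊔ Subgroup.zpowers d₀ ≤ Subgroup.centralizer {k} := sup_le
        (fun a ha => Subgroup.mem_centralizer_singleton_iff.2 (hcen ha hk.1).eq)
        (Subgroup.zpowers_le.2 (Subgroup.mem_centralizer_singleton_iff.2
          (Subgroup.mem_centralizer_singleton_iff.1 hk.2).symm))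
      exact Subgroup.mem_centralizer_singleton_iff.1
        (hle ((eq_sup_zpowers hS hL₂S h32 hL₂c' hd₀ hd₀Z).ge hl))
    haveI := finite_of_le hΓS
    have h' := h.trans (Nat.mul_le_mul_left _ (Subgroup.card_le_of_le hle))
    rw [hcard, hZ, show p ^ 5 = p * p ^ 4 by ring] at h'
    exact Nat.le_of_mul_le_mul_left h' hp.out.pos
  have hvΓ : v ∉ Γ := fun h => by
    have hle : L₂ ≤ E := fun l hl => hCE l (hL₂S hl) (hΓmem h hl).symm
    have e : L₂ = E := eq_of_card hES hle (by rw [hEc, hL₂c])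
    have hle' : Γ ≤ E := fun k hk => hEc' (mem_centralizerIn.2
      ⟨hΓS hk, fun y hy => (hΓmem hk (e.ge hy)).symm.eq⟩)
    have h' := hΓge.trans (Subgroup.card_le_of_le hle')
    rw [hEc] at h'
    have := (Nat.pow_le_pow_iff_right hp1).1 h'
    omega
  have hΓc : Nat.card Γ = p ^ 4 := by
    have h := mul_card_le hS le_rfl (lt_of_le_of_ne hΓS fun e => hvΓ (e.ge hvS))
    rw [hcard, show p ^ 5 = p * p ^ 4 by ring] at h
    exact le_antisymm (Nat.le_of_mul_le_mul_left h hp.out.pos) hΓge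
  have hL₁Γ : L₁ ≤ Γ := hder Γ hΓS hΓn (by rw [hΓc]; exact Nat.pow_le_pow_right hp.out.pos (by omega))
  have hSΓ : Nat.card S = p * Nat.card Γ := by rw [hcard, hΓc, ← pow_succ']
  have hΓc' : Nat.card Γ = p * Nat.card L₁ := by rw [hΓc, hL₁c, ← pow_succ']
  have hL₁ab : ∀ a ∈ L₁, ∀ b ∈ L₁, Commute a b := comm_of_central_step hS hL₁S h21 hL₁c'
    fun a ha b hb => (hΓmem (hL₁Γ hb) ha).symm
  obtain ⟨u, huΓ, huL₁⟩ : ∃ u ∈ Γ, u ∉ L₁ := by
    by_contra h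
    push Not at h
    haveI := finite_of_le hL₁S
    have := Subgroup.card_le_of_le (show Γ ≤ L₁ from h)
    rw [hΓc, hL₁c] at this
    have := (Nat.pow_le_pow_iff_right hp1).1 this
    omega
  have huS := hΓS huΓ
  have hΓgen : L₁ ⊔ Subgroup.zpowers u = Γ := eq_sup_zpowers hS hΓS hL₁Γ hΓc' huΓ huL₁
  have hSgen : Γ ⊔ Subgroup.zpowers v = S := eq_sup_zpowers hS le_rfl hΓS hSΓ hvS hvΓ
  have hgen3 : ∀ N : Subgroup Ω, L₁ ≤ N → u ∈ N → v ∈ N → S ≤ N := fun N h1 h2 h3 =>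
    hSgen ▸ sup_le (hΓgen ▸ sup_le h1 (Subgroup.zpowers_le.2 h2)) (Subgroup.zpowers_le.2 h3)
  -- `c`, `d`, `z`
  obtain ⟨c, hc⟩ : ∃ c, ⁅v, u⁆ = c := ⟨_, rfl⟩
  have hcL₁ : c ∈ L₁ := hc ▸ hS1 hvS huS
  have hcS := hL₁S hcL₁
  have hcL₂ : c ∉ L₂ := fun h => by
    have key : ∀ w ∈ S, ⁅w, u⁆ ∈ L₂ → ⁅w, v⁆ ∈ L₂ → ∀ b ∈ S, ⁅w, b⁆ ∈ L₂ := fun w hw h1 h2 b hb =>
      (hgen3 (commMod S hL₂n w) (fun l hl => ⟨hL₁S hl, (h12 hl hw).2⟩) ⟨huS, h1⟩ ⟨hvS, h2⟩ hb).2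
    have ku := key u huS (by simp) (by rw [← commutatorElement_inv, hc]; exact L₂.inv_mem h)
    have kv := key v hvS (hc ▸ h) (by simp)
    have hle : L₁ ≤ L₂ := eL₁ ▸ Subgroup.commutator_le.2 fun a ha b hb => key a ha
      (commutatorElement_inv u a ▸ L₂.inv_mem (ku a ha))
      (commutatorElement_inv v a ▸ L₂.inv_mem (kv a ha)) b hb
    haveI := finite_of_le hL₂S
    have h' := Subgroup.card_le_of_le hle
    rw [hL₁c, hL₂c] at h'
    have := (Nat.pow_le_pow_iff_right hp1).1 h'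
    omega
  have hL₁gen : L₂ ⊔ Subgroup.zpowers c = L₁ := eq_sup_zpowers hS hL₁S h21 hL₁c' hcL₁ hcL₂
  obtain ⟨d, hd⟩ : ∃ d, ⁅v, c⁆ = d := ⟨_, rfl⟩
  have hdL₂ : d ∈ L₂ := hd ▸ (h12 hcL₁ hvS).2
  have hdS := hL₂S hdL₂
  obtain ⟨z₁, hz₁⟩ : ∃ z, ⁅u, c⁆ = z := ⟨_, rfl⟩
  have hz₁L₂ : z₁ ∈ L₂ := hz₁ ▸ (h12 hcL₁ huS).2
  have hcdc : Commute d c := hL₁ab d (h21 hdL₂) c hcL₁
  have hvu : v * u * v⁻¹ = c * u := by rw [← hc, commutatorElement_def]; group
  have hvc : v * c * v⁻¹ = d * c := by rw [← hd, commutatorElement_def]; group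
  have hz₁Z : z₁ ∈ Zs S := by
    have hz₁v : v * z₁ * v⁻¹ = z₁ := by
      have e : v * z₁ * v⁻¹ = ⁅c * u, d * c⁆ := by
        rw [← hvu, ← hvc, ← hz₁]; simp only [commutatorElement_def]; group
      rw [e, show ⁅c * u, d * c⁆ = ⁅c * u, d⁆ * (d * ⁅c * u, c⁆ * d⁻¹) by
        simp only [commutatorElement_def]; group,
        commutatorElement_eq_one_iff_commute.2 ((hcdc.symm).mul_left (hΓmem huΓ hdL₂)), one_mul,
        show ⁅c * u, c⁆ = c * ⁅u, c⁆ * c⁻¹ by simp only [commutatorElement_def]; group, hz₁,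
        (hL₁ab c hcL₁ z₁ (h21 hz₁L₂)).eq, mul_inv_cancel_right,
        (hL₁ab d (h21 hdL₂) z₁ (h21 hz₁L₂)).eq, mul_inv_cancel_right]
    refine mem_Zs.2 ⟨hL₂S hz₁L₂, fun k hk => ?_⟩
    have hle : Γ ⊔ Subgroup.zpowers v ≤ Subgroup.centralizer {z₁} := sup_le
      (fun g hg => Subgroup.mem_centralizer_singleton_iff.2 (hΓmem hg hz₁L₂).eq)
      (Subgroup.zpowers_le.2 (Subgroup.mem_centralizer_singleton_iff.2
        (mul_inv_eq_iff_eq_mul.1 hz₁v)))
    exact Subgroup.mem_centralizer_singleton_iff.1 (hle (hSgen.ge hk))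
  have hdZ : d ∉ Zs S := fun h => by
    have hc' : ∀ k ∈ S, ⁅c, k⁆ ∈ Zs S := fun k hk =>
      (hgen3 (commMod S Zs_nml c) (fun l hl => ⟨hL₁S hl, by
          rw [commutatorElement_eq_one_iff_commute.2 (hL₁ab c hcL₁ l hl)]; exact one_mem _⟩)
        ⟨huS, by rw [← commutatorElement_inv, hz₁]; exact (Zs S).inv_mem hz₁Z⟩
        ⟨hvS, by rw [← commutatorElement_inv, hd]; exact (Zs S).inv_mem h⟩ hk).2
    have hle : L₂ ≤ Zs S := eL₂ ▸ Subgroup.commutator_le.2 fun a ha b hb => by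
      have hsub : L₂ ⊔ Subgroup.zpowers c ≤ commMod S Zs_nml b := sup_le
        (fun l hl => ⟨hL₂S hl, (h2Z hl hb).2⟩)
        (Subgroup.zpowers_le.2 ⟨hcS, commutatorElement_inv c b ▸ (Zs S).inv_mem (hc' b hb)⟩)
      exact commutatorElement_inv b a ▸ (Zs S).inv_mem (hsub (hL₁gen.ge ha)).2
    exact hd₀Z (hle hd₀)
  have hL₂gen : Zs S ⊔ Subgroup.zpowers d = L₂ := eq_sup_zpowers hS hL₂S h32 hL₂c' hdL₂ hdZ
  obtain ⟨z, hz⟩ : ∃ z, ⁅v, d⁆ = z := ⟨_, rfl⟩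
  have hzZ : z ∈ Zs S := hz ▸ (h2Z hdL₂ hvS).2
  have hz1 : z ≠ 1 := fun h => by
    have hvd : Commute v d := commutatorElement_eq_one_iff_commute.1 (hz.trans h)
    refine hvΓ (mem_centralizerIn.2 ⟨hvS, fun l hl => ?_⟩)
    have hle : Zs S ⊔ Subgroup.zpowers d ≤ Subgroup.centralizer {v} := sup_le
      (fun a ha => Subgroup.mem_centralizer_singleton_iff.2 (hcen ha hvS).eq)
      (Subgroup.zpowers_le.2 (Subgroup.mem_centralizer_singleton_iff.2 hvd.symm.eq))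
    exact Subgroup.mem_centralizer_singleton_iff.1 (hle (hL₂gen.ge hl))
  have hZord : ∀ {a}, a ∈ Zs S → a ^ p = 1 := fun {a} ha => by
    haveI := finite_of_le (Zs_le (S := S))
    have h : (⟨a, ha⟩ : Zs S) ^ p = 1 := by rw [← hZ]; exact pow_card_eq_one'
    exact congrArg Subtype.val h
  have hzord : orderOf z = p := orderOf_eq_prime (hZord hzZ) hz1
  have hZz : ∀ a ∈ Zs S, ∃ i : ℕ, z ^ i = a := by
    intro a ha
    haveI := finite_of_le (Zs_le (S := S))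
    obtain ⟨i, hi⟩ : (⟨a, ha⟩ : Zs S) ∈ Submonoid.powers (⟨z, hzZ⟩ : Zs S) :=
      mem_powers_of_prime_card hZ fun h => hz1 (congrArg Subtype.val h)
    exact ⟨i, congrArg Subtype.val hi⟩
  obtain ⟨k, hk⟩ := hZz _ hz₁Z
  have hkp : ¬ p ∣ k := by
    rintro ⟨q, rfl⟩
    rw [pow_mul, ← hzord, pow_orderOf_eq_one, one_pow] at hk
    refine hno Γ hΓS hΓc (comm_of_central_step hS hΓS hL₁Γ hΓc' fun a ha b hb => ?_)
    have hca : L₂ ⊔ Subgroup.zpowers c ≤ Subgroup.centralizer {u} := sup_le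
      (fun l hl => Subgroup.mem_centralizer_singleton_iff.2 (hΓmem huΓ hl).symm.eq)
      (Subgroup.zpowers_le.2 (Subgroup.mem_centralizer_singleton_iff.2
        (commutatorElement_eq_one_iff_commute.1 (hz₁.trans hk.symm)).symm.eq))
    have hle : L₁ ⊔ Subgroup.zpowers u ≤ Subgroup.centralizer {a} := sup_le
      (fun l hl => Subgroup.mem_centralizer_singleton_iff.2 (hL₁ab l hl a ha).eq)
      (Subgroup.zpowers_le.2 (Subgroup.mem_centralizer_singleton_iff.2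
        (Subgroup.mem_centralizer_singleton_iff.1 (hca (hL₁gen.ge ha))).symm))
    exact (Subgroup.mem_centralizer_singleton_iff.1 (hle (hΓgen.ge hb))).symm
  -- the normalizer `R` of `E`
  set R := normalizerIn S E with hRdef
  have hRS : R ≤ S := normalizerIn_le
  haveI := finite_of_le hRS
  have hER : E ≤ R := le_normalizerIn_self hES
  have hL₂R : L₂ ≤ R := fun l hl => by
    refine ⟨hL₂S hl, mem_normalizer_of_maps fun y hy => ?_⟩
    have hle : Zs S ⊔ Subgroup.zpowers v ≤ E.comap (MulAut.conj l).toMonoidHom :=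
      sup_le (fun a ha => hZE (Zs_nml l (hL₂S hl) a ha)) (Subgroup.zpowers_le.2 (by
        show l * v * l⁻¹ ∈ E
        rw [show l * v * l⁻¹ = ⁅l, v⁆ * v by rw [commutatorElement_def]; group]
        exact E.mul_mem (hZE (h2Z hl hvS).1) hvE))
    exact hle (hEgen.ge hy)
  have hvR := hER hvE
  have hRle : Nat.card R ≤ p ^ 3 := by
    have h := card_le_mul_centralizer (K := R) (Z := Zs S) (w := v) hRS Zs_le
      (fun r hr => (comm_mem_of_step (S := R) (hS.to_le hRS) hZE hER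
        (fun g hg a ha => Zs_nml g (hRS hg) a ha)
        (fun g hg a ha => conj_mem_of_mem_normalizerIn hg ha) hEcZ hvE hr).2)
      (fun a ha k hk => (hcen ha (hRS hk)).symm) fun a ha b hb => hcen ha (Zs_le hb)
    have hle : R ⊓ Subgroup.centralizer {v} ≤ E := fun w hw =>
      hCE w (hRS hw.1) (Subgroup.mem_centralizer_singleton_iff.1 hw.2)
    have h' := h.trans (Nat.mul_le_mul_left _ (Subgroup.card_le_of_le hle))
    rwa [hZ, hEc, ← pow_succ'] at h'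
  have hvL₂ : v ∉ L₂ := fun h => hvΓ (hL₁Γ (h21 h))
  have hR0le : L₂ ⊔ Subgroup.zpowers v ≤ R := sup_le hL₂R (Subgroup.zpowers_le.2 hvR)
  have hR0c : Nat.card ↥(L₂ ⊔ Subgroup.zpowers v) = p ^ 3 := by
    rw [card_sup_zpowers hS hL₂n hL₂S hvS (by rw [hvp]; exact one_mem _) hvL₂, hL₂c, ← pow_succ']
  have hRgen : L₂ ⊔ Subgroup.zpowers v = R := eq_of_card hRS hR0le (hR0c ▸ hRle)
  have hRc : Nat.card R = p ^ 3 := hRgen ▸ hR0c
  have hRE : Nat.card R = p * Nat.card E := by rw [hRc, hEc, ← pow_succ']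
  have hRL₂ : Nat.card R = p * Nat.card L₂ := by rw [hRc, hL₂c, ← pow_succ']
  have hdR := hL₂R hdL₂
  have hdE : d ∉ E := fun h => hvL₂ ((eq_of_card hES (hL₂gen ▸ sup_le hZE (Subgroup.zpowers_le.2 h))
    (by rw [hEc, hL₂c])).ge hvE)
  have hfix : ∀ e ∈ E, d * e * d⁻¹ = e ↔ e ∈ Zs S := fun e he => by
    refine ⟨fun h => ?_, fun h => mul_inv_eq_iff_eq_mul.2 (hcen h hdS).symm.eq⟩
    by_contra heZ
    refine hdE (hEc' (mem_centralizerIn.2 ⟨hdS, fun y hy => ?_⟩))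
    have hle : Zs S ⊔ Subgroup.zpowers e ≤ Subgroup.centralizer {d} := sup_le
      (fun a ha => Subgroup.mem_centralizer_singleton_iff.2 (hcen ha hdS).eq)
      (Subgroup.zpowers_le.2 (Subgroup.mem_centralizer_singleton_iff.2
        (mul_inv_eq_iff_eq_mul.1 h).symm))
    exact Subgroup.mem_centralizer_singleton_iff.1
      (hle ((eq_sup_zpowers hS hES hZE hEcZ he heZ).ge hy))
  -- the normalizer `R₂` of `R`
  set R₂ := L₁ ⊔ Subgroup.zpowers v with hR₂def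
  have hvL₁ : v ∉ L₁ := fun h => hvΓ (hL₁Γ h)
  have hR₂c : Nat.card R₂ = p ^ 4 := by
    rw [card_sup_zpowers hS hL₁n hL₁S hvS (by rw [hvp]; exact one_mem _) hvL₁, hL₁c, ← pow_succ']
  have hR₂S : R₂ ≤ S := sup_le hL₁S (Subgroup.zpowers_le.2 hvS)
  have hR₂n : Nml S R₂ := nml_of_card hS hR₂S (by rw [hcard, hR₂c, ← pow_succ'])
  have hR₂le : R₂ ≤ normalizerIn S R := sup_le (fun l hl => ⟨hL₁S hl, mem_normalizer_of_maps fun y hy => by
      have hle : L₂ ⊔ Subgroup.zpowers v ≤ R.comap (MulAut.conj l).toMonoidHom :=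
        sup_le (fun a ha => hL₂R (hL₂n l (hL₁S hl) a ha)) (Subgroup.zpowers_le.2 (by
          show l * v * l⁻¹ ∈ R
          rw [show l * v * l⁻¹ = ⁅l, v⁆ * v by rw [commutatorElement_def]; group]
          exact R.mul_mem (hL₂R (h12 hl hvS).1) hvR))
      exact hle (hRgen.ge hy)⟩)
    (Subgroup.zpowers_le.2 (le_normalizerIn_self hRS hvR))
  have hNne : normalizerIn S R ≠ S := fun e => by
    have hn : Nml S R := fun g hg x hx => conj_mem_of_mem_normalizerIn (e.ge hg) hx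
    exact hvL₁ ((eq_of_card hRS (hder R hRS hn hRc.ge) (by rw [hRc, hL₁c])).ge hvR)
  have hNc : Nat.card (normalizerIn S R) ≤ p ^ 4 := by
    have h := mul_card_le hS le_rfl (lt_of_le_of_ne normalizerIn_le hNne)
    rw [hcard, show p ^ 5 = p * p ^ 4 by ring] at h
    exact Nat.le_of_mul_le_mul_left h hp.out.pos
  have hNR : normalizerIn S R = R₂ := (eq_of_card normalizerIn_le hR₂le (hR₂c ▸ hNc)).symm
  have hvd : ¬ Commute v d := fun h => hz1 (hz ▸ commutatorElement_eq_one_iff_commute.2 h)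
  have hRfn : F.IsFullyNormalized R := by
    refine ⟨hRS, fun R' hR' => ?_⟩
    rw [hNR, hR₂c]
    by_contra hlt
    have hR'S := le_of_isConj_right hR'
    have hN' : normalizerIn S R' = S := by
      by_contra hne
      have h := mul_card_le hS le_rfl (lt_of_le_of_ne normalizerIn_le hne)
      rw [hcard, show p ^ 5 = p * p ^ 4 by ring] at h
      exact hlt (Nat.le_of_mul_le_mul_left h hp.out.pos)
    have hn : Nml S R' := fun g hg x hx => conj_mem_of_mem_normalizerIn (hN'.ge hg) hx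
    have hc' := (card_eq_of_isConj hR').symm.trans hRc
    have e : L₁ = R' := eq_of_card hR'S (hder R' hR'S hn hc'.ge) (by rw [hc', hL₁c])
    obtain ⟨f, hf⟩ := isConj_iff.1 hR'
    refine hvd (hf.isMap.injOn (R.mul_mem hvR hdR) (R.mul_mem hdR hvR) ?_)
    rw [hf.isMap.map_mul hvR hdR, hf.isMap.map_mul hdR hvR]
    exact hL₁ab _ (e.ge (hf.mem hvR)) _ (e.ge (hf.mem hdR))
  -- `Z` and `L₂` are invariant under `Aut_F(R)`
  have hZR : centralizerIn R R = Zs S := by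
    refine le_antisymm (fun r hr => ?_) fun a ha => mem_centralizerIn.2
      ⟨hER (hZE ha), fun w hw => (mem_Zs.1 ha).2 w (hRS hw)⟩
    obtain ⟨hrR, hrc⟩ := mem_centralizerIn.1 hr
    obtain ⟨i, hip, l, hl, rfl⟩ := exists_pow_mul hL₂R hRS
      (fun g hg a ha => hL₂n g (hRS hg) a ha) hRL₂ hvR hvL₂ hrR
    rcases Nat.eq_zero_or_pos i with rfl | hipos
    · rw [pow_zero, one_mul] at hrc ⊢
      by_contra hlZ
      refine hvΓ (mem_centralizerIn.2 ⟨hvS, fun y hy => ?_⟩)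
      have hle : Zs S ⊔ Subgroup.zpowers l ≤ Subgroup.centralizer {v} := sup_le
        (fun a ha => Subgroup.mem_centralizer_singleton_iff.2 (hcen ha hvS).eq)
        (Subgroup.zpowers_le.2 (Subgroup.mem_centralizer_singleton_iff.2 (hrc v hvR).symm))
      exact Subgroup.mem_centralizer_singleton_iff.1
        (hle ((eq_sup_zpowers hS hL₂S h32 hL₂c' hl hlZ).ge hy))
    · exfalso
      have h1 : Commute (v ^ i * l) d := (show Commute d (v ^ i * l) from hrc d hdR).symm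
      have h2 := h1.mul_left ((hL₁ab l (h21 hl) d (h21 hdL₂)).inv_left)
      rw [mul_inv_cancel_right] at h2
      have hicop : Nat.gcd p i = 1 := hp.out.coprime_iff_not_dvd.2
        fun hd' => (Nat.le_of_dvd hipos hd').not_gt hip
      have hv1 : v = (v ^ i) ^ (Nat.gcdB p i) := by
        conv_lhs => rw [← zpow_one v, ← Nat.cast_one, ← hicop, Nat.gcd_eq_gcd_ab, zpow_add, zpow_mul,
          zpow_natCast, hvp, one_zpow, one_mul, zpow_mul, zpow_natCast]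
      exact hvd (hv1 ▸ h2.zpow_left _)
  have iZR : ∀ α ∈ F.autGroup R, Inv α (Zs S) := fun α _ => hZR ▸ (inv_self α).centralizer hRS le_rfl
  have hsx : v⁻¹ * (c * v * c⁻¹) = v⁻¹ * d⁻¹ * v := by rw [← hd, commutatorElement_def]; group
  have iL₂R : ∀ α ∈ F.autGroup R, Inv α L₂ := by
    intro α hα
    have hm := ((mem_autGroup_iff hRS).1 hα).mono hL₂R
    have hXR : imgSub (autMap α) L₂ ≤ R := fun y hy => by
      obtain ⟨w, hw, rfl⟩ := hm.mem_imgSub.1 hy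
      exact autMap_mem α (hL₂R hw)
    have hZX : Zs S ≤ imgSub (autMap α) L₂ := fun y hy => by
      obtain ⟨w, hw, rfl⟩ := (iZR α hα).exists_preimage hRS (hZE.trans hER) hy
      exact hm.mem_imgSub.2 ⟨w, h32 hw, rfl⟩
    rcases class_or hS h32 hZE hRS hL₂R hvE hvR hvL₂ hL₂c' hEcZ hRL₂ Zs_nml hL₂n hcS
        (hsx ▸ by
          have := hL₂n v⁻¹ (S.inv_mem hvS) _ (L₂.inv_mem hdL₂)
          rwa [inv_inv] at this)
        (fun h => hdZ (by
          rw [hsx] at h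
          have h' := Zs_nml v hvS _ h
          rw [show v * (v⁻¹ * d⁻¹ * v) * v⁻¹ = d⁻¹ by group, inv_mem_iff] at h'
          exact h'))
        (imgSub (autMap α) L₂) hZX hXR (by rw [← hm.isIso.card_eq, hL₂c']) with h | ⟨g, hg, h⟩
    · intro w hw
      rw [← h]
      exact hm.mem_imgSub.2 ⟨w, hw, rfl⟩
    · refine (not_maps_normal hE.2.1 (fun hle => ?_) (hL₂n.le_normalizer hL₂S) hRS hL₂R hα hg
        (by rw [← hm.coe_imgSub]; exact h)).elim
      have e : R = S := inf_eq_left.2 hle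
      rw [e, hcard] at hRc
      have := Nat.pow_right_injective hp.out.two_le hRc
      omega
  -- invariant subgroups of `R₂`
  have hR₂gen : ∀ N : Subgroup Ω, L₁ ≤ N → v ∈ N → R₂ ≤ N := fun N h1 h2 =>
    sup_le h1 (Subgroup.zpowers_le.2 h2)
  have hvR₂ : v ∈ R₂ := Subgroup.mem_sup_right (Subgroup.mem_zpowers v)
  have hL₁R₂ : L₁ ≤ R₂ := le_sup_left
  have hder₂ : ⁅R₂, R₂⁆ = L₂ := by
    refine le_antisymm (Subgroup.commutator_le.2 fun a ha b hb => ?_) ?_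
    · have kv : ∀ w ∈ R₂, ⁅v, w⁆ ∈ L₂ := fun w hw =>
        (hR₂gen (commMod S hL₂n v) (fun l hl => ⟨hL₁S hl, (h12 hl hvS).2⟩) ⟨hvS, by simp⟩ hw).2
      exact (hR₂gen (commMod S hL₂n a) (fun l hl => ⟨hL₁S hl, (h12 hl (hR₂S ha)).2⟩)
        ⟨hvS, commutatorElement_inv v a ▸ L₂.inv_mem (kv a ha)⟩ hb).2
    · rw [← hL₂gen]
      refine sup_le (fun a ha => ?_) (Subgroup.zpowers_le.2
        (hd ▸ Subgroup.commutator_mem_commutator hvR₂ (hL₁R₂ hcL₁)))
      obtain ⟨i, rfl⟩ := hZz a ha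
      exact Subgroup.pow_mem _ (hz ▸ Subgroup.commutator_mem_commutator hvR₂ (hL₁R₂ (h21 hdL₂))) i
  have hL₁Γ₂ : centralizerIn R₂ L₂ = L₁ := by
    refine (eq_of_card (centralizerIn_le.trans hR₂S)
      (fun l hl => mem_centralizerIn.2 ⟨hL₁R₂ hl, fun y hy => (hL₁ab y (h21 hy) l hl).eq⟩) ?_).symm
    have hlt : centralizerIn R₂ L₂ < R₂ := lt_of_le_of_ne centralizerIn_le fun e =>
      hvΓ (mem_centralizerIn.2 ⟨hvS, (mem_centralizerIn.1 (e.ge hvR₂)).2⟩)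
    have h := mul_card_le hS hR₂S hlt
    rw [hR₂c, show p ^ 4 = p * p ^ 3 by ring, ← hL₁c] at h
    exact Nat.le_of_mul_le_mul_left h hp.out.pos
  have hZ₂ : ⁅L₂, R₂⁆ = Zs S := by
    refine le_antisymm (Subgroup.commutator_le.2 fun a ha b hb => (h2Z ha (hR₂S hb)).1) fun a ha => ?_
    obtain ⟨i, rfl⟩ := hZz a ha
    refine Subgroup.pow_mem _ ?_ i
    rw [← hz, ← commutatorElement_inv]
    exact Subgroup.inv_mem _ (Subgroup.commutator_mem_commutator hdL₂ hvR₂)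
  have iL₂₂ : ∀ α ∈ F.autGroup R₂, Inv α L₂ := fun α _ =>
    hder₂ ▸ (inv_self α).commutator le_rfl le_rfl (inv_self α)
  -- torus element on `S`
  have hlift : ∀ α ∈ F.autGroup R, ∃ β ∈ F.autGroup S, ∀ y ∈ R, autMap β y = autMap α y := by
    intro α hα
    obtain ⟨β₁, hβ₁, he₁⟩ := extend_chain4 hS hF hRfn h32 le_rfl hL₂R (Or.inr (by simp [hZ]))
      (Or.inr hL₂c') (Or.inl rfl) (Or.inr hRL₂) (fun g hg => Zs_nml g hg.1)
      (fun g hg => hL₂n g hg.1) (fun g hg => hL₂n g hg.1) iZR iL₂R iL₂R hα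
    obtain ⟨β₁', hβ₁', he₁'⟩ := aut_cast hNR hβ₁
    have hN₂ : normalizerIn S R₂ = S := normalizerIn_of_nml hR₂S hR₂n
    obtain ⟨β, hβ, he⟩ := extend_chain4 hS hF (isFullyNormalized_of_nml F hR₂S hR₂n) h32 h21 hL₁R₂
      (Or.inr (by simp [hZ])) (Or.inr hL₂c') (Or.inr hL₁c')
      (Or.inr (by rw [hR₂c, hL₁c, ← pow_succ'])) (fun g hg => Zs_nml g hg.1)
      (fun g hg => hL₂n g hg.1) (fun g hg => hL₁n g hg.1)
      (fun α hα => hZ₂ ▸ (iL₂₂ α hα).commutator (h21.trans hL₁R₂) le_rfl (inv_self α)) iL₂₂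
      (fun α hα => hL₁Γ₂ ▸ (iL₂₂ α hα).centralizer hR₂S (h21.trans hL₁R₂)) hβ₁'
    obtain ⟨β', hβ', he'⟩ := aut_cast hN₂ hβ
    refine ⟨β', hβ', fun y hy => ?_⟩
    rw [he' y, he y (hNR ▸ le_normalizerIn_self hRS hy), he₁' y, he₁ y hy]
  -- automorphisms of `S` in normal form
  haveI : (L₁.subgroupOf S).Normal := ⟨fun a ha g => hL₁n g g.2 a ha⟩
  haveI : (L₂.subgroupOf S).Normal := ⟨fun a ha g => hL₂n g g.2 a ha⟩
  haveI : ((Zs S).subgroupOf S).Normal := ⟨fun a ha g => Zs_nml (S := S) (g : Ω) g.2 (a : Ω) ha⟩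
  have iL₁ : ∀ β : MulAut S, Inv β L₁ := fun β =>
    eL₁ ▸ (inv_self β).commutator le_rfl le_rfl (inv_self β)
  have iΓ : ∀ β : MulAut S, Inv β Γ := fun β =>
    ((eL₂ ▸ (iL₁ β).commutator hL₁S le_rfl (inv_self β)) : Inv β L₂).centralizer le_rfl hL₂S
  have hform : ∀ β : MulAut S, ∃ b, ¬ p ∣ b ∧ ∃ w' ∈ L₁, autMap β u = u ^ b * w' := fun β => by
    obtain ⟨b, hbp, w', hw', e⟩ := exists_pow_mul hL₁Γ hΓS (fun g hg a ha => hL₁n g (hΓS hg) a ha)
      hΓc' huΓ huL₁ (iΓ β u huΓ)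
    refine ⟨b, fun hd' => ?_, w', hw', e⟩
    rw [Nat.eq_zero_of_dvd_of_lt hd' hbp, pow_zero, one_mul] at e
    obtain ⟨w, hw, hwe⟩ := (iL₁ β).exists_preimage le_rfl hL₁S hw'
    exact huL₁ (autMap_inj β huS (hL₁S hw) (e.trans hwe.symm) ▸ hw)
  have hidentity : ∀ β : MulAut S, ∀ a b i ζ : ℕ, ∀ w ∈ L₁, ∀ w' ∈ L₁, ¬ p ∣ a → ¬ p ∣ b →
      autMap β v = v ^ a * (u ^ i * w) → autMap β u = u ^ b * w' → autMap β z = z ^ ζ →
      (ζ : ZMod p) = (a : ZMod p) ^ 5 ∧ (b : ZMod p) = (a : ZMod p) ^ 2 := by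
    intro β a b i ζ w hw w' hw' ha hb hv hu hzβ
    have e1 : ⁅(⟨v, hvS⟩ : S), (⟨u, huS⟩ : S)⁆ = ⟨c, hcS⟩ := Subtype.ext hc
    have e2 : ⁅(⟨v, hvS⟩ : S), (⟨c, hcS⟩ : S)⁆ = ⟨d, hdS⟩ := Subtype.ext hd
    have e3 : ⁅(⟨v, hvS⟩ : S), (⟨d, hdS⟩ : S)⁆ = ⟨z, Zs_le hzZ⟩ := Subtype.ext hz
    refine maxClass_identity (p := p) (L₁.subgroupOf S) (L₂.subgroupOf S) ((Zs S).subgroupOf S)
      (fun w hw g => (h12 hw g.2).1) (fun w hw g => (h2Z hw g.2).1)
      (fun w hw g => Subtype.ext (hcen hw g.2).eq)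
      (fun w hw w' hw' => Subtype.ext (hL₁ab w hw w' hw').eq)
      (Subgroup.comap_mono h21) (Subgroup.comap_mono h32) (v := ⟨v, hvS⟩) (u := ⟨u, huS⟩)
      (by rw [e1]; exact hcL₁) (by rw [e1, e2]; exact hdL₂) (by rw [e1, e2, e3]; exact hzZ)
      (by rw [e1, e2, e3, ← Subgroup.orderOf_coe]; exact hzord)
      (fun l hl => Subtype.ext (hΓmem huΓ hl).eq) hkp (by
        rw [e1, e2, e3]
        exact Subtype.ext (hz₁.trans hk.symm))
      β (a := a) (b := b) (i := i) (ζ := ζ) (w := ⟨w, hL₁S hw⟩) (w' := ⟨w', hL₁S hw'⟩) hw hw'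
      (Subtype.ext ((autMap_coe β _).symm.trans hv)) (Subtype.ext ((autMap_coe β _).symm.trans hu))
      ha hb ?_
    rw [e1, e2, e3]
    exact Subtype.ext ((autMap_coe β _).symm.trans hzβ)
  have hp3 : p = 3 := by
    obtain ⟨C, -, -, β₀, hβ₀, -, -, hT, hm⟩ := torus_extend hS hF hE hab (g := d) hdR hdE hRE
      le_rfl hZE hZ hEcZ hfix (fun e he => by
        rw [show e⁻¹ * (d * e * d⁻¹) = ⁅e⁻¹, d⁆ by simp only [commutatorElement_def]; group]
        exact (h2Z hdL₂ (S.inv_mem (hES he))).2) (l := 2) (m := (p + 1) / 2) (by omega)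
      hp.out.two_le (by have := two_mul_half hp2; omega) (two_mul_half_mod hp2)
    obtain ⟨β, hβ, he⟩ := hlift β₀ hβ₀
    set m := (p + 1) / 2 with hm'
    have hy : autMap β v * (v ^ m)⁻¹ ∈ Zs S := by rw [he v hvR]; exact hm v hvE
    have hβv : autMap β v = v ^ m * (u ^ 0 * (autMap β v * (v ^ m)⁻¹)) := by
      rw [pow_zero, one_mul, (hcen hy (S.pow_mem hvS m)).symm.eq, inv_mul_cancel_right]
    have hmp : ¬ p ∣ m := fun hd' => by
      have h1 : p ∣ p + 1 := two_mul_half hp2 ▸ hd'.mul_left 2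
      exact hp.out.one_lt.ne' (Nat.dvd_one.1 ((Nat.dvd_add_right dvd_rfl).1 h1))
    obtain ⟨b, hb, w', hw', hβu⟩ := hform β
    obtain ⟨h, -⟩ := hidentity β m b 0 2 _ (h21 (h32 hy)) w' hw' hmp hb hβv hβu
      (by rw [he z (hER (hZE hzZ))]; exact hT z hzZ)
    have h2 : ((2 * m : ℕ) : ZMod p) = 1 := by
      rw [hm', two_mul_half hp2]; push_cast; rw [ZMod.natCast_self, zero_add]
    push_cast at h h2
    have h5 : ((2 : ZMod p) * m) ^ 5 = 1 := by rw [h2]; ring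
    have h63 : ((63 : ℕ) : ZMod p) = 0 := by
      push_cast
      linear_combination (32 : ZMod p) * h + h5
    rcases (hp.out.dvd_mul (m := 9) (n := 7)).1 (show p ∣ 9 * 7 from
      (ZMod.natCast_eq_zero_iff _ _).1 h63) with h9 | h7
    · exact (Nat.prime_dvd_prime_iff_eq hp.out Nat.prime_three).1
        (hp.out.dvd_of_dvd_pow (show p ∣ 3 ^ 2 from h9))
    · exact absurd ((Nat.prime_dvd_prime_iff_eq hp.out (by norm_num)).1 h7) hp7
  subst hp3
  have hu3 : u ^ 3 ∈ L₁ :=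
    pow_mem_of_step hL₁Γ hΓS (fun g hg a ha => hL₁n g (hΓS hg) a ha) hΓc' huΓ
  refine ⟨rfl, ⟨u, huS, L₁, huL₁, hL₁S, fun a ha b hb => hS1 ha hb, fun β hβ => ?_⟩, ?_⟩
  · obtain ⟨b, hb, w', hw', hβu⟩ := hform β
    obtain ⟨a, hap, g', hg', hβv⟩ := exists_pow_mul hΓS le_rfl hΓn hSΓ hvS hvΓ (autMap_mem β hvS)
    obtain ⟨i, -, w, hw, hg'e⟩ := exists_pow_mul hL₁Γ hΓS (fun g hg a ha => hL₁n g (hΓS hg) a ha)
      hΓc' huΓ huL₁ hg'
    have ha0 : a ≠ 0 := fun h0 => by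
      rw [h0, pow_zero, one_mul] at hβv
      obtain ⟨x, hx, hxe⟩ := (iΓ β).exists_preimage le_rfl hΓS hg'
      exact hvΓ (autMap_inj β hvS (hΓS hx) (hβv.trans hxe.symm) ▸ hx)
    obtain ⟨ζ, hζ⟩ := hZz _ (inv_Zs (α := β) z hzZ)
    obtain ⟨-, h⟩ := hidentity β a b i ζ w hw w' hw'
      (fun hd' => ha0 (Nat.eq_zero_of_dvd_of_lt hd' hap)) hb (by rw [hβv, hg'e]) hβu hζ.symm
    have hb1 : b % 3 = 1 := by
      have hae : a = 1 ∨ a = 2 := by omega
      have h' : ((b : ℕ) : ZMod 3) = ((1 : ℕ) : ZMod 3) := by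
        rw [h, ← Nat.cast_pow]
        rcases hae with rfl | rfl <;> exact (ZMod.natCast_eq_natCast_iff _ _ _).2 (by decide)
      exact Eq.trans ((ZMod.natCast_eq_natCast_iff _ _ _).1 h') (by norm_num)
    rw [hβu, ← Nat.mod_add_div b 3, hb1, pow_add, pow_one, pow_mul, mul_assoc, inv_mul_cancel_left]
    exact L₁.mul_mem (L₁.pow_mem hu3 _) hw'
  · rintro ⟨B, hBS, hBc, hBcomm, hBpow⟩
    have hBn : Nml S B := nml_of_card hS hBS (by rw [hcard, hBc, ← pow_succ'])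
    have hBL₁ : L₁ ≤ B := hder B hBS hBn (by rw [hBc]; exact Nat.pow_le_pow_right hp.out.pos (by omega))
    -- `u ^ 3` is not central
    have hzc : ∀ {k}, k ∈ S → Commute z k := fun hk => hcen hzZ hk
    have hdc : Commute d c := hcdc
    have hvd' : v * d * v⁻¹ = z * d := by rw [← hz, commutatorElement_def]; group
    let φ := MulAut.conj v
    have hφu : φ u = c * u := hvu
    have hφc : φ c = d * c := hvc
    have hφd : φ d = z * d := hvd'
    have hrel : z * d ^ 3 * c ^ 3 = 1 := by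
      have h3 : φ (φ (φ u)) = u := by
        simp only [φ, MulAut.conj_apply]
        calc v * (v * (v * u * v⁻¹) * v⁻¹) * v⁻¹ = v ^ 3 * u * (v ^ 3)⁻¹ := by
              simp only [pow_succ, pow_zero, one_mul, mul_inv_rev, mul_assoc]
          _ = u := by rw [hvp]; group
      rw [hφu, map_mul, hφc, hφu, map_mul, map_mul, map_mul, hφd, hφc, hφu] at h3
      have h4 : z * d * (d * c) * (d * c) * c = 1 := mul_eq_right.1 (by
        simpa only [mul_assoc] using h3)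
      rw [← h4]
      calc z * d ^ 3 * c ^ 3 = z * (d * d) * (d * c) * (c * c) := by
            simp only [pow_succ, pow_zero, one_mul, mul_assoc]
        _ = z * (d * d) * (c * d) * (c * c) := by rw [hdc.eq]
        _ = _ := by simp only [mul_assoc]
    have hc3 : c ^ 3 ∈ L₂ :=
      pow_mem_of_step h21 hL₁S (fun g hg a ha => hL₂n g (hL₁S hg) a ha) hL₁c' hcL₁
    have hd3 : d ^ 3 ∈ Zs S :=
      pow_mem_of_step h32 hL₂S (fun g hg a ha => Zs_nml g (hL₂S hg) a ha) hL₂c' hdL₂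
    have hc3e : c ^ 3 = (z * d ^ 3)⁻¹ := eq_inv_of_mul_eq_one_right hrel
    have hd31 : d ^ 3 = 1 := by
      have h1 : ⁅v, c ^ 3⁆ = d ^ 3 := by
        rw [comm_pow_right (by rw [hd]; exact hdc.symm), hd]
      rw [← h1, commutatorElement_eq_one_iff_commute, hc3e]
      exact (hcen ((Zs S).inv_mem ((Zs S).mul_mem hzZ hd3)) hvS).symm
    rw [hd31, mul_one] at hc3e
    have hu3Z : u ^ 3 ∉ Zs S := fun h => by
      have h1 : v * u ^ 3 * v⁻¹ = u ^ 3 := mul_inv_eq_iff_eq_mul.2 (hcen h hvS).symm.eq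
      have h2 : v * u ^ 3 * v⁻¹ = (c * u) ^ 3 := by rw [← hvu, conj_pow]
      rw [h2] at h1
      have huc : u * c = z₁ * c * u := by rw [← hz₁, commutatorElement_def]; group
      have hz₁c : ∀ {k}, k ∈ S → Commute z₁ k := fun hk => hcen hz₁Z hk
      have h3 : (c * u) ^ 3 = c ^ 3 * z₁ ^ 3 * u ^ 3 := by
        calc (c * u) ^ 3 = c * (u * c) * (u * c) * u := by
              simp only [pow_succ, pow_zero, one_mul, mul_assoc]
          _ = c * (z₁ * c * u) * (z₁ * c * u) * u := by rw [huc]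
          _ = c * z₁ * c * (u * z₁) * c * u * u := by simp only [mul_assoc]
          _ = c * z₁ * c * z₁ * (u * c) * u * u := by
              rw [(hz₁c huS).symm.eq]; simp only [mul_assoc]
          _ = c * z₁ * c * z₁ * z₁ * c * u * u * u := by rw [huc]; simp only [mul_assoc]
          _ = c * z₁ * c * (z₁ * z₁ * c) * (u * u * u) := by simp only [mul_assoc]
          _ = c * z₁ * c * (c * (z₁ * z₁)) * (u * u * u) := by
              rw [((hz₁c hcS).mul_left (hz₁c hcS)).eq]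
          _ = c * (z₁ * (c * c)) * (z₁ * z₁) * (u * u * u) := by simp only [mul_assoc]
          _ = c * ((c * c) * z₁) * (z₁ * z₁) * (u * u * u) := by
              rw [((hz₁c hcS).mul_right (hz₁c hcS)).eq]
          _ = c ^ 3 * z₁ ^ 3 * u ^ 3 := by simp only [pow_succ, pow_zero, one_mul, mul_assoc]
      rw [h3, hZord hz₁Z, mul_one, mul_eq_right, hc3e, inv_eq_one] at h1
      exact hz1 h1
    have huB : u ∉ B := fun h => hu3Z (hBpow u h)
    have hcB := hBL₁ hcL₁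
    have hgenB : B ⊔ Subgroup.zpowers u = S :=
      eq_sup_zpowers hS le_rfl hBS (by rw [hcard, hBc, ← pow_succ']) huS huB
    have hle : B ⊔ Subgroup.zpowers u ≤ commMod S Zs_nml c := sup_le
      (fun b hb => ⟨hBS hb, hBcomm c hcB b hb⟩)
      (Subgroup.zpowers_le.2 ⟨huS, by rw [← commutatorElement_inv, hz₁]; exact (Zs S).inv_mem hz₁Z⟩)
    have h := (hle (hgenB.ge hvS)).2
    rw [← commutatorElement_inv, hd, inv_mem_iff] at h
    exact hdZ h

end Cfsg.Agent.Cores.FusFive
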