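import Cfsg.Agent.Cores.FusFive.Normal
import Cfsg.Agent.Cores.FusFive.Pearl
import Cfsg.Agent.Cores.FusFive.Focal
import Cfsg.Agent.H90.CenterIndex

/-!
A core free saturated system over a group of order `p ^ 5`, `p ≠ 2, 7`, with full hyperfocal
subgroup has an abelian subgroup of index `p`.
-/

set_option autoImplicit false
set_option linter.unusedSectionVars false
set_option linter.style.haveILetI false

namespace Cfsg.Agent.Cores.FusFive

open Cfsg Cfsg.FusionSystem Cfsg.Agent.FusionSys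
open scoped commutatorElement

universe u

variable {Ω : Type u} [Group Ω] {p : ℕ} [hp : Fact p.Prime] {S : Subgroup Ω} [Finite S]
  {F : FusionSystem S}

theorem card_Zs (hS : IsPGroup p S) (hcard : Nat.card S = p ^ 5) (hno : NoAb p S) :
    Nat.card (Zs S) = p ∨ Nat.card (Zs S) = p ^ 2 := by
  have hp1 := hp.out.one_lt
  have hSne : S ≠ ⊥ := fun h => by
    rw [h, Subgroup.card_bot] at hcard
    exact (Nat.one_lt_pow (by omega) hp1).ne hcard
  obtain ⟨T, hT, -, hTZ⟩ := exists_central_le hS nml_self le_rfl hSne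
  haveI := finite_of_le (Zs_le (S := S))
  have h0 := Subgroup.card_le_of_le hTZ
  obtain ⟨i, hi⟩ := exists_card_eq hS (Zs_le (S := S))
  rw [hT, hi] at h0
  have hi1 : 1 ≤ i := (Nat.pow_le_pow_iff_right hp1).1 (by rwa [pow_one])
  have hi5 : i ≤ 5 := by
    have h := Subgroup.card_le_of_le (Zs_le (S := S))
    rw [hi, hcard] at h
    exact (Nat.pow_le_pow_iff_right hp1).1 h
  by_cases hi2 : i ≤ 2
  · interval_cases i
    · exact Or.inl (hi.trans (pow_one p))
    · exact Or.inr hi
  exfalso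
  have hcomm : ∀ a ∈ Zs S, ∀ b ∈ Zs S, Commute a b := fun a ha b hb => comm_Zs ha (Zs_le hb)
  interval_cases i
  · have hlt : Zs S < S := lt_of_le_of_ne Zs_le fun e => by
      rw [e, hcard] at hi
      exact absurd (Nat.pow_right_injective hp.out.two_le hi) (by omega)
    obtain ⟨N, -, hZN, hNS, hN⟩ := exists_step hS Zs_nml nml_self le_rfl hlt
    exact hno N hNS (by rw [hN, hi, ← pow_succ']) (comm_of_central_step hS hNS hZN hN
      fun a ha b hb => comm_Zs ha (hNS hb))
  · exact hno _ Zs_le hi hcomm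
  · have e : Zs S = S := eq_of_card le_rfl Zs_le (by rw [hi, hcard])
    obtain ⟨M, -, -, hM⟩ := PGroups.exists_normal_card_le hS ⊤ 4 (by
      rw [Subgroup.card_top, hcard]; exact Nat.pow_le_pow_right hp.out.pos (by omega))
    exact hno (M.map S.subtype) (Subgroup.map_subtype_le M)
      (by rw [Subgroup.card_map_of_injective S.subtype_injective, hM])
      fun a ha b hb => hcomm a (e.ge (Subgroup.map_subtype_le M ha)) b
        (e.ge (Subgroup.map_subtype_le M hb))

theorem card_derived_of_center {E : Subgroup Ω} [Finite E]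
    (hc : Nat.card E = p ^ 2 * Nat.card (centralizerIn E E)) :
    Nat.card ↥(⁅E, E⁆ : Subgroup Ω) = p ∧ ⁅E, E⁆ ≤ centralizerIn E E := by
  have hz : H90.CI.zc E = centralizerIn E E := by
    ext x; rw [H90.CI.mem_zc, mem_centralizerIn]
  have hi : (Subgroup.center ↥E).index = p ^ 2 := by
    have h := Subgroup.card_mul_index (Subgroup.center ↥E)
    rw [← H90.CI.zc_subgroupOf,
      Nat.card_congr (Subgroup.subgroupOfEquivOfLe (H90.CI.zc_le (S := E))).toEquiv, hz, hc,
      mul_comm (p ^ 2)] at h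
    rw [← H90.CI.zc_subgroupOf]
    haveI := finite_of_le (centralizerIn_le : centralizerIn E E ≤ E)
    exact Nat.eq_of_mul_eq_mul_left Nat.card_pos (by simpa [hz] using h)
  exact ⟨H90.CI.card_der hi, hz ▸ H90.CI.der_le_zc hi⟩

/-- A moved centre in a small essential subgroup gives the exceptional data. -/
theorem moved_cases (hS : IsPGroup p S) (hF : F.IsSaturated p) (hp2 : p ≠ 2) (hp7 : p ≠ 7)
    (hcard : Nat.card S = p ^ 5) (hno : NoAb p S) {E : Subgroup Ω} (hE : F.IsEssential p E)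
    {α : MulAut E} (hα : α ∈ F.autGroup E) (hmove : ¬ Inv α (Zs S)) :
    p = 3 ∧ Nat.card (Zs S) = p ∧
      (∃ f ∈ S, ∃ D : Subgroup Ω, f ∉ D ∧ D ≤ S ∧ (∀ a ∈ S, ∀ b ∈ S, ⁅a, b⁆ ∈ D) ∧
        ∀ β ∈ F.autGroup S, f⁻¹ * autMap β f ∈ D) ∧
      ((∀ a ∈ S, ∀ t ∈ S, ⁅⁅a, t⁆, t⁆ ∈ Zs S) ∨
        ¬ ∃ B, B ≤ S ∧ Nat.card B = p ^ 4 ∧ (∀ a ∈ B, ∀ b ∈ B, ⁅a, b⁆ ∈ Zs S) ∧
          ∀ b ∈ B, b ^ p ∈ Zs S) := by
  have hp1 := hp.out.one_lt
  have hES := hE.1.1
  have hEc' := centralizerIn_le_of_isCentric hE.1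
  haveI := finite_of_le hES
  have hlt := lt_of_isEssential hS hF hE
  have hZE : Zs S ≤ E := fun z hz => hEc' (mem_centralizerIn.2
    ⟨Zs_le hz, fun y hy => (mem_Zs.1 hz).2 y (hES hy)⟩)
  have hZneE : Zs S ≠ E := fun e => hlt.not_ge fun g hg => hEc' (mem_centralizerIn.2
    ⟨hg, fun y hy => ((mem_Zs.1 (e.ge hy)).2 g hg).symm⟩)
  have hZ := card_Zs hS hcard hno
  obtain ⟨k, hk⟩ := exists_card_eq hS hES
  have hk4 : k ≤ 4 := by
    have h := mul_card_le hS le_rfl hlt
    rw [hk, hcard, ← pow_succ'] at h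
    have := (Nat.pow_le_pow_iff_right hp1).1 h
    omega
  have hk2 : 2 ≤ k := by
    have h := mul_card_le hS hES (lt_of_le_of_ne hZE hZneE)
    rw [hk] at h
    have h1 : p ^ 1 ≤ Nat.card (Zs S) := by
      rcases hZ with e | e <;> rw [e]
      · rw [pow_one]
      · exact Nat.pow_le_pow_right hp.out.pos (by omega)
    have h2 := (Nat.mul_le_mul_left p h1).trans h
    rw [← pow_succ'] at h2
    exact (Nat.pow_le_pow_iff_right hp1).1 h2
  -- the centre of `E`
  set Y := centralizerIn E E with hY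
  have hYE : Y ≤ E := centralizerIn_le
  have hYS := hYE.trans hES
  haveI := finite_of_le hYS
  have hZY : Zs S ≤ Y := fun z hz =>
    mem_centralizerIn.2 ⟨hZE hz, fun y hy => (mem_Zs.1 hz).2 y (hES hy)⟩
  have hYc : ∀ a ∈ Y, ∀ b ∈ E, Commute a b := fun a ha b hb =>
    ((mem_centralizerIn.1 ha).2 b hb).symm
  have hYne : Zs S ≠ Y := fun e => hmove (by
    rw [e]; exact (inv_self α).centralizer hES le_rfl)
  obtain ⟨i, hi⟩ := exists_card_eq hS hYS
  have hi2 : p * Nat.card (Zs S) ≤ p ^ i := hi ▸ mul_card_le hS hYS (lt_of_le_of_ne hZY hYne)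
  have hi2' : 2 ≤ i := by
    refine (Nat.pow_le_pow_iff_right hp1).1 (le_trans ?_ hi2)
    rw [pow_two]
    rcases hZ with e | e <;> rw [e]
    exact Nat.mul_le_mul_left p (Nat.le_self_pow (by omega) p)
  have hik : i ≤ k := by
    have h := Subgroup.card_le_of_le hYE
    rw [hi, hk] at h
    exact (Nat.pow_le_pow_iff_right hp1).1 h
  by_cases hnab : Y ≠ E
  · -- nonabelian: impossible
    exfalso
    have hik2 : i + 2 ≤ k := by
      have h := mul_card_le hS hES (lt_of_le_of_ne hYE hnab)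
      rw [hi, hk, ← pow_succ'] at h
      have h' := (Nat.pow_le_pow_iff_right hp1).1 h
      by_contra hlt'
      refine hnab (le_antisymm hYE fun a ha => mem_centralizerIn.2 ⟨ha, fun b hb => ?_⟩)
      exact (comm_of_central_step hS hES hYE (by rw [hk, hi, show k = i + 1 by omega, pow_succ'])
        hYc b hb a ha).eq
    obtain rfl : i = 2 := by omega
    obtain rfl : k = 4 := by omega
    have hZp : Nat.card (Zs S) = p := by
      rcases hZ with e | e
      · exact e
      · rw [e, pow_two] at hi2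
        nlinarith
    obtain ⟨hTc, hTY⟩ := card_derived_of_center (p := p) (E := E) (by
      rw [← hY, hk, hi, ← pow_add])
    have hEn : Nml S E := nml_of_card hS hES (by rw [hcard, hk, ← pow_succ'])
    have hT : ⁅E, E⁆ = Zs S := eq_of_card Zs_le
      (le_Zs_of_card hS (hEn.commutator hEn) (hTY.trans hYS) hTc) (by rw [hTc, hZp])
    exact hmove (hT ▸ (inv_self α).commutator le_rfl le_rfl (inv_self α))
  · push Not at hnab
    have hab : ∀ x ∈ E, ∀ y ∈ E, Commute x y := fun x hx y hy => hYc x (hnab.ge hx) y hy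
    have hk3 : k ≤ 3 := by
      by_contra h
      exact hno E hES (by rw [hk, show k = 4 by omega]) hab
    have hexp := elementary_of_essential hS hF hE hab hk3 hk
    rcases (show k = 2 ∨ k = 3 by omega) with rfl | rfl
    · have hZp : Nat.card (Zs S) = p := by
        rcases hZ with e | e
        · exact e
        · exact absurd (eq_of_card hES hZE (by rw [e, hk])) hZneE
      obtain ⟨h1, h2, h3⟩ := pearl_data hS hF hp2 hp7 hcard hno hZp hE hab hexp hk
      exact ⟨h1, hZp, h2, Or.inr h3⟩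
    · by_cases hn : Nml S E
      · exact absurd (normal_invariant hS hF hcard hE hab hexp hk hn hZ α hα) hmove
      · obtain ⟨h1, h2, h3, h4⟩ := config_data hS hF hp2 hcard hno hE hab hk hn
        exact ⟨h1, h2, h3, Or.inl h4⟩

/-- The main result of this folder. -/
theorem exists_abelian_index (hS : IsPGroup p S) (hF : F.IsSaturated p) (hp2 : p ≠ 2) (hp7 : p ≠ 7)
    (hcard : Nat.card S = p ^ 5) (hcore : F.core = ⊥) (hhyp : F.hyperfocalSubgroup p = S) :
    ∃ A : Subgroup Ω, A ≤ S ∧ Nat.card A = p ^ 4 ∧ ∀ a ∈ A, ∀ b ∈ A, Commute a b := by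
  by_contra hcon
  have hno : NoAb p S := fun A hA hAc hab => hcon ⟨A, hA, hAc, hab⟩
  have hZ := card_Zs hS hcard hno
  obtain ⟨E, hE, α, hα, hmove⟩ : ∃ E, F.IsEssential p E ∧ ∃ α ∈ F.autGroup E, ¬ Inv α (Zs S) := by
    by_contra h
    push Not at h
    have hN : F.IsNormal (Zs S) := isNormal_of_essential hS hF fun P hP => by
      rcases hP with rfl | hP
      · exact ⟨Zs_le, fun β _ => inv_Zs.image_eq le_rfl Zs_le⟩
      · have hle : Zs S ≤ P := fun z hz => centralizerIn_le_of_isCentric hP.1 (mem_centralizerIn.2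
          ⟨Zs_le hz, fun y hy => (mem_Zs.1 hz).2 y (hP.1.1 hy)⟩)
        exact ⟨hle, fun β hβ => (h P hP β hβ).image_eq hP.1.1 hle⟩
    have hle : Zs S ≤ F.core := le_sSup (show Zs S ∈ {Q : Subgroup Ω | F.IsNormal Q} from hN)
    rw [hcore, le_bot_iff] at hle
    have h1 := hp.out.one_lt
    rw [hle, Subgroup.card_bot] at hZ
    rcases hZ with e | e
    · exact h1.ne e
    · exact (Nat.one_lt_pow (by omega) h1).ne e
  obtain ⟨h3, hZp, ⟨f, hf, D, hfD, hDS, hder, hfix⟩, hdata⟩ :=
    moved_cases hS hF hp2 hp7 hcard hno hE hα hmove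
  subst h3
  have hne : ¬ F.focalSubgroup ≤ H59.topFocal F := fun h =>
    topFocal_proper hS hF hf hfD hDS hder hfix
      (hhyp.ge.trans ((H90.hyp_le_focal F 3).trans h))
  obtain ⟨P, φ, hφ⟩ := H59.yoshida_fusion hS hF hne
  have hPc : Nat.card ↥(P : Subgroup (Equiv.Perm (Fin (3 ^ 2)))) = 3 ^ 4 :=
    H59.card_sylow_perm_sq P
  have hker : Nat.card φ.ker = 3 := by
    have h := Subgroup.card_eq_card_quotient_mul_card_subgroup φ.ker
    rw [Nat.card_congr (QuotientGroup.quotientKerEquivOfSurjective φ hφ).toEquiv, hPc, hcard,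
      show 3 ^ 5 = 3 ^ 4 * 3 by norm_num] at h
    exact (Nat.eq_of_mul_eq_mul_left (by norm_num) h).symm
  have hkZ : φ.ker.map S.subtype = Zs S := by
    refine eq_of_card Zs_le (fun x hx => ?_) ?_
    · obtain ⟨w, hw, rfl⟩ := hx
      have hc := PGroups.le_center_of_card_eq hS φ.ker hker hw
      exact mem_Zs.2 ⟨w.2, fun y hy => congrArg Subtype.val (Subgroup.mem_center_iff.1 hc ⟨y, hy⟩)⟩
    · rw [hZp, Subgroup.card_map_of_injective S.subtype_injective, hker]
  have hmem : ∀ w : S, (w : Ω) ∈ Zs S ↔ φ w = 1 := fun w => by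
    rw [← hkZ, ← MonoidHom.mem_ker]
    exact Subgroup.mem_map_iff_mem S.subtype_injective
  obtain ⟨⟨a, t, hat⟩, B, hBc, hBab, hBexp⟩ := sylow_nine P
  rcases hdata with hcl | hnoB
  · obtain ⟨a, rfl⟩ := hφ a
    obtain ⟨t, rfl⟩ := hφ t
    refine hat ?_
    rw [← map_commutatorElement, ← map_commutatorElement, ← hmem]
    exact hcl a a.2 t t.2
  · refine hnoB ⟨(B.comap φ).map S.subtype, Subgroup.map_subtype_le _, ?_, ?_, ?_⟩
    · rw [Subgroup.card_map_of_injective S.subtype_injective]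
      have h1 := Subgroup.card_mul_index (B.comap φ)
      rw [Subgroup.index_comap_of_surjective _ hφ, hcard] at h1
      have h2 := Subgroup.card_mul_index B
      rw [hBc, hPc] at h2
      have h3 : B.index = 3 := by omega
      rw [h3] at h1
      omega
    · rintro _ ⟨a, ha, rfl⟩ _ ⟨b, hb, rfl⟩
      show ((⁅a, b⁆ : S) : Ω) ∈ Zs S
      rw [hmem, map_commutatorElement]
      exact hBab _ ha _ hb
    · rintro _ ⟨b, hb, rfl⟩
      show ((b ^ 3 : S) : Ω) ∈ Zs S
      rw [hmem, map_pow]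
      exact hBexp _ hb

end Cfsg.Agent.Cores.FusFive
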