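import Cfsg.Agent.Cores.FusFive.Abelian

/-!
An elementary abelian essential subgroup of order `p ^ 3` that is normal in a group of order `p ^ 5`
keeps the centre invariant.
-/

set_option autoImplicit false
set_option linter.unusedSectionVars false
set_option linter.style.haveILetI false

namespace Cfsg.Agent.Cores.FusFive

open Cfsg Cfsg.FusionSystem Cfsg.Agent.FusionSys
open Cfsg.Agent.H90 (exists_pow_div_mem exists_pow_eq seriesStab seriesStab_isPGroup pow_apply_of_fix)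

universe u

section Abstract

variable {p : ℕ} [hp : Fact p.Prime] {E : Type u} [CommGroup E] [Finite E]

/-- A group `Q` of order `p ^ 2` containing a conjugate of every `p`-subgroup of `G`. -/
structure NData (p : ℕ) {E : Type u} [CommGroup E] (G Q : Subgroup (MulAut E)) : Prop where
  expo : ∀ x : E, x ^ p = 1
  le : Q ≤ G
  card : Nat.card Q = p * p
  conj : ∀ K : Subgroup (MulAut E), K ≤ G → IsPGroup p K → ∃ δ ∈ G, ∀ k ∈ K, δ * k * δ⁻¹ ∈ Q

variable {G Q : Subgroup (MulAut E)}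

theorem card_zpowers_of_ne (hx : ∀ x : E, x ^ p = 1) {w : E} (hw : w ≠ 1) :
    Nat.card (Subgroup.zpowers w) = p := by
  rw [Nat.card_zpowers, orderOf_eq_prime (hx w) hw]

theorem mem_zpowers_of_mem (hx : ∀ x : E, x ^ p = 1) {w a : E} (ha : a ∈ Subgroup.zpowers w)
    (ha1 : a ≠ 1) : w ∈ Subgroup.zpowers a := by
  have hw : w ≠ 1 := fun h => ha1 (by simpa [h] using ha)
  obtain ⟨i, hi⟩ := exists_pow_eq (card_zpowers_of_ne hx hw) ha ha1 (Subgroup.mem_zpowers w)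
  exact hi ▸ Subgroup.npow_mem_zpowers a i

theorem stable_inv {Z : Subgroup E} {η : MulAut E} (h : ∀ z ∈ Z, η z ∈ Z) {z : E} (hz : z ∈ Z) :
    η⁻¹ z ∈ Z := by
  obtain ⟨⟨w, hw⟩, e⟩ := Finite.surjective_of_injective
    (f := fun w : Z => (⟨η w, h w w.2⟩ : Z))
    (fun a b hab => Subtype.ext (η.injective (congrArg Subtype.val hab))) ⟨z, hz⟩
  rw [← show η w = z from congrArg Subtype.val e, MulAut.inv_apply_self]
  exact hw

theorem aut_eq_one_of_fix {Z : Subgroup E} (hZ : Z.index = p) {q : MulAut E}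
    (hqZ : ∀ z ∈ Z, q z = z) {x : E} (hx : x ∉ Z) (hqx : q x = x) : q = 1 := by
  refine MulEquiv.ext fun y => ?_
  obtain ⟨i, hi⟩ := exists_pow_div_mem hZ hx y
  have := hqZ _ hi
  rwa [map_mul, map_inv, map_pow, hqx, mul_left_inj] at this

theorem diff_eq_pow {Z : Subgroup E} (hZ : Z.index = p) {e : E} (he : e ∉ Z) (q : MulAut E)
    (hqZ : ∀ z ∈ Z, q z = z) (x : E) : ∃ i : ℕ, x⁻¹ * q x = (e⁻¹ * q e) ^ i := by
  obtain ⟨i, hi⟩ := exists_pow_div_mem hZ he x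
  refine ⟨i, ?_⟩
  have h := hqZ _ hi
  rw [map_mul, map_inv, map_pow] at h
  have h' : q x = x * (e ^ i)⁻¹ * q e ^ i := by rw [← h, inv_mul_cancel_right]
  rw [h', mul_pow, inv_pow, mul_assoc x, inv_mul_cancel_left]

/-- Two automorphisms stabilizing the same series are conjugate into `Q` together. -/
theorem exists_conj_pair (N : NData p G Q) {T W : Subgroup E} {u v : MulAut E}
    (hu : u ∈ seriesStab G T W) (hv : v ∈ seriesStab G T W) :
    ∃ δ ∈ G, δ * u * δ⁻¹ ∈ Q ∧ δ * v * δ⁻¹ ∈ Q := by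
  obtain ⟨δ, hδ, h⟩ := N.conj (seriesStab G T W) (fun k hk => hk.1)
    (seriesStab_isPGroup (fun a _ => N.expo a) fun b _ => N.expo b)
  exact ⟨δ, hδ, h u hu, h v hv⟩

/-- A centre of index `p` is invariant. -/
theorem invariant_of_index (N : NData p G Q) {Z : Subgroup E} (hZi : Z.index = p)
    (hZc : Nat.card Z = p * p) (hfix : ∀ q ∈ Q, ∀ z ∈ Z, q z = z)
    (hmov : ∀ q ∈ Q, ∀ x, x⁻¹ * q x ∈ Z) {γ : MulAut E} (hγ : γ ∈ G) {z : E} (hz : z ∈ Z) :
    γ z ∈ Z := by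
  haveI : Finite Q := Finite.of_injective (fun q : Q => ((q : MulAut E) : E → E))
    fun a b h => Subtype.ext (DFunLike.coe_injective h)
  obtain ⟨e, he⟩ : ∃ e, e ∉ Z := by
    by_contra h
    push Not at h
    rw [show Z = ⊤ from eq_top_iff.2 fun x _ => h x, Subgroup.index_top] at hZi
    exact hp.out.one_lt.ne hZi
  have hfull : ∀ c ∈ Z, ∃ q ∈ Q, e⁻¹ * q e = c := by
    have hinj : Function.Injective fun q : Q => (⟨e⁻¹ * (q : MulAut E) e, hmov q q.2 e⟩ : Z) := by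
      intro a b h
      have h1 : (a : MulAut E) e = (b : MulAut E) e := mul_left_cancel (congrArg Subtype.val h)
      refine Subtype.ext (inv_mul_eq_one.1 (aut_eq_one_of_fix hZi
        (fun w hw => hfix _ (Q.mul_mem (Q.inv_mem a.2) b.2) w hw) he ?_))
      rw [MulAut.mul_apply, ← h1, MulAut.inv_apply_self]
    have hbij := (Nat.bijective_iff_injective_and_card _).2 ⟨hinj, by rw [N.card, hZc]⟩
    intro c hc
    obtain ⟨q, hq⟩ := hbij.2 ⟨c, hc⟩
    exact ⟨q, q.2, congrArg Subtype.val hq⟩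
  let H : Subgroup E := Z.comap (γ⁻¹ : MulAut E).toMonoidHom
  have hHi : H.index = p := by
    rw [← hZi]
    exact Subgroup.index_comap_of_surjective _ (γ⁻¹ : MulAut E).surjective
  obtain ⟨c, hc, hcH, hc1⟩ : ∃ c ∈ Z, γ⁻¹ c ∈ Z ∧ c ≠ 1 := by
    have hnot : ¬ Function.Injective fun w : Z => (QuotientGroup.mk (w : E) : E ⧸ H) := fun hinj => by
      have := Nat.card_le_card_of_injective _ hinj
      rw [← Subgroup.index_eq_card, hHi, hZc] at this
      have := hp.out.one_lt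
      nlinarith
    simp only [Function.Injective, not_forall] at hnot
    obtain ⟨a, b, hab, hne⟩ := hnot
    exact ⟨(a : E)⁻¹ * b, Z.mul_mem (Z.inv_mem a.2) b.2, QuotientGroup.eq.1 hab,
      fun h => hne (Subtype.ext (inv_mul_eq_one.1 h))⟩
  obtain ⟨u, hu, hue⟩ := hfull c hc
  obtain ⟨τ, hτ, hτe⟩ := hfull _ hcH
  have hu1 : u ≠ 1 := fun h => hc1 (by rw [← hue, h]; simp)
  have hτ1 : τ ≠ 1 := fun h => hc1 (by
    have : γ⁻¹ c = 1 := by rw [← hτe, h]; simp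
    rw [← MulAut.apply_inv_self E γ c, this, map_one])
  set v := γ * τ * γ⁻¹ with hv
  have hmu : ∀ x, x⁻¹ * u x ∈ Subgroup.zpowers c := fun x => by
    obtain ⟨i, hi⟩ := diff_eq_pow hZi he u (hfix u hu) x
    rw [hi, hue]
    exact Subgroup.npow_mem_zpowers c i
  have hmv : ∀ x, x⁻¹ * v x ∈ Subgroup.zpowers c := fun x => by
    obtain ⟨i, hi⟩ := diff_eq_pow hZi he τ (hfix τ hτ) (γ⁻¹ x)
    rw [hτe] at hi
    have h := congrArg γ hi
    rw [map_mul, map_inv, map_pow, MulAut.apply_inv_self, MulAut.apply_inv_self] at h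
    rw [show x⁻¹ * v x = c ^ i by rw [← h]; rfl]
    exact Subgroup.npow_mem_zpowers c i
  have hfc : ∀ {q : MulAut E}, q c = c → ∀ a ∈ Subgroup.zpowers c, q a = a := by
    rintro q hq _ ⟨i, rfl⟩
    show q (c ^ i) = c ^ i
    rw [map_zpow, hq]
  have hvc : v c = c := by
    rw [hv, MulAut.mul_apply, MulAut.mul_apply, hfix τ hτ _ hcH, MulAut.apply_inv_self]
  obtain ⟨δ, -, hδu, hδv⟩ := exists_conj_pair N (T := Subgroup.zpowers c) (W := Subgroup.zpowers c)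
    (u := u) (v := v) ⟨N.le hu, hfc (hfix u hu c hc), fun b _ => hmu b, hmu⟩
    ⟨G.mul_mem (G.mul_mem hγ (N.le hτ)) (G.inv_mem hγ), hfc hvc, fun b _ => hmv b, hmv⟩
  have key : ∀ {q : MulAut E}, q ∈ Q → q ≠ 1 → ∀ {x}, q x = x → x ∈ Z := fun {q} hq hq1 {x} hqx => by
    by_contra hx
    exact hq1 (aut_eq_one_of_fix hZi (hfix q hq) hx hqx)
  have hδZ : ∀ w ∈ Z, δ⁻¹ w ∈ Z := fun w hw => key hu hu1 (δ.injective (by
    rw [MulAut.apply_inv_self]
    exact hfix _ hδu w hw))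
  have hγZ : ∀ w ∈ Z, γ⁻¹ w ∈ Z := fun w hw => key hτ hτ1 (γ.injective (δ.injective (by
    have hwZ : δ w ∈ Z := by
      have := stable_inv hδZ hw
      rwa [inv_inv] at this
    have h := hfix _ hδv _ hwZ
    rw [MulAut.mul_apply, MulAut.mul_apply, MulAut.inv_apply_self] at h
    rw [MulAut.apply_inv_self]
    exact h)))
  have := stable_inv hγZ hz
  rwa [inv_inv] at this

/-- A centre of order `p` is invariant. -/
theorem invariant_of_card (N : NData p G Q) {Z A : Subgroup E} (hZA : Z ≤ A) (hZ : Nat.card Z = p)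
    (hAi : A.index = p) (hAc : Nat.card A = p * p) (hfix : ∀ q ∈ Q, ∀ z ∈ Z, q z = z)
    (h1 : ∀ q ∈ Q, ∀ x, x⁻¹ * q x ∈ A) (h2 : ∀ q ∈ Q, ∀ a ∈ A, a⁻¹ * q a ∈ Z)
    (hFZ : ∀ x, (∀ q ∈ Q, q x = x) → x ∈ Z) {γ : MulAut E} (hγ : γ ∈ G) {z' : E} (hz' : z' ∈ Z) :
    γ z' ∈ Z := by
  haveI : Finite Q := Finite.of_injective (fun q : Q => ((q : MulAut E) : E → E))
    fun a b h => Subtype.ext (DFunLike.coe_injective h)
  haveI : IsMulCommutative Q :=
    IsPGroup.isMulCommutative_of_card_eq_prime_sq (p := p) (by rw [N.card, pow_two])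
  have hQc : ∀ q ∈ Q, ∀ r ∈ Q, ∀ x, q (r x) = r (q x) := fun q hq r hr x => by
    have h := congrArg Subtype.val ((IsMulCommutative.is_comm (M := Q)).comm ⟨q, hq⟩ ⟨r, hr⟩)
    exact congrArg (fun f : MulAut E => f x) h
  have hZne : Z ≠ ⊥ := fun h => by
    rw [h, Subgroup.card_bot] at hZ
    exact hp.out.one_lt.ne hZ
  obtain ⟨z, hz, hz1⟩ := (Subgroup.bot_or_exists_ne_one Z).resolve_left hZne
  have hgen : ∀ {a b : E}, a ∈ Z → a ≠ 1 → b ∈ Z → b ∈ Subgroup.zpowers a := fun ha ha1 hb => by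
    obtain ⟨i, rfl⟩ := exists_pow_eq hZ ha ha1 hb
    exact Subgroup.npow_mem_zpowers _ i
  -- centres of elements of `Q` lie in `Z`
  have CZ : ∀ q ∈ Q, q ≠ 1 → ∀ w, (∀ x, x⁻¹ * q x ∈ Subgroup.zpowers w) → w ∈ Z := by
    intro q hq hq1 w hw
    obtain ⟨x, hx⟩ : ∃ x, x⁻¹ * q x ≠ 1 := by
      by_contra h
      push Not at h
      exact hq1 (MulEquiv.ext fun x => (inv_mul_eq_one.1 (h x)).symm)
    set a := x⁻¹ * q x with ha
    suffices haZ : a ∈ Z from
      (Subgroup.zpowers_le.2 haZ : Subgroup.zpowers a ≤ Z) (mem_zpowers_of_mem N.expo (hw x) hx)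
    have hmv : ∀ r ∈ Q, a⁻¹ * r a ∈ Subgroup.zpowers w := fun r hr => by
      refine (Subgroup.zpowers w).mul_mem (Subgroup.inv_mem _ (hw x)) ?_
      rw [ha, map_mul, map_inv, ← hQc q hq r hr x]
      exact hw (r x)
    by_contra haZ
    refine haZ (hFZ a fun r hr => ?_)
    by_contra hra
    have hne : a⁻¹ * r a ≠ 1 := fun h => hra (inv_mul_eq_one.1 h).symm
    have hb : a ∈ Subgroup.zpowers (a⁻¹ * r a) :=
      (Subgroup.zpowers_le.2 (mem_zpowers_of_mem N.expo (hmv r hr) hne) :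
        Subgroup.zpowers w ≤ Subgroup.zpowers (a⁻¹ * r a)) (hw x)
    by_cases haA : a ∈ A
    · exact haZ ((Subgroup.zpowers_le.2 (h2 r hr a haA) :
        Subgroup.zpowers (a⁻¹ * r a) ≤ Z) hb)
    · exact haA ((Subgroup.zpowers_le.2 (h1 r hr a) : Subgroup.zpowers (a⁻¹ * r a) ≤ A) hb)
  -- the key: a transvection fixing an image of `z`
  have star : ∀ u ∈ Q, u ≠ 1 → (∀ x, x⁻¹ * u x ∈ Z) → ∀ η ∈ G, u (η z) = η z → η z ∈ Z := by
    intro u hu hu1 hum η hη hfixη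
    set v := η * u * η⁻¹ with hv
    have hmv : ∀ x, x⁻¹ * v x ∈ Subgroup.zpowers (η z) := fun x => by
      obtain ⟨i, hi⟩ := exists_pow_eq hZ hz hz1 (hum (η⁻¹ x))
      rw [show x⁻¹ * v x = η ((η⁻¹ x)⁻¹ * u (η⁻¹ x)) by
        rw [map_mul, map_inv, MulAut.apply_inv_self]; rfl, ← hi, map_pow]
      exact Subgroup.npow_mem_zpowers _ i
    have hfT : ∀ {q : MulAut E}, q (η z) = η z → ∀ a ∈ Subgroup.zpowers (η z), q a = a := by
      rintro q hq _ ⟨i, rfl⟩
      show q ((η z) ^ i) = (η z) ^ i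
      rw [map_zpow, hq]
    have hvz : v (η z) = η z := by
      rw [hv, MulAut.mul_apply, MulAut.mul_apply, MulAut.inv_apply_self, hfix u hu z hz]
    obtain ⟨δ, -, hδu, hδv⟩ := exists_conj_pair N (T := Subgroup.zpowers (η z))
      (W := Z ⊔ Subgroup.zpowers (η z)) (u := u) (v := v)
      ⟨N.le hu, hfT hfixη, fun b hb => by
          obtain ⟨a, ha, c, hc, rfl⟩ := Subgroup.mem_sup.1 hb
          rw [map_mul, hfix u hu a ha, hfT hfixη c hc, inv_mul_cancel]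
          exact one_mem _,
        fun x => Subgroup.mem_sup_left (hum x)⟩
      ⟨G.mul_mem (G.mul_mem hη (N.le hu)) (G.inv_mem hη), hfT hvz, fun b _ => hmv b,
        fun x => Subgroup.mem_sup_right (hmv x)⟩
    have hv1 : v ≠ 1 := fun h => hu1 (by
      have h' : u = η⁻¹ * v * η := by rw [hv]; group
      rw [h', h, mul_one, inv_mul_cancel])
    have hmove : ∀ (q : MulAut E) (w : E), (∀ x, x⁻¹ * q x ∈ Subgroup.zpowers w) → ∀ x,
        x⁻¹ * (δ * q * δ⁻¹) x ∈ Subgroup.zpowers (δ w) := fun q w hqw x => by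
      obtain ⟨i, hi⟩ := hqw (δ⁻¹ x)
      rw [show x⁻¹ * (δ * q * δ⁻¹) x = δ ((δ⁻¹ x)⁻¹ * q (δ⁻¹ x)) by
        rw [map_mul, map_inv, MulAut.apply_inv_self]; rfl, ← hi]
      exact ⟨i, (map_zpow δ w i).symm⟩
    have hδz : δ z ∈ Z := CZ _ hδu (fun h => hu1 (by
      rw [← mul_inv_cancel δ, mul_left_inj, mul_eq_left] at h
      exact h)) _ (hmove u z fun x => hgen hz hz1 (hum x))
    have hδηz : δ (η z) ∈ Z := CZ _ hδv (fun h => hv1 (by
      rw [← mul_inv_cancel δ, mul_left_inj, mul_eq_left] at h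
      exact h)) _ (hmove v _ hmv)
    obtain ⟨i, hi⟩ := exists_pow_eq hZ hδz (fun h => hz1 (δ.injective (by rw [h, map_one]))) hδηz
    rw [← map_pow] at hi
    rw [← δ.injective hi]
    exact Z.pow_mem hz i
  -- an element of `Q` fixing `A`
  have hAne : ∃ a ∈ A, a ∉ Z := by
    by_contra h
    push Not at h
    have := Subgroup.card_le_of_le (show A ≤ Z from h)
    rw [hAc, hZ] at this
    have := hp.out.one_lt
    nlinarith
  obtain ⟨a₀, ha₀, ha₀Z⟩ := hAne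
  have hcollide : ∀ x : E, (∀ q ∈ Q, x⁻¹ * q x ∈ Z) → ∃ q ∈ Q, q ≠ 1 ∧ q x = x := by
    intro x hx
    have hnot : ¬ Function.Injective fun q : Q => (⟨x⁻¹ * (q : MulAut E) x, hx q q.2⟩ : Z) :=
      fun hinj => by
        have := Nat.card_le_card_of_injective _ hinj
        rw [N.card, hZ] at this
        have := hp.out.one_lt
        nlinarith
    simp only [Function.Injective, not_forall] at hnot
    obtain ⟨a, b, hab, hne⟩ := hnot
    refine ⟨(a : MulAut E)⁻¹ * b, Q.mul_mem (Q.inv_mem a.2) b.2,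
      fun h => hne (Subtype.ext (inv_mul_eq_one.1 h)), ?_⟩
    have h1 : (a : MulAut E) x = (b : MulAut E) x := mul_left_cancel (congrArg Subtype.val hab)
    rw [MulAut.mul_apply, ← h1, MulAut.inv_apply_self]
  have hAdec : ∀ a ∈ A, ∃ i : ℕ, a * (a₀ ^ i)⁻¹ ∈ Z := by
    intro a ha
    have hi : (Z.subgroupOf A).index = p := by
      have h := Subgroup.card_mul_index (Z.subgroupOf A)
      rw [Nat.card_congr (Subgroup.subgroupOfEquivOfLe hZA).toEquiv, hZ, hAc] at h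
      exact Nat.eq_of_mul_eq_mul_left hp.out.pos h
    obtain ⟨i, hi'⟩ := exists_pow_div_mem hi (a := (⟨a₀, ha₀⟩ : A)) ha₀Z ⟨a, ha⟩
    exact ⟨i, hi'⟩
  obtain ⟨τ, hτ, hτ1, hτa⟩ := hcollide a₀ fun q hq => h2 q hq a₀ ha₀
  have hτA : ∀ a ∈ A, τ a = a := fun a ha => by
    obtain ⟨i, hi⟩ := hAdec a ha
    have := hfix τ hτ _ hi
    rwa [map_mul, map_inv, map_pow, hτa, mul_left_inj] at this
  obtain ⟨y₀, hy₀⟩ : ∃ y, y ∉ A := by
    by_contra h
    push Not at h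
    rw [show A = ⊤ from eq_top_iff.2 fun x _ => h x, Subgroup.index_top] at hAi
    exact hp.out.one_lt.ne hAi
  have hτm : ∀ x, x⁻¹ * τ x ∈ Z := fun x => by
    have hw : ∀ x, x⁻¹ * τ x ∈ Subgroup.zpowers (y₀⁻¹ * τ y₀) := fun x => by
      obtain ⟨i, hi⟩ := diff_eq_pow hAi hy₀ τ hτA x
      rw [hi]
      exact Subgroup.npow_mem_zpowers _ i
    exact (Subgroup.zpowers_le.2 (CZ τ hτ hτ1 _ hw) : _ ≤ Z) (hw x)
  suffices hγz : γ z ∈ Z by
    obtain ⟨i, rfl⟩ := exists_pow_eq hZ hz hz1 hz'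
    rw [map_pow]
    exact Z.pow_mem hγz i
  by_contra hy
  set y := γ z with hydef
  have hyA : y ∉ A := fun h => hy (star τ hτ hτ1 hτm γ hγ (hτA y h))
  obtain ⟨ρ, hρ, ha⟩ : ∃ ρ ∈ Q, y⁻¹ * ρ y ∉ Z := by
    by_contra h
    push Not at h
    obtain ⟨q, hq, hq1, hqy⟩ := hcollide y h
    refine hy (star q hq hq1 (fun x => ?_) γ hγ hqy)
    obtain ⟨i, hi⟩ := exists_pow_div_mem hAi hyA x
    have h' := h2 q hq _ hi
    rw [map_mul, map_inv, map_pow, hqy] at h'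
    rw [show x⁻¹ * q x = (x * (y ^ i)⁻¹)⁻¹ * (q x * (y ^ i)⁻¹) by
      rw [mul_inv_rev, inv_inv, mul_assoc, mul_left_comm (x⁻¹) (q x), mul_left_comm (y ^ i)]
      rw [mul_left_comm (y ^ i) x⁻¹, mul_inv_cancel, mul_one, mul_comm]]
    exact h'
  obtain ⟨d, hd, hdy⟩ : ∃ d ∈ Z, y⁻¹ * τ y = d := ⟨_, hτm y, rfl⟩
  have hd1 : d ≠ 1 := fun h => hy (star τ hτ hτ1 hτm γ hγ (inv_mul_eq_one.1 (hdy.trans h)).symm)
  set η₀ := ρ * γ with hη₀
  have hη₀G : η₀ ∈ G := G.mul_mem (N.le hρ) hγ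
  have hη₀z : η₀ z = ρ y := rfl
  by_cases hzA : η₀⁻¹ z ∈ A
  · have h := star τ hτ hτ1 hτm η₀⁻¹ (G.inv_mem hη₀G) (hτA _ hzA)
    obtain ⟨j, hj⟩ := exists_pow_eq hZ hz hz1 h
    have hz2 : (ρ y) ^ j = z := by
      rw [← hη₀z, ← map_pow, hj, MulAut.apply_inv_self]
    have hρy : ρ y ∈ Z := (Subgroup.zpowers_le.2 hz : Subgroup.zpowers z ≤ Z)
      (mem_zpowers_of_mem N.expo (hz2 ▸ Subgroup.npow_mem_zpowers (ρ y) j) hz1)
    exact hy (ρ.injective (hfix ρ hρ _ hρy).symm ▸ hρy)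
  · have hwA : η₀⁻¹ d ∉ A := fun h => hzA (by
      obtain ⟨j, hj⟩ := exists_pow_eq hZ hd hd1 hz
      rw [← hj, map_pow]
      exact A.pow_mem h j)
    obtain ⟨i, hi⟩ := exists_pow_div_mem hAi (a := (η₀⁻¹ d)⁻¹) (fun h => hwA (inv_mem_iff.1 h))
      (η₀⁻¹ y)
    rw [inv_pow, inv_inv, ← map_pow, ← map_mul] at hi
    have hτy : (τ ^ i) y = y * d ^ i := by
      rw [pow_apply_of_fix τ (hfix τ hτ _ (hτm y)) i, hdy]
    have hη : (η₀⁻¹ * τ ^ i * γ) z = η₀⁻¹ (y * d ^ i) := by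
      rw [MulAut.mul_apply, MulAut.mul_apply, ← hydef, hτy]
    have h := star τ hτ hτ1 hτm (η₀⁻¹ * τ ^ i * γ)
      (G.mul_mem (G.mul_mem (G.inv_mem hη₀G) (G.pow_mem (N.le hτ) i)) hγ)
      (by rw [hη]; exact hτA _ hi)
    rw [hη] at h
    obtain ⟨j₀, hj₀⟩ := exists_pow_eq hZ hz hz1 h
    obtain ⟨j, hjp, hj⟩ : ∃ j < p, z ^ j = η₀⁻¹ (y * d ^ i) :=
      ⟨j₀ % p, Nat.mod_lt _ hp.out.pos, by rw [← hj₀, ← pow_eq_pow_mod j₀ (N.expo z)]⟩
    have hj2 : (ρ y) ^ j = y * d ^ i := by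
      rw [← hη₀z, ← map_pow, hj, MulAut.apply_inv_self]
    obtain ⟨a, haA, hay⟩ : ∃ a ∈ A, ρ y = y * a :=
      ⟨_, h1 ρ hρ y, (mul_inv_cancel_left y (ρ y)).symm⟩
    rw [hay, mul_pow] at hj2
    have haZ : a ∉ Z := by rwa [hay, inv_mul_cancel_left] at ha
    match j with
    | 0 =>
      rw [pow_zero, pow_zero, one_mul] at hj2
      exact hy (by rw [eq_inv_of_mul_eq_one_left hj2.symm]; exact Z.inv_mem (Z.pow_mem hd i))
    | 1 =>
      rw [pow_one, pow_one] at hj2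
      exact haZ (mul_left_cancel hj2 ▸ Z.pow_mem hd i)
    | k + 2 =>
      have hyk : y ^ (k + 1) ∈ A := by
        rw [pow_succ' y (k + 1), mul_assoc] at hj2
        rw [eq_mul_inv_of_mul_eq (mul_left_cancel hj2)]
        exact A.mul_mem (A.pow_mem (hZA hd) i) (A.inv_mem (A.pow_mem haA _))
      have hy1 : y ≠ 1 := fun h => hy (by rw [h]; exact Z.one_mem)
      have hne : y ^ (k + 1) ≠ 1 := pow_ne_one_of_lt_orderOf (Nat.succ_ne_zero k)
        (by rw [orderOf_eq_prime (N.expo y) hy1]; omega)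
      exact hyA ((Subgroup.zpowers_le.2 hyk : Subgroup.zpowers (y ^ (k + 1)) ≤ A)
        (mem_zpowers_of_mem N.expo (Subgroup.npow_mem_zpowers y (k + 1)) hne))

end Abstract

variable {Ω : Type u} [Group Ω] {p : ℕ} [hp : Fact p.Prime] {S : Subgroup Ω} [Finite S]
  {F : FusionSystem S}

/-- A normal elementary abelian essential subgroup of order `p ^ 3` keeps the centre invariant. -/
theorem normal_invariant (hS : IsPGroup p S) (hF : F.IsSaturated p) (hcard : Nat.card S = p ^ 5)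
    {E : Subgroup Ω} (hE : F.IsEssential p E) (hab : ∀ x ∈ E, ∀ y ∈ E, Commute x y)
    (hexp : ∀ x ∈ E, x ^ p = 1) (hEc : Nat.card E = p ^ 3) (hEn : Nml S E)
    (hZ : Nat.card (Zs S) = p ∨ Nat.card (Zs S) = p ^ 2) :
    ∀ α ∈ F.autGroup E, Inv α (Zs S) := by
  have hES := hE.1.1
  haveI := finite_of_le hES
  haveI := finite_autGroup F hES
  haveI := finite_mulAut_of_le (S := S) hES
  letI : CommGroup ↥E :=
    { (inferInstance : Group ↥E) with mul_comm := fun a b => Subtype.ext (hab a a.2 b b.2) }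
  have hC : centralizerIn S E = E :=
    le_antisymm (centralizerIn_le_of_isCentric hE.1)
      fun x hx => mem_centralizerIn.2 ⟨hES hx, fun y hy => hab y hy x hx⟩
  have hZE : Zs S ≤ E := fun z hz => hC.le (mem_centralizerIn.2
    ⟨Zs_le hz, fun y hy => (mem_Zs.1 hz).2 y (hES hy)⟩)
  have hn := hEn.le_normalizer hES
  have hN : normalizerIn S E = S := inf_eq_left.2 hn
  have hQcard : Nat.card (autInducedBy S E) = p * p := by
    have h := card_normalizerIn S E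
    rw [hN, hC, hcard, hEc, show p ^ 5 = p * p * p ^ 3 by ring] at h
    exact (Nat.eq_of_mul_eq_mul_right (pow_pos hp.out.pos 3) h).symm
  have N : NData p (F.autGroup E) (autInducedBy S E) := by
    refine ⟨fun x => Subtype.ext (hexp x x.2), autInducedBy_le_autGroup F hES, hQcard, ?_⟩
    intro K hK hKp
    obtain ⟨-, R, hR⟩ := isFullyAutomized_of_isFullyNormalized hS hF hE.2.1
    obtain ⟨P, hP⟩ := (hKp.of_equiv (Subgroup.subgroupOfEquivOfLe hK).symm).exists_le_sylow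
    obtain ⟨δ, hδ⟩ := MulAction.exists_smul_eq (F.autGroup E) P R
    refine ⟨δ, δ.2, fun k hk => ?_⟩
    have h1 : MulAut.conj δ ⟨k, hK hk⟩ ∈ ((δ • P : Sylow p (F.autGroup E)) : Subgroup _) :=
      Subgroup.mem_map_of_mem (MulAut.conj δ).toMonoidHom (hP (x := ⟨k, hK hk⟩) hk)
    rw [hδ, hR] at h1
    exact Subgroup.mem_subgroupOf.1 h1
  have hQ : ∀ q ∈ autInducedBy S E, ∃ g ∈ S, ∀ x : ↥E, (q x : Ω) = g * x * g⁻¹ := fun q hq => by
    obtain ⟨g, hg, hgn, rfl⟩ := mem_autInducedBy.1 hq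
    exact ⟨g, hg, fun x => rfl⟩
  have hfix : ∀ q ∈ autInducedBy S E, ∀ z ∈ (Zs S).subgroupOf E, q z = z := fun q hq z hz => by
    obtain ⟨g, hg, he⟩ := hQ q hq
    refine Subtype.ext ((he z).trans ?_)
    exact mul_inv_eq_iff_eq_mul.2 ((mem_Zs.1 (Subgroup.mem_subgroupOf.1 hz)).2 g hg)
  have hZc : Nat.card ((Zs S).subgroupOf E) = Nat.card (Zs S) :=
    Nat.card_congr (Subgroup.subgroupOfEquivOfLe hZE).toEquiv
  intro α hα x hx
  rw [autMap_apply α (hZE hx)]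
  rcases hZ with hZ | hZ
  · obtain ⟨A, hAn, hZA, hAE, hA⟩ := exists_step hS Zs_nml hEn hES
      (lt_of_le_of_ne hZE fun e => by
        rw [e, hEc] at hZ
        exact absurd (Nat.pow_right_injective hp.out.two_le (hZ.trans (pow_one p).symm)) (by omega))
    rw [hZ] at hA
    refine invariant_of_card (p := p) N (Z := (Zs S).subgroupOf E) (A := A.subgroupOf E)
      (Subgroup.comap_mono hZA) (hZc.trans hZ) ?_ ?_ hfix (fun q hq y => ?_) (fun q hq a ha => ?_)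
      (fun y hy => ?_) hα (z' := ⟨x, hZE hx⟩) hx
    · have h := Subgroup.card_mul_index (A.subgroupOf E)
      rw [Nat.card_congr (Subgroup.subgroupOfEquivOfLe hAE).toEquiv, hA, hEc,
        show p ^ 3 = p * p * p by ring] at h
      exact Nat.eq_of_mul_eq_mul_left (Nat.mul_pos hp.out.pos hp.out.pos) h
    · rw [Nat.card_congr (Subgroup.subgroupOfEquivOfLe hAE).toEquiv, hA]
    · obtain ⟨g, hg, he⟩ := hQ q hq
      show (y : Ω)⁻¹ * (q y : Ω) ∈ A
      rw [he]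
      exact conj_div_mem hS hAE hES hAn hEn (by rw [hEc, hA]; ring) hg y.2
    · obtain ⟨g, hg, he⟩ := hQ q hq
      show (a : Ω)⁻¹ * (q a : Ω) ∈ Zs S
      rw [he]
      exact conj_div_mem hS hZA (hAE.trans hES) Zs_nml hAn (by rw [hA, hZ]) hg ha
    · refine mem_Zs.2 ⟨hES y.2, fun g hg => ?_⟩
      exact mul_inv_eq_iff_eq_mul.1 (congrArg Subtype.val
        (hy _ (mem_autInducedBy.2 ⟨g, hg, hn hg, rfl⟩)))
  · refine invariant_of_index (p := p) N (Z := (Zs S).subgroupOf E) ?_ (by rw [hZc, hZ, pow_two]) hfix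
      (fun q hq y => ?_) hα (z := ⟨x, hZE hx⟩) hx
    · have h := Subgroup.card_mul_index ((Zs S).subgroupOf E)
      rw [hZc, hZ, hEc, show p ^ 3 = p ^ 2 * p by ring] at h
      exact Nat.eq_of_mul_eq_mul_left (pow_pos hp.out.pos 2) h
    · obtain ⟨g, hg, he⟩ := hQ q hq
      show (y : Ω)⁻¹ * (q y : Ω) ∈ Zs S
      rw [he]
      exact conj_div_mem hS hZE hES Zs_nml hEn (by rw [hEc, hZ]; ring) hg y.2

end Cfsg.Agent.Cores.FusFive
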