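import Cfsg.Agent.Cores.FusFive.Basic
import Cfsg.Agent.FusionSys.Centric

/-!
Small tools for subgroups of a finite `p`-group inside an ambient group.
-/

set_option autoImplicit false
set_option linter.unusedSectionVars false
set_option linter.style.haveILetI false

namespace Cfsg.Agent.Cores.FusFive

open Cfsg Cfsg.FusionSystem Cfsg.Agent.FusionSys
open scoped commutatorElement

universe u

variable {Ω : Type u} [Group Ω] {p : ℕ} [hp : Fact p.Prime] {S : Subgroup Ω} [Finite S]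

/-- `H` is invariant under conjugation by `S`. -/
def Nml (S H : Subgroup Ω) : Prop := ∀ g ∈ S, ∀ x ∈ H, g * x * g⁻¹ ∈ H

/-- The centre of `S`. -/
def Zs (S : Subgroup Ω) : Subgroup Ω := centralizerIn S S

theorem mem_Zs {x : Ω} : x ∈ Zs S ↔ x ∈ S ∧ ∀ y ∈ S, y * x = x * y := mem_centralizerIn

theorem Zs_le : Zs S ≤ S := centralizerIn_le

theorem Zs_nml : Nml S (Zs S) := fun g hg x hx => by
  rwa [(mem_Zs.1 hx).2 g hg, mul_inv_cancel_right]

theorem comm_Zs {x y : Ω} (hx : x ∈ Zs S) (hy : y ∈ S) : Commute x y := ((mem_Zs.1 hx).2 y hy).symm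

theorem Nml.le_normalizer {H : Subgroup Ω} (h : Nml S H) (hH : H ≤ S) :
    S ≤ Subgroup.normalizer (H : Set Ω) := fun g hg =>
  haveI := finite_of_le hH
  mem_normalizer_of_maps (h g hg)

theorem nml_self : Nml S S := fun _ hg _ hx => S.mul_mem (S.mul_mem hg hx) (S.inv_mem hg)

theorem nml_bot : Nml S (⊥ : Subgroup Ω) := fun g _ x hx => by
  rw [Subgroup.mem_bot.1 hx]; simp

theorem Nml.inf {A B : Subgroup Ω} (hA : Nml S A) (hB : Nml S B) : Nml S (A ⊓ B) :=
  fun g hg x hx => ⟨hA g hg x hx.1, hB g hg x hx.2⟩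

theorem Nml.sup {A B : Subgroup Ω} (hA : Nml S A) (hB : Nml S B) : Nml S (A ⊔ B) := fun g hg x hx => by
  have hle : A ⊔ B ≤ (A ⊔ B).comap (MulAut.conj g).toMonoidHom :=
    sup_le (fun a ha => Subgroup.mem_sup_left (hA g hg a ha))
      fun b hb => Subgroup.mem_sup_right (hB g hg b hb)
  exact hle hx

theorem Nml.commutator {A B : Subgroup Ω} (hA : Nml S A) (hB : Nml S B) : Nml S ⁅A, B⁆ :=
  fun g hg x hx => by
  have hle : ⁅A, B⁆ ≤ ⁅A, B⁆.comap (MulAut.conj g).toMonoidHom := by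
    refine Subgroup.commutator_le.2 fun a ha b hb => ?_
    show (MulAut.conj g) ⁅a, b⁆ ∈ ⁅A, B⁆
    rw [map_commutatorElement]
    exact Subgroup.commutator_mem_commutator (hA g hg a ha) (hB g hg b hb)
  exact hle hx

theorem eq_of_card {H K : Subgroup Ω} (hKS : K ≤ S) (hHK : H ≤ K) (h : Nat.card K ≤ Nat.card H) :
    H = K :=
  haveI := finite_of_le hKS
  Subgroup.eq_of_le_of_card_ge hHK h

theorem exists_card_eq (hS : IsPGroup p S) {H : Subgroup Ω} (hH : H ≤ S) :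
    ∃ i, Nat.card H = p ^ i :=
  haveI := finite_of_le hH
  IsPGroup.iff_card.1 (hS.to_le hH)

theorem mul_card_le (hS : IsPGroup p S) {A B : Subgroup Ω} (hB : B ≤ S) (h : A < B) :
    p * Nat.card A ≤ Nat.card B := by
  haveI := finite_of_le hB
  haveI := finite_of_le (h.le.trans hB)
  obtain ⟨a, ha⟩ := exists_card_eq hS (h.le.trans hB)
  obtain ⟨b, hb⟩ := exists_card_eq hS hB
  have hlt : Nat.card A < Nat.card B := by
    by_contra hle
    exact h.ne (Subgroup.eq_of_le_of_card_ge h.le (not_lt.1 hle))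
  rw [ha, hb] at hlt ⊢
  rw [← pow_succ']
  exact Nat.pow_le_pow_right hp.out.pos ((Nat.pow_lt_pow_iff_right hp.out.one_lt).1 hlt)

theorem card_mul_eq (hS : IsPGroup p S) {A B : Subgroup Ω} (hB : B ≤ S) (h : A < B)
    (hle : Nat.card B ≤ p * Nat.card A) : Nat.card B = p * Nat.card A :=
  le_antisymm hle (mul_card_le hS hB h)

theorem eq_sup_zpowers (hS : IsPGroup p S) {A B : Subgroup Ω} (hB : B ≤ S) (hAB : A ≤ B)
    (hc : Nat.card B = p * Nat.card A) {b : Ω} (hb : b ∈ B) (hbA : b ∉ A) :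
    A ⊔ Subgroup.zpowers b = B := by
  have hsup : A ⊔ Subgroup.zpowers b ≤ B := sup_le hAB (Subgroup.zpowers_le.2 hb)
  have hlt : A < A ⊔ Subgroup.zpowers b := lt_of_le_of_ne le_sup_left fun e =>
    hbA (e.ge (Subgroup.mem_sup_right (Subgroup.mem_zpowers b)))
  exact eq_of_card hB hsup (hc.le.trans (mul_card_le hS (hsup.trans hB) hlt))

/-- A central subgroup of index `p` makes a group abelian. -/
theorem comm_of_central_step (hS : IsPGroup p S) {A B : Subgroup Ω} (hB : B ≤ S) (hAB : A ≤ B)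
    (hc : Nat.card B = p * Nat.card A) (hcen : ∀ a ∈ A, ∀ b ∈ B, Commute a b) :
    ∀ x ∈ B, ∀ y ∈ B, Commute x y := by
  obtain ⟨b, hb, hbA⟩ : ∃ b ∈ B, b ∉ A := by
    by_contra h
    push Not at h
    have e : A = B := le_antisymm hAB h
    rw [e] at hc
    haveI := finite_of_le hB
    have := hp.out.one_lt
    nlinarith [Nat.card_pos (α := B)]
  have he := eq_sup_zpowers hS hB hAB hc hb hbA
  have hbc : ∀ x ∈ B, Commute x b := by
    intro x hx
    have hle : A ⊔ Subgroup.zpowers b ≤ Subgroup.centralizer {b} := sup_le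
      (fun a ha => Subgroup.mem_centralizer_singleton_iff.2 (hcen a ha b hb).eq)
      (Subgroup.zpowers_le.2 (Subgroup.mem_centralizer_singleton_iff.2 rfl))
    exact Subgroup.mem_centralizer_singleton_iff.1 (hle (he.ge hx))
  intro x hx y hy
  have hle : A ⊔ Subgroup.zpowers b ≤ Subgroup.centralizer {y} := sup_le
    (fun a ha => Subgroup.mem_centralizer_singleton_iff.2 (hcen a ha y hy).eq)
    (Subgroup.zpowers_le.2 (Subgroup.mem_centralizer_singleton_iff.2 (hbc y hy).symm.eq))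
  exact Subgroup.mem_centralizer_singleton_iff.1 (hle (he.ge hx))

theorem comm_mem_of_step (hS : IsPGroup p S) {A B : Subgroup Ω} (hAB : A ≤ B) (hB : B ≤ S)
    (hA : Nml S A) (hBn : Nml S B) (hc : Nat.card B = p * Nat.card A) {b g : Ω} (hb : b ∈ B)
    (hg : g ∈ S) : ⁅b, g⁆ ∈ A ∧ ⁅g, b⁆ ∈ A := by
  have h := conj_div_mem hS hAB hB hA hBn hc hg hb
  have h2 : ⁅g, b⁆ ∈ A := by
    have := hA b (hB hb) _ h
    rwa [show b * (b⁻¹ * (g * b * g⁻¹)) * b⁻¹ = ⁅g, b⁆ by rw [commutatorElement_def]; group] at this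
  exact ⟨commutatorElement_inv g b ▸ A.inv_mem h2, h2⟩

theorem exists_step (hS : IsPGroup p S) {H K : Subgroup Ω} (hH : Nml S H) (hK : Nml S K)
    (hKS : K ≤ S) (h : H < K) :
    ∃ M, Nml S M ∧ H ≤ M ∧ M ≤ K ∧ Nat.card M = p * Nat.card H := by
  have hHS := h.le.trans hKS
  haveI : (H.subgroupOf S).Normal := ⟨fun a ha g => hH g g.2 a ha⟩
  haveI : (K.subgroupOf S).Normal := ⟨fun a ha g => hK g g.2 a ha⟩
  obtain ⟨M, hMn, h1, h2, h3⟩ := PGroups.exists_normal_card_mul hS (H.subgroupOf S) (K.subgroupOf S)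
    (lt_of_le_of_ne (Subgroup.comap_mono h.le) fun e => h.ne (by
      rwa [Subgroup.subgroupOf_inj, inf_eq_left.2 hHS, inf_eq_left.2 hKS] at e))
  refine ⟨M.map S.subtype, fun g hg x hx => ?_, fun x hx => ⟨⟨x, hHS hx⟩, h1 hx, rfl⟩, ?_, ?_⟩
  · obtain ⟨y, hy, rfl⟩ := hx
    exact ⟨⟨g, hg⟩ * y * ⟨g, hg⟩⁻¹, hMn.conj_mem y hy ⟨g, hg⟩, rfl⟩
  · rintro _ ⟨y, hy, rfl⟩
    exact h2 hy
  · rw [Subgroup.card_map_of_injective S.subtype_injective, h3,
      Nat.card_congr (Subgroup.subgroupOfEquivOfLe hHS).toEquiv]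

theorem le_Zs_of_card (hS : IsPGroup p S) {N : Subgroup Ω} (hN : Nml S N) (hNS : N ≤ S)
    (hc : Nat.card N = p) : N ≤ Zs S := fun x hx => mem_Zs.2 ⟨hNS hx, fun g hg => by
  have h := (comm_mem_of_step hS bot_le hNS nml_bot hN (by simp [hc]) hx hg).2
  exact (commutatorElement_eq_one_iff_commute.1 (Subgroup.mem_bot.1 h)).eq⟩

/-- A nontrivial normal subgroup meets the centre. -/
theorem exists_central_le (hS : IsPGroup p S) {N : Subgroup Ω} (hN : Nml S N) (hNS : N ≤ S)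
    (hne : N ≠ ⊥) : ∃ T : Subgroup Ω, Nat.card T = p ∧ T ≤ N ∧ T ≤ Zs S := by
  obtain ⟨T, hT, -, hTN, hc⟩ := exists_step hS nml_bot hN hNS (bot_lt_iff_ne_bot.2 hne)
  rw [Subgroup.card_bot, mul_one] at hc
  exact ⟨T, hc, hTN, le_Zs_of_card hS hT (hTN.trans hNS) hc⟩

/-- The commutators with `w` give a homomorphism into a central subgroup. -/
theorem card_le_mul_centralizer {K Z : Subgroup Ω} (hKS : K ≤ S) (hZS : Z ≤ S) {w : Ω}
    (hc : ∀ x ∈ K, ⁅x, w⁆ ∈ Z) (hcen : ∀ c ∈ Z, ∀ x ∈ K, Commute x c)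
    (hab : ∀ c ∈ Z, ∀ d ∈ Z, Commute c d) :
    Nat.card K ≤ Nat.card Z * Nat.card ↥(K ⊓ Subgroup.centralizer {w}) := by
  haveI := finite_of_le hKS
  haveI := finite_of_le hZS
  let ψ : K →* Z := MonoidHom.mk' (fun x => ⟨⁅(x : Ω), w⁆, hc x x.2⟩) fun x y => Subtype.ext (by
    show ⁅(x : Ω) * y, w⁆ = ⁅(x : Ω), w⁆ * ⁅(y : Ω), w⁆
    rw [show ⁅(x : Ω) * y, w⁆ = x * ⁅(y : Ω), w⁆ * (x : Ω)⁻¹ * ⁅(x : Ω), w⁆ by
      simp only [commutatorElement_def]; group, (hcen _ (hc y y.2) x x.2).eq, mul_inv_cancel_right,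
      (hab _ (hc y y.2) _ (hc x x.2)).eq])
  rw [Subgroup.card_eq_card_quotient_mul_card_subgroup ψ.ker]
  refine Nat.mul_le_mul ?_ ?_
  · rw [Nat.card_congr (QuotientGroup.quotientKerEquivRange ψ).toEquiv]
    exact Subgroup.card_le_card_group ψ.range
  · haveI := finite_of_le ((inf_le_left : K ⊓ Subgroup.centralizer {w} ≤ K).trans hKS)
    refine Nat.card_le_card_of_injective (fun x : ψ.ker => (⟨((x : K) : Ω), x.1.2,
      Subgroup.mem_centralizer_singleton_iff.2 (commutatorElement_eq_one_iff_commute.1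
        (congrArg Subtype.val (MonoidHom.mem_ker.1 x.2))).eq⟩ :
          ↥(K ⊓ Subgroup.centralizer {w}))) fun x y hxy => ?_
    exact Subtype.ext (Subtype.ext (congrArg (fun z : ↥(K ⊓ Subgroup.centralizer {w}) => (z : Ω)) hxy))

section More

/-- A subgroup of index `p` is normal. -/
theorem nml_of_card (hS : IsPGroup p S) {M : Subgroup Ω} (hM : M ≤ S)
    (hc : Nat.card S = p * Nat.card M) : Nml S M := by
  haveI := finite_of_le hM
  have hi : (M.subgroupOf S).index = p := by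
    have h := Subgroup.card_mul_index (M.subgroupOf S)
    rw [Nat.card_congr (Subgroup.subgroupOfEquivOfLe hM).toEquiv, hc, mul_comm p] at h
    exact Nat.eq_of_mul_eq_mul_left Nat.card_pos h
  haveI := PGroups.normal_of_index_eq hS hi
  exact fun g hg x hx => ‹(M.subgroupOf S).Normal›.conj_mem ⟨x, hM hx⟩ hx ⟨g, hg⟩

theorem Nml.centralizer {A B : Subgroup Ω} (hA : Nml S A) (hB : Nml S B) :
    Nml S (centralizerIn A B) := fun g hg x hx => by
  rw [mem_centralizerIn] at hx ⊢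
  refine ⟨hA g hg x hx.1, fun y hy => ?_⟩
  have h := hx.2 (g⁻¹ * y * g) (by simpa using hB g⁻¹ (S.inv_mem hg) y hy)
  calc y * (g * x * g⁻¹) = g * ((g⁻¹ * y * g) * x) * g⁻¹ := by group
    _ = g * x * g⁻¹ * y := by rw [h]; group

theorem comm_pow_left {x g : Ω} (h : Commute x ⁅x, g⁆) (n : ℕ) : ⁅x ^ n, g⁆ = ⁅x, g⁆ ^ n := by
  induction n with
  | zero => simp
  | succ n ih =>
    rw [show ⁅x ^ (n + 1), g⁆ = x * ⁅x ^ n, g⁆ * x⁻¹ * ⁅x, g⁆ by
      rw [pow_succ']; simp only [commutatorElement_def]; group, ih, (h.pow_right n).eq,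
      mul_inv_cancel_right, pow_succ]

theorem comm_pow_right {x g : Ω} (h : Commute g ⁅x, g⁆) (n : ℕ) : ⁅x, g ^ n⁆ = ⁅x, g⁆ ^ n := by
  induction n with
  | zero => simp
  | succ n ih =>
    rw [show ⁅x, g ^ (n + 1)⁆ = ⁅x, g⁆ * (g * ⁅x, g ^ n⁆ * g⁻¹) by
      rw [pow_succ']; simp only [commutatorElement_def]; group, ih, (h.pow_right n).eq,
      mul_inv_cancel_right, pow_succ']

/-- The elements whose commutator with `w` lies in a normal subgroup. -/
def commMod (S : Subgroup Ω) {N : Subgroup Ω} (hN : Nml S N) (w : Ω) : Subgroup Ω where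
  carrier := {g | g ∈ S ∧ ⁅w, g⁆ ∈ N}
  one_mem' := ⟨S.one_mem, by simp⟩
  mul_mem' := fun {a b} ha hb => ⟨S.mul_mem ha.1 hb.1, by
    rw [show ⁅w, a * b⁆ = ⁅w, a⁆ * (a * ⁅w, b⁆ * a⁻¹) by simp only [commutatorElement_def]; group]
    exact N.mul_mem ha.2 (hN a ha.1 _ hb.2)⟩
  inv_mem' := fun {a} ha => ⟨S.inv_mem ha.1, by
    rw [show ⁅w, a⁻¹⁆ = a⁻¹ * ⁅w, a⁆⁻¹ * a⁻¹⁻¹ by simp only [commutatorElement_def]; group]
    exact hN _ (S.inv_mem ha.1) _ (N.inv_mem ha.2)⟩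

theorem mem_commMod {N : Subgroup Ω} {hN : Nml S N} {w g : Ω} :
    g ∈ commMod S hN w ↔ g ∈ S ∧ ⁅w, g⁆ ∈ N := Iff.rfl

theorem pow_mem_of_step {A B : Subgroup Ω} (hAB : A ≤ B) (hB : B ≤ S) (hA : Nml B A)
    (hc : Nat.card B = p * Nat.card A) {b : Ω} (hb : b ∈ B) : b ^ p ∈ A := by
  haveI := finite_of_le (hAB.trans hB)
  haveI : (A.subgroupOf B).Normal := ⟨fun a ha g => hA g g.2 a ha⟩
  have hi : (A.subgroupOf B).index = p := by
    have h := Subgroup.card_mul_index (A.subgroupOf B)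
    rw [Nat.card_congr (Subgroup.subgroupOfEquivOfLe hAB).toEquiv, hc, mul_comm p] at h
    exact Nat.eq_of_mul_eq_mul_left Nat.card_pos h
  have h := (A.subgroupOf B).pow_index_mem ⟨b, hb⟩
  rw [hi] at h
  exact h

/-- An element outside a normal subgroup of index `p` generates modulo it. -/
theorem exists_pow_mul {A B : Subgroup Ω} (hAB : A ≤ B) (hB : B ≤ S) (hA : Nml B A)
    (hc : Nat.card B = p * Nat.card A) {b : Ω} (hb : b ∈ B) (hbA : b ∉ A) {g : Ω} (hg : g ∈ B) :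
    ∃ i < p, ∃ a ∈ A, g = b ^ i * a := by
  haveI := finite_of_le (hAB.trans hB)
  haveI : (A.subgroupOf B).Normal := ⟨fun a ha g => hA g g.2 a ha⟩
  have hi : Nat.card (↥B ⧸ A.subgroupOf B) = p := by
    have h := Subgroup.card_eq_card_quotient_mul_card_subgroup (A.subgroupOf B)
    rw [Nat.card_congr (Subgroup.subgroupOfEquivOfLe hAB).toEquiv, hc] at h
    exact (Nat.eq_of_mul_eq_mul_right Nat.card_pos h).symm
  set q := QuotientGroup.mk' (A.subgroupOf B) with hq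
  have hne : q ⟨b, hb⟩ ≠ 1 := fun h => hbA ((QuotientGroup.eq_one_iff _).1 h : _ ∈ A.subgroupOf B)
  obtain ⟨i, hi'⟩ : q ⟨g, hg⟩ ∈ Submonoid.powers (q ⟨b, hb⟩) := mem_powers_of_prime_card hi hne
  refine ⟨i % p, Nat.mod_lt _ hp.out.pos, (b ^ (i % p))⁻¹ * g, ?_, (mul_inv_cancel_left _ _).symm⟩
  have h : ((⟨b, hb⟩ : B) ^ (i % p))⁻¹ * ⟨g, hg⟩ ∈ A.subgroupOf B := by
    rw [← QuotientGroup.eq_one_iff]
    show q _ = 1
    rw [map_mul, map_inv, map_pow, ← hi', inv_mul_eq_one]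
    exact (pow_eq_pow_mod i (by rw [← hi]; exact pow_card_eq_one')).symm
  exact h

theorem card_sup_zpowers (hS : IsPGroup p S) {A : Subgroup Ω} (hA : Nml S A) (hAS : A ≤ S) {a : Ω}
    (ha : a ∈ S) (hap : a ^ p ∈ A) (haA : a ∉ A) :
    Nat.card ↥(A ⊔ Subgroup.zpowers a) = p * Nat.card A := by
  have hle : A ⊔ Subgroup.zpowers a ≤ S := sup_le hAS (Subgroup.zpowers_le.2 ha)
  refine card_mul_eq hS hle (lt_of_le_of_ne le_sup_left fun e =>
    haA (e.ge (Subgroup.mem_sup_right (Subgroup.mem_zpowers a)))) ?_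
  haveI : (A.subgroupOf S).Normal := ⟨fun x hx g => hA g g.2 x hx⟩
  set q := QuotientGroup.mk' (A.subgroupOf S) with hq
  set H := (Subgroup.zpowers (q ⟨a, ha⟩)).comap q with hH
  have hsub : A ⊔ Subgroup.zpowers a ≤ H.map S.subtype := by
    refine sup_le (fun x hx => ⟨⟨x, hAS hx⟩, ?_, rfl⟩)
      (Subgroup.zpowers_le.2 ⟨⟨a, ha⟩, Subgroup.mem_zpowers _, rfl⟩)
    show q ⟨x, hAS hx⟩ ∈ Subgroup.zpowers (q ⟨a, ha⟩)
    rw [show q ⟨x, hAS hx⟩ = 1 from (QuotientGroup.eq_one_iff _).2 hx]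
    exact one_mem _
  haveI := finite_of_le ((Subgroup.map_subtype_le H : H.map S.subtype ≤ S))
  refine (Subgroup.card_le_of_le hsub).trans ?_
  rw [Subgroup.card_map_of_injective S.subtype_injective]
  have h1 := Subgroup.card_mul_index H
  rw [hH, Subgroup.index_comap_of_surjective _ (QuotientGroup.mk'_surjective _),
    Subgroup.card_eq_card_quotient_mul_card_subgroup (A.subgroupOf S),
    ← Subgroup.card_mul_index (Subgroup.zpowers (q ⟨a, ha⟩)), mul_right_comm,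
    Nat.card_congr (Subgroup.subgroupOfEquivOfLe hAS).toEquiv] at h1
  rw [hH, Nat.eq_of_mul_eq_mul_right
    (Nat.pos_of_ne_zero Subgroup.index_ne_zero_of_finite) h1, Nat.card_zpowers]
  refine Nat.mul_le_mul_right _ (orderOf_le_of_pow_eq_one hp.out.pos ?_)
  rw [← map_pow]
  exact (QuotientGroup.eq_one_iff _).2 hap

theorem aut_cast {F : FusionSystem S} {P Q : Subgroup Ω} (h : P = Q) {β : MulAut P}
    (hβ : β ∈ F.autGroup P) : ∃ β' ∈ F.autGroup Q, ∀ x, autMap β' x = autMap β x := by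
  subst h
  exact ⟨β, hβ, fun _ => rfl⟩

theorem isFullyNormalized_of_nml (F : FusionSystem S) {P : Subgroup Ω} (hP : P ≤ S) (hn : Nml S P) :
    F.IsFullyNormalized P :=
  haveI := finite_of_le (normalizerIn_le : normalizerIn S P ≤ S)
  ⟨hP, fun _ _ => Subgroup.card_le_of_le fun _ hx => ⟨hx.1, hn.le_normalizer hP hx.1⟩⟩

theorem normalizerIn_of_nml {P : Subgroup Ω} (hP : P ≤ S) (hn : Nml S P) : normalizerIn S P = S :=
  inf_eq_left.2 (hn.le_normalizer hP)

end More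

section Aut

variable {F : FusionSystem S} {P : Subgroup Ω}

/-- `α` carries `H` into itself. -/
def Inv (α : MulAut P) (H : Subgroup Ω) : Prop := ∀ x ∈ H, autMap α x ∈ H

theorem autMap_mul' (α : MulAut P) {x y : Ω} (hx : x ∈ P) (hy : y ∈ P) :
    autMap α (x * y) = autMap α x * autMap α y := by
  rw [autMap_apply α hx, autMap_apply α hy, autMap_apply α (P.mul_mem hx hy)]
  exact congrArg Subtype.val (map_mul α (⟨x, hx⟩ : P) ⟨y, hy⟩)

theorem autMap_inv' (α : MulAut P) {x : Ω} (hx : x ∈ P) : autMap α x⁻¹ = (autMap α x)⁻¹ := by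
  rw [autMap_apply α hx, autMap_apply α (P.inv_mem hx)]
  exact congrArg Subtype.val (map_inv α (⟨x, hx⟩ : P))

theorem autMap_one' (α : MulAut P) : autMap α (1 : Ω) = 1 := by
  rw [autMap_apply α P.one_mem]
  exact congrArg Subtype.val (map_one α)

theorem autMap_pow' (α : MulAut P) {x : Ω} (hx : x ∈ P) (n : ℕ) :
    autMap α (x ^ n) = autMap α x ^ n := by
  rw [autMap_apply α hx, autMap_apply α (P.pow_mem hx n)]
  exact congrArg Subtype.val (map_pow α (⟨x, hx⟩ : P) n)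

theorem autMap_comm (α : MulAut P) {x y : Ω} (hx : x ∈ P) (hy : y ∈ P) :
    autMap α ⁅x, y⁆ = ⁅autMap α x, autMap α y⁆ := by
  simp only [commutatorElement_def]
  rw [autMap_mul' α (P.mul_mem (P.mul_mem hx hy) (P.inv_mem hx)) (P.inv_mem hy),
    autMap_mul' α (P.mul_mem hx hy) (P.inv_mem hx), autMap_mul' α hx hy, autMap_inv' α hx,
    autMap_inv' α hy]

theorem autMap_commute (α : MulAut P) {x y : Ω} (hx : x ∈ P) (hy : y ∈ P) (h : Commute x y) :
    Commute (autMap α x) (autMap α y) := by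
  rw [← commutatorElement_eq_one_iff_commute, ← autMap_comm α hx hy,
    commutatorElement_eq_one_iff_commute.2 h, autMap_one']

theorem autMap_inj (α : MulAut P) {x y : Ω} (hx : x ∈ P) (hy : y ∈ P)
    (h : autMap α x = autMap α y) : x = y := by
  rw [autMap_apply α hx, autMap_apply α hy] at h
  exact congrArg Subtype.val (α.injective (Subtype.ext h))

theorem autMap_inv_apply' (α : MulAut P) {x : Ω} (hx : x ∈ P) : autMap α⁻¹ (autMap α x) = x := by
  rw [← autMap_mul α⁻¹ α hx, inv_mul_cancel, autMap_apply _ hx]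
  rfl

/-- The subgroup of `P` sent by `α` into `H`. -/
def pullAut (α : MulAut P) (H : Subgroup Ω) : Subgroup Ω :=
  (H.comap (P.subtype.comp α.toMonoidHom)).map P.subtype

theorem mem_pullAut {α : MulAut P} {H : Subgroup Ω} {x : Ω} :
    x ∈ pullAut α H ↔ x ∈ P ∧ autMap α x ∈ H := by
  constructor
  · rintro ⟨y, hy, rfl⟩
    exact ⟨y.2, by rw [Subgroup.subtype_apply, autMap_coe]; exact hy⟩
  · rintro ⟨hx, h⟩
    exact ⟨⟨x, hx⟩, by rw [autMap_apply α hx] at h; exact h, rfl⟩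

theorem Inv.inf {α : MulAut P} {A B : Subgroup Ω} (hA : Inv α A) (hB : Inv α B) : Inv α (A ⊓ B) :=
  fun x hx => ⟨hA x hx.1, hB x hx.2⟩

theorem Inv.sup {α : MulAut P} {A B : Subgroup Ω} (hAP : A ≤ P) (hBP : B ≤ P) (hA : Inv α A)
    (hB : Inv α B) : Inv α (A ⊔ B) := fun x hx =>
  (mem_pullAut.1 ((sup_le (fun a ha => mem_pullAut.2 ⟨hAP ha, Subgroup.mem_sup_left (hA a ha)⟩)
    fun b hb => mem_pullAut.2 ⟨hBP hb, Subgroup.mem_sup_right (hB b hb)⟩ :
      A ⊔ B ≤ pullAut α (A ⊔ B)) hx)).2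

theorem Inv.commutator {α : MulAut P} {A B : Subgroup Ω} (hAP : A ≤ P) (hBP : B ≤ P) (hA : Inv α A)
    (hB : Inv α B) : Inv α ⁅A, B⁆ := fun x hx =>
  (mem_pullAut.1 ((Subgroup.commutator_le.2 fun a ha b hb => mem_pullAut.2
    ⟨by
      rw [commutatorElement_def]
      exact P.mul_mem (P.mul_mem (P.mul_mem (hAP ha) (hBP hb)) (P.inv_mem (hAP ha)))
        (P.inv_mem (hBP hb)),
      autMap_comm α (hAP ha) (hBP hb) ▸ Subgroup.commutator_mem_commutator (hA a ha) (hB b hb)⟩ :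
      ⁅A, B⁆ ≤ pullAut α ⁅A, B⁆) hx)).2

theorem inv_self (α : MulAut P) : Inv α P := fun _ hx => autMap_mem α hx

theorem Inv.image_eq {α : MulAut P} (hP : P ≤ S) {H : Subgroup Ω} (hHP : H ≤ P) (h : Inv α H) :
    autMap α '' (H : Set Ω) = H := by
  haveI := finite_of_le (hHP.trans hP)
  refine Set.eq_of_subset_of_ncard_le (by rintro y ⟨x, hx, rfl⟩; exact h x hx)
    (by rw [Set.InjOn.ncard_image fun x hx y hy => autMap_inj α (hHP hx) (hHP hy)]) (Set.toFinite _)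

theorem Inv.exists_preimage {α : MulAut P} (hP : P ≤ S) {H : Subgroup Ω} (hHP : H ≤ P)
    (h : Inv α H) {y : Ω} (hy : y ∈ H) : ∃ x ∈ H, autMap α x = y :=
  (h.image_eq hP hHP).ge hy

/-- The centralizer in `P` of an invariant subgroup is invariant. -/
theorem Inv.centralizer {α : MulAut P} (hP : P ≤ S) {H : Subgroup Ω} (hHP : H ≤ P) (h : Inv α H) :
    Inv α (centralizerIn P H) := fun x hx => by
  rw [mem_centralizerIn] at hx ⊢
  refine ⟨autMap_mem α hx.1, fun y hy => ?_⟩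
  obtain ⟨w, hw, rfl⟩ := h.exists_preimage hP hHP hy
  exact (autMap_commute α (hHP hw) hx.1 (hx.2 w hw)).eq

end Aut

end Cfsg.Agent.Cores.FusFive
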